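import Groth.Agent.Lib.GammaD.Kernel2
import Mathlib.Algebra.DualNumber
import Mathlib.Algebra.Polynomial.Taylor
import Mathlib.RingTheory.Localization.Away.Basic
import Mathlib.RingTheory.Flat.Basic
import Mathlib.LinearAlgebra.TensorProduct.Pi
import Mathlib.Algebra.Algebra.Rat
import Mathlib.Tactic.LinearCombination
import Mathlib.Tactic.Ring
import Mathlib.Tactic.Abel

/-! # In characteristic zero the kernel is cut out by the trace -/

universe u

open scoped TensorProduct DualNumber
open Polynomial

namespace Groth.Agent.GammaD.CharZeroKer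

variable {A : Type u} [CommRing A] {B : Type u} [CommRing B] [Algebra A B] {d : ℕ} (F : PolLaw.MulLaw A B A d)

section tr

variable {R : Type u} [CommRing R] [Algebra A R]

/-- The constant embedding. -/
noncomputable abbrev io (R : Type u) [CommRing R] [Algebra A R] : R ⊗[A] B →ₐ[A] R[ε] ⊗[A] B :=
  Algebra.TensorProduct.map (TrivSqZeroExt.inlAlgHom A R R) (AlgHom.id A B)

/-- The trace of a scalar law. -/
noncomputable def tr (R : Type u) [CommRing R] [Algebra A R] (z : R ⊗[A] B) : R :=
  TrivSqZeroExt.snd (nv F R[ε] (1 + (DualNumber.eps : R[ε]) • io R z))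

theorem map_smul' {R' : Type u} [CommRing R'] [Algebra A R'] (φ : R →ₐ[A] R') (s : R) (z : R ⊗[A] B) :
    Algebra.TensorProduct.map φ (AlgHom.id A B) (s • z) = φ s • Algebra.TensorProduct.map φ (AlgHom.id A B) z := by
  induction z using TensorProduct.induction_on with
  | zero => simp
  | tmul t b => simp [TensorProduct.smul_tmul']
  | add a b ha hb => simp only [smul_add, map_add, ha, hb]

theorem map_map' {R' R'' : Type u} [CommRing R'] [Algebra A R'] [CommRing R''] [Algebra A R'']
    (g : R' →ₐ[A] R'') (f : R →ₐ[A] R') (z : R ⊗[A] B) :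
    Algebra.TensorProduct.map g (AlgHom.id A B) (Algebra.TensorProduct.map f (AlgHom.id A B) z) =
      Algebra.TensorProduct.map (g.comp f) (AlgHom.id A B) z := by
  induction z using TensorProduct.induction_on with
  | zero => simp
  | tmul t b => rfl
  | add a b ha hb => simp only [map_add, ha, hb]

theorem nv_eps (z : R ⊗[A] B) :
    nv F R[ε] (1 + (DualNumber.eps : R[ε]) • io R z) = 1 + tr F R z • (DualNumber.eps : R[ε]) := by
  refine TrivSqZeroExt.ext ?_ ?_
  · have h := nv_compat (F := F) ((TrivSqZeroExt.fstHom R R R).restrictScalars A) (1 + (DualNumber.eps : R[ε]) • io R z)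
    rw [map_add, map_one, map_smul', show ((TrivSqZeroExt.fstHom R R R).restrictScalars A) (DualNumber.eps : R[ε]) = 0 from
      TrivSqZeroExt.fst_inr R 1, zero_smul, add_zero, nv_one] at h
    refine h.trans ?_
    simp
  · simp [tr]

theorem tr_add (z z' : R ⊗[A] B) : tr F R (z + z') = tr F R z + tr F R z' := by
  have h : (1 + (DualNumber.eps : R[ε]) • io R (z + z')) =
      (1 + (DualNumber.eps : R[ε]) • io R z) * (1 + (DualNumber.eps : R[ε]) • io R z') := by
    rw [map_add, smul_add, add_mul, one_mul, mul_add, mul_one, smul_mul_smul_comm, DualNumber.eps_mul_eps,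
      zero_smul, add_zero]
    abel
  have h2 := congrArg (nv F R[ε]) h
  rw [nv_mul, nv_eps, nv_eps, nv_eps] at h2
  simpa [DualNumber.snd_mul, add_comm] using congrArg TrivSqZeroExt.snd h2

theorem tr_map {R' : Type u} [CommRing R'] [Algebra A R'] (φ : R →ₐ[A] R') (z : R ⊗[A] B) :
    φ (tr F R z) = tr F R' (Algebra.TensorProduct.map φ (AlgHom.id A B) z) := by
  let φε : R[ε] →ₐ[A] R'[ε] := DualNumber.lift ⟨((TrivSqZeroExt.inlAlgHom A R' R').comp φ, DualNumber.eps),
    DualNumber.eps_mul_eps, fun _ => mul_comm _ _⟩
  have h := nv_compat (F := F) φε (1 + (DualNumber.eps : R[ε]) • io R z)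
  have he : φε (DualNumber.eps : R[ε]) = DualNumber.eps := DualNumber.lift_apply_eps _
  have hi : φε.comp (TrivSqZeroExt.inlAlgHom A R R) = (TrivSqZeroExt.inlAlgHom A R' R').comp φ :=
    AlgHom.ext fun r => DualNumber.lift_apply_inl _ r
  rw [map_add, map_one, map_smul', he, map_map', hi, ← map_map', nv_eps, nv_eps] at h
  have h2 := congrArg TrivSqZeroExt.snd h
  rw [show (tr F R z • (DualNumber.eps : R[ε])) = TrivSqZeroExt.inl (tr F R z) * DualNumber.eps by
    rw [TrivSqZeroExt.inl_mul_eq_smul], map_add, map_one, map_mul, he,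
    show φε (TrivSqZeroExt.inl (tr F R z)) = TrivSqZeroExt.inl (φ (tr F R z)) from DualNumber.lift_apply_inl _ _] at h2
  simpa using h2

theorem tr_smul (c : R) (z : R ⊗[A] B) : tr F R (c • z) = c * tr F R z := by
  let σ : R[ε] →ₐ[A] R[ε] := DualNumber.lift ⟨(TrivSqZeroExt.inlAlgHom A R R, TrivSqZeroExt.inl c * DualNumber.eps),
    by rw [mul_mul_mul_comm, DualNumber.eps_mul_eps, mul_zero], fun _ => mul_comm _ _⟩
  have he : σ (DualNumber.eps : R[ε]) = TrivSqZeroExt.inl c * DualNumber.eps := DualNumber.lift_apply_eps _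
  have hi : σ.comp (TrivSqZeroExt.inlAlgHom A R R) = TrivSqZeroExt.inlAlgHom A R R :=
    AlgHom.ext fun r => DualNumber.lift_apply_inl _ r
  have h := nv_compat (F := F) σ (1 + (DualNumber.eps : R[ε]) • io R z)
  rw [map_add, map_one, map_smul', he, map_map', hi] at h
  rw [mul_comm (TrivSqZeroExt.inl c) (DualNumber.eps : R[ε]), mul_smul] at h
  have h3 : (TrivSqZeroExt.inl c : R[ε]) • io R z = io R (c • z) := by
    rw [show io R (c • z) = (TrivSqZeroExt.inlAlgHom A R R c) • io R z from map_smul' (TrivSqZeroExt.inlAlgHom A R R) c z]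
    rfl
  rw [h3, nv_eps, nv_eps, show (tr F R z • (DualNumber.eps : R[ε])) = TrivSqZeroExt.inl (tr F R z) * DualNumber.eps by
    rw [TrivSqZeroExt.inl_mul_eq_smul], map_add, map_one, map_mul, he,
    show σ (TrivSqZeroExt.inl (tr F R z)) = TrivSqZeroExt.inl (tr F R z) from DualNumber.lift_apply_inl _ _] at h
  simpa [mul_comm] using (congrArg TrivSqZeroExt.snd h).symm

/-- The trace as a linear map. -/
noncomputable def trL (R : Type u) [CommRing R] [Algebra A R] : R ⊗[A] B →ₗ[R] R where
  toFun := tr F R
  map_add' := tr_add F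
  map_smul' := tr_smul F

theorem tr_mul_eq_zero (y : R ⊗[A] B) (hy : ∀ z, tr F R (y * z) = 0) {R' : Type u} [CommRing R'] [Algebra A R']
    (φ : R →ₐ[A] R') (z : R' ⊗[A] B) : tr F R' (Algebra.TensorProduct.map φ (AlgHom.id A B) y * z) = 0 := by
  show trL F R' _ = 0
  induction z using TensorProduct.induction_on with
  | zero => simp
  | add a b ha hb => rw [mul_add, map_add, ha, hb, add_zero]
  | tmul r b =>
    rw [show r ⊗ₜ[A] b = r • Algebra.TensorProduct.map φ (AlgHom.id A B) ((1 : R) ⊗ₜ[A] b) by
      simp [TensorProduct.smul_tmul'], mul_smul_comm, ← map_mul, map_smul]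
    show r * tr F R' _ = 0
    rw [← tr_map F φ, hy, map_zero, mul_zero]

theorem eq_C_of_derivative [Algebra ℚ A] (p : Polynomial R) (h : derivative p = 0) : p = C (p.coeff 0) := by
  refine Polynomial.ext fun n => ?_
  cases n with
  | zero => simp
  | succ n =>
    rw [coeff_C, if_neg (Nat.succ_ne_zero n)]
    have h1 := congrArg (fun q => q.coeff n) h
    simp only [coeff_derivative, coeff_zero] at h1
    have hu : IsUnit ((n : R) + 1) := by
      have := ((isUnit_iff_ne_zero.2 (Nat.cast_add_one_ne_zero n : ((n : ℚ) + 1) ≠ 0)).map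
        ((algebraMap A R).comp (algebraMap ℚ A)))
      simpa using this
    exact hu.mul_left_eq_zero.1 h1

theorem nv_add_of_tr [Algebra ℚ A] (x y : R ⊗[A] B) (hy : ∀ z, tr F R (y * z) = 0) :
    nv F R (x + y) = nv F R x := by
  let cP : R →ₐ[A] Polynomial R := IsScalarTower.toAlgHom A R (Polynomial R)
  let cQ : Polynomial R →ₐ[A] Polynomial (Polynomial R) :=
    IsScalarTower.toAlgHom A (Polynomial R) (Polynomial (Polynomial R))
  let aP : Polynomial R ⊗[A] B :=
    (Polynomial.X : Polynomial R) • 1 + Algebra.TensorProduct.map cP (AlgHom.id A B) x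
  let yP := Algebra.TensorProduct.map cP (AlgHom.id A B) y
  let yQ := Algebra.TensorProduct.map cQ (AlgHom.id A B) yP
  let a : Polynomial (Polynomial R) ⊗[A] B :=
    Algebra.TensorProduct.map cQ (AlgHom.id A B) aP + (Polynomial.X : Polynomial (Polynomial R)) • yQ
  set g := nv F (Polynomial (Polynomial R)) a with hg
  -- the constant term is monic
  have hg0 : (nv F (Polynomial R) aP).Monic := by
    have h := monic_C_mul_chi (F := F) (-x)
    have e : C ((-1 : R) ^ d) * chi F R (-x) = nv F (Polynomial R) aP := by
      rw [chi, map_pow, map_neg, map_one, ← nv_smul]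
      congr 1
      simp only [aP, cP, map_neg, Algebra.smul_def, Algebra.TensorProduct.algebraMap_apply, Algebra.algebraMap_self,
        RingHom.id_apply, TensorProduct.neg_tmul, ← Algebra.TensorProduct.one_def, mul_one]
      rw [Algebra.TensorProduct.one_def, TensorProduct.smul_tmul', smul_eq_mul, mul_one]
      simp only [← Algebra.TensorProduct.one_def]
      ring
    rwa [e] at h
  have hcoeff0 : g.coeff 0 = nv F (Polynomial R) aP := by
    let ev : Polynomial (Polynomial R) →ₐ[A] Polynomial R := (Polynomial.aeval (0 : Polynomial R)).restrictScalars A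
    have h : ev g = nv F (Polynomial R) aP := by
      rw [hg, nv_compat, map_add, map_smul', show ev Polynomial.X = 0 by simp [ev], zero_smul, add_zero, map_map',
        show ev.comp cQ = AlgHom.id A _ from AlgHom.ext fun r => by simp [ev, cQ], Algebra.TensorProduct.map_id,
        AlgHom.id_apply]
    rw [← h, Polynomial.coeff_zero_eq_eval_zero]
    rfl
  -- the derivative dies after inverting `g`
  let L := Localization.Away g
  let cL : Polynomial (Polynomial R) →ₐ[A] L := IsScalarTower.toAlgHom A _ L
  let aL := Algebra.TensorProduct.map cL (AlgHom.id A B) a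
  let yL := Algebra.TensorProduct.map cL (AlgHom.id A B) yQ
  have hu : IsUnit (nv F L aL) := by
    rw [← nv_compat, ← hg]
    exact IsLocalization.Away.algebraMap_isUnit g
  obtain ⟨z, k, hk, hzk⟩ : ∃ z k, k ∈ PolLaw.kerBC F.law L ∧ aL * z = 1 + k := by
    have hmem := aeval_chi_mem_kerBC (F := F) aL
    have h0 : (chi F L aL).coeff 0 = nv F L aL := by
      rw [Polynomial.coeff_zero_eq_eval_zero]
      show ((Polynomial.aeval (0 : L)).restrictScalars A) (chi F L aL) = _
      rw [chi, nv_compat, map_sub, map_map', Algebra.TensorProduct.map_tmul]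
      rw [show ((Polynomial.aeval (0 : L)).restrictScalars A).comp (IsScalarTower.toAlgHom A L (Polynomial L)) =
        AlgHom.id A L from AlgHom.ext fun r => by simp, Algebra.TensorProduct.map_id, AlgHom.id_apply,
        AlgHom.restrictScalars_apply, Polynomial.aeval_X, TensorProduct.zero_tmul, sub_zero]
    rw [← Polynomial.X_mul_divX_add (chi F L aL), map_add, map_mul, Polynomial.aeval_X, Polynomial.aeval_C,
      h0] at hmem
    refine ⟨(-(↑hu.unit⁻¹ : L)) • Polynomial.aeval aL (chi F L aL).divX,
      (-(↑hu.unit⁻¹ : L)) • (aL * Polynomial.aeval aL (chi F L aL).divX + algebraMap L _ (nv F L aL)),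
      Submodule.smul_of_tower_mem _ _ hmem, ?_⟩
    rw [smul_add, mul_smul_comm]
    have : (1 : L ⊗[A] B) + (-(↑hu.unit⁻¹ : L)) • algebraMap L (L ⊗[A] B) (nv F L aL) = 0 := by
      rw [Algebra.TensorProduct.algebraMap_apply, Algebra.algebraMap_self, RingHom.id_apply,
        TensorProduct.smul_tmul', smul_eq_mul, neg_mul, IsUnit.val_inv_mul, Algebra.TensorProduct.one_def,
        ← TensorProduct.add_tmul, add_neg_cancel, TensorProduct.zero_tmul]
    rw [add_left_comm, this, add_zero]
  have hder : algebraMap (Polynomial (Polynomial R)) L (derivative g) = 0 := by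
    let σ : Polynomial (Polynomial R) →ₐ[A] L[ε] :=
      { Polynomial.eval₂RingHom ((TrivSqZeroExt.inlHom L L).comp
          ((algebraMap (Polynomial (Polynomial R)) L).comp Polynomial.C))
          (TrivSqZeroExt.inl (algebraMap (Polynomial (Polynomial R)) L Polynomial.X) + DualNumber.eps) with
        commutes' := fun r => by
          simp [IsScalarTower.algebraMap_apply A (Polynomial R) (Polynomial (Polynomial R))]
          rw [IsScalarTower.algebraMap_apply A L L[ε] r, TrivSqZeroExt.algebraMap_eq_inl,
            IsScalarTower.algebraMap_apply A (Polynomial (Polynomial R)) L]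
          rfl }
    have hσC : σ.comp cQ = (TrivSqZeroExt.inlAlgHom A L L).comp (cL.comp cQ) :=
      AlgHom.ext fun r => by simp [σ, cQ, cL]
    have hσX : σ Polynomial.X = TrivSqZeroExt.inl (cL Polynomial.X) + DualNumber.eps := by simp [σ, cL]
    have h1 := nv_compat (F := F) σ a
    have hσa : Algebra.TensorProduct.map σ (AlgHom.id A B) a = io L aL + (DualNumber.eps : L[ε]) • io L yL := by
      simp only [a, aL, yL, yQ, map_add, map_smul', map_map', hσC, hσX]
      rw [add_smul, ← AlgHom.comp_assoc, ← add_assoc]
      rfl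
    have hfac : io L aL + (DualNumber.eps : L[ε]) • io L yL + (DualNumber.eps : L[ε]) • io L yL * io L k =
        io L aL * (1 + (DualNumber.eps : L[ε]) • io L (yL * z)) := by
      rw [mul_add, mul_one, mul_smul_comm, smul_mul_assoc, ← map_mul, ← map_mul, add_assoc, ← smul_add,
        ← map_add, mul_left_comm aL yL z, hzk, mul_add, mul_one]
    have h2 : nv F L[ε] (io L aL + (DualNumber.eps : L[ε]) • io L yL) =
        TrivSqZeroExt.inlAlgHom A L L (nv F L aL) := by
      have h3 := nv_add_of_mem hk (TrivSqZeroExt.inlAlgHom A L L)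
        (io L aL + (DualNumber.eps : L[ε]) • io L yL) ((DualNumber.eps : L[ε]) • io L yL)
      rw [hfac, nv_mul, nv_eps] at h3
      rw [← h3, ← nv_compat]
      have ht : tr F L (yL * z) = 0 := by
        have := tr_mul_eq_zero F y hy (cL.comp (cQ.comp cP)) z
        rw [← this]
        simp only [yL, yQ, yP, map_map', AlgHom.comp_assoc]
      rw [ht, zero_smul, add_zero, mul_one]
    rw [hσa, h2, ← nv_compat, ← hg] at h1
    have h5 : σ g = TrivSqZeroExt.inl (algebraMap _ L g) + TrivSqZeroExt.inl (algebraMap _ L (derivative g)) * DualNumber.eps := by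
      have hgen : ∀ p : Polynomial (Polynomial R), σ p =
          TrivSqZeroExt.inl (algebraMap _ L p) + TrivSqZeroExt.inl (algebraMap _ L (derivative p)) * DualNumber.eps := by
        intro p
        induction p using Polynomial.induction_on with
        | C r => simp [σ]
        | add p q hp hq =>
          rw [map_add, hp, hq, derivative_add, map_add, map_add, TrivSqZeroExt.inl_add, TrivSqZeroExt.inl_add]
          ring
        | monomial n r ih =>
          rw [pow_succ, ← mul_assoc, map_mul, ih, hσX, derivative_mul (g := Polynomial.X), derivative_X, mul_one]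
          simp only [map_mul, map_add, TrivSqZeroExt.inl_mul, TrivSqZeroExt.inl_add]
          have he : (DualNumber.eps : L[ε]) * DualNumber.eps = 0 := DualNumber.eps_mul_eps
          show _ = _
          simp only [cL, IsScalarTower.coe_toAlgHom']
          linear_combination
            (TrivSqZeroExt.inl (algebraMap (Polynomial (Polynomial R)) L (derivative (C r * Polynomial.X ^ n))) : L[ε]) * he
      exact hgen g
    rw [h5] at h1
    simpa [cL] using congrArg TrivSqZeroExt.snd h1
  obtain ⟨⟨_, n, rfl⟩, hn⟩ := (IsLocalization.map_eq_zero_iff (Submonoid.powers g) L _).1 hder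
  have hgnz : ∀ h, g * h = 0 → h = 0 := by
    intro h hh
    by_contra hne
    have := congrArg (fun p => p.coeff h.natTrailingDegree) hh
    simp only [coeff_zero, coeff_mul] at this
    rw [Finset.sum_eq_single (0, h.natTrailingDegree) (fun b hb hb' => by
        rw [coeff_eq_zero_of_lt_natTrailingDegree (n := b.2), mul_zero]
        rw [Finset.mem_antidiagonal] at hb
        have : b.1 ≠ 0 := fun e => hb' (Prod.ext e (by simpa [e] using hb))
        omega) (fun h0 => absurd (by simp) h0), hcoeff0] at this
    exact hne (trailingCoeff_eq_zero.1 (hg0.mul_right_eq_zero_iff.1 this))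
  have hd0 : derivative g = 0 := by
    have : ∀ m, g ^ m * derivative g = 0 → derivative g = 0 := by
      intro m
      induction m with
      | zero => simp
      | succ m ih => intro h; rw [pow_succ', mul_assoc] at h; exact ih (hgnz _ h)
    exact this n hn
  have hconst := eq_C_of_derivative (A := A) g hd0
  -- specialise
  let ev : R → (Polynomial (Polynomial R) →ₐ[A] R) := fun v =>
    ((Polynomial.aeval (0 : R)).restrictScalars A).comp ((Polynomial.aeval (C v : Polynomial R)).restrictScalars A)
  have hev : ∀ v, ev v g = nv F R (x + v • y) := fun v => by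
    rw [hg, nv_compat]
    congr 1
    have h1 : (ev v).comp (cQ.comp cP) = AlgHom.id A R := AlgHom.ext fun r => by simp [ev, cQ, cP]
    have h2 : ev v Polynomial.X = v := by simp [ev]
    have h3 : ev v (cQ Polynomial.X) = 0 := by simp [ev, cQ]
    simp only [a, aP, yQ, yP, map_add, map_smul', map_map', map_one, h2, h3, zero_smul, zero_add, h1,
      Algebra.TensorProduct.map_id, AlgHom.id_apply]
  have h := (hev 1).symm.trans ((show ev 1 g = ev 0 g by
    rw [hconst]; simp [ev]).trans (hev 0))
  rwa [one_smul, zero_smul, add_zero] at h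

end tr

theorem mem_kerBC_iff_tr [Algebra ℚ A] {A' : Type u} [CommRing A'] [Algebra A A'] (e : A' ⊗[A] B) :
    e ∈ PolLaw.kerBC F.law A' ↔ ∀ z, tr F A' (e * z) = 0 := by
  constructor
  · intro h z
    have h2 := nv_add_of_mem (F := F) h (TrivSqZeroExt.inlAlgHom A A' A') 1
      ((DualNumber.eps : A'[ε]) • io A' z)
    rw [nv_one, smul_mul_assoc, ← map_mul, mul_comm, nv_eps] at h2
    simpa using congrArg TrivSqZeroExt.snd h2
  · intro h
    refine mem_kerBC_iff.2 fun R _ _ _ _ x w => nv_add_of_tr F x _ fun z => ?_
    rw [mul_comm w, mul_assoc]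
    exact tr_mul_eq_zero F e h _ _

theorem main [Algebra ℚ A] [Module.Finite A B] (A' : Type u) [CommRing A'] [Algebra A A'] [Module.Flat A A'] :
    (PolLaw.ker F.law).map (Algebra.TensorProduct.includeRight : B →ₐ[A] A' ⊗[A] B) =
      PolLaw.kerBC F.law A' := by
  classical
  refine le_antisymm map_ker_le_kerBC fun e he => ?_
  obtain ⟨n, s, hs⟩ := Module.Finite.exists_fin (R := A) (M := B)
  let Φ : B →ₗ[A] (Fin n → A) := LinearMap.pi fun j =>
    (trL F A).restrictScalars A ∘ₗ (TensorProduct.mk A A B 1) ∘ₗ (LinearMap.mulRight A (s j))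
  have hΦ : ∀ b, b ∈ LinearMap.ker Φ → b ∈ PolLaw.ker F.law := by
    intro b hb
    refine one_tmul_mem_kerBC_self.1 ((mem_kerBC_iff_tr F _).2 fun z => ?_)
    show trL F A _ = 0
    induction z using TensorProduct.induction_on with
    | zero => simp
    | add a b ha hb => rw [mul_add, map_add, ha, hb, add_zero]
    | tmul a c =>
      have hc : c ∈ Submodule.span A (Set.range s) := hs ▸ trivial
      induction hc using Submodule.span_induction with
      | mem c hc =>
        obtain ⟨j, rfl⟩ := hc
        have : trL F A ((1 : A) ⊗ₜ[A] (b * s j)) = 0 := congrFun hb j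
        rw [show ((1 : A) ⊗ₜ[A] b) * (a ⊗ₜ[A] s j) = a • ((1 : A) ⊗ₜ[A] (b * s j)) by
          simp [TensorProduct.smul_tmul'], map_smul, this, smul_zero]
      | zero => simp
      | add u v _ _ hu hv => rw [TensorProduct.tmul_add, mul_add, map_add, hu, hv, add_zero]
      | smul r u _ hu => rw [TensorProduct.tmul_smul, mul_smul_comm, map_smul, hu, smul_zero]
  have h0 : Φ.lTensor A' e = 0 := by
    refine (TensorProduct.piScalarRight A A' A' (Fin n)).injective ?_
    rw [map_zero]
    funext j
    have hnat : ∀ z : A' ⊗[A] B, (TensorProduct.piScalarRight A A' A' (Fin n) (Φ.lTensor A' z)) j =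
        trL F A' (z * ((1 : A') ⊗ₜ[A] s j)) := by
      intro z
      induction z using TensorProduct.induction_on with
      | zero => simp
      | add a b ha hb => rw [map_add, map_add, Pi.add_apply, ha, hb, add_mul, map_add]
      | tmul a b =>
        rw [LinearMap.lTensor_tmul, TensorProduct.piScalarRight_apply, TensorProduct.piScalarRightHom_tmul,
          show (a ⊗ₜ[A] b) * ((1 : A') ⊗ₜ[A] s j) = a • ((1 : A') ⊗ₜ[A] (b * s j)) by
            simp [TensorProduct.smul_tmul'], map_smul]
        show Φ b j • a = a • tr F A' _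
        have h := tr_map F (Algebra.ofId A A') ((1 : A) ⊗ₜ[A] (b * s j))
        rw [Algebra.TensorProduct.map_tmul, map_one, AlgHom.id_apply] at h
        rw [← h, smul_eq_mul, Algebra.smul_def, mul_comm]
        rfl
    rw [hnat, Pi.zero_apply]
    exact (mem_kerBC_iff_tr F e).1 he _
  obtain ⟨u, rfl⟩ := ((Module.Flat.lTensor_exact A' (LinearMap.exact_subtype_ker_map Φ)) e).1 h0
  clear h0 he
  induction u using TensorProduct.induction_on with
  | zero => rw [map_zero]; exact zero_mem _
  | add a b ha hb => rw [map_add]; exact add_mem ha hb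
  | tmul a b =>
    show a ⊗ₜ[A] (b : B) ∈ _
    rw [show a ⊗ₜ[A] (b : B) = a • (Algebra.TensorProduct.includeRight (R := A) (A := A') (b : B)) by
      simp [TensorProduct.smul_tmul']]
    exact Submodule.smul_of_tower_mem _ a (Ideal.mem_map_of_mem _ (hΦ _ b.2))

end Groth.Agent.GammaD.CharZeroKer
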