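import Groth.Prelude.Def_PolLaw
import Mathlib.RingTheory.DividedPowerAlgebra.Init
import Mathlib.RingTheory.LocalRing.ResidueField.Ideal
import Mathlib.RingTheory.Localization.AtPrime.Basic
import Mathlib.Algebra.Module.LocalizedModule.Basic
import Mathlib.RingTheory.Nakayama
import Mathlib.RingTheory.Localization.Finiteness
import Mathlib.RingTheory.IntegralDomain
import Mathlib.LinearAlgebra.Dimension.FreeAndStrongRankCondition
import Mathlib.LinearAlgebra.Dimension.Constructions
import Mathlib.RingTheory.TensorProduct.Finite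
import Mathlib.LinearAlgebra.Vandermonde
import Mathlib.RingTheory.MvPolynomial.Ideal
import Mathlib.SetTheory.Cardinal.Basic
import Mathlib.LinearAlgebra.TensorProduct.Quotient
import Mathlib.LinearAlgebra.Dimension.Free
import Mathlib.Tactic.LinearCombination

/-! # When the `d`-th divided powers span the degree `d` piece of the divided power algebra -/

universe u

open scoped TensorProduct
open DividedPowerAlgebra

namespace Groth.Agent.GammaD.DPSpan26

variable {A M : Type u} [CommRing A] [AddCommGroup M] [Module A M]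

/-! ## sufficiency -/

/-- Elements which land in `S` after multiplication with some element outside `p`. -/
def sat {N : Type*} [AddCommGroup N] [Module A N] (S : Submodule A N) (p : Ideal A) [p.IsPrime] : Submodule A N where
  carrier := {x | ∃ s ∉ p, s • x ∈ S}
  zero_mem' := ⟨1, p.one_notMem, by simp⟩
  add_mem' := by
    rintro x y ⟨s, hs, hx⟩ ⟨t, ht, hy⟩
    refine ⟨s * t, ‹p.IsPrime›.mul_notMem hs ht, ?_⟩
    rw [smul_add, mul_comm s t, mul_smul, mul_comm t s, mul_smul]
    exact S.add_mem (S.smul_mem t hx) (S.smul_mem s hy)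
  smul_mem' := by
    rintro a x ⟨s, hs, hx⟩
    exact ⟨s, hs, by rw [smul_comm]; exact S.smul_mem a hx⟩

theorem vandermonde_mem {N : Type*} [AddCommGroup N] [Module A N] (S : Submodule A N) (p : Ideal A) [p.IsPrime]
    {e : ℕ} (c : Fin e → A) (hc : ∀ i j, i ≠ j → c i - c j ∉ p) (y : Fin e → N)
    (h : ∀ i, ∑ j : Fin e, c i ^ (j : ℕ) • y j ∈ sat S p) (k : Fin e) : y k ∈ sat S p := by
  classical
  let V := Matrix.vandermonde c
  have hdet : V.det ∉ p := by
    rw [Matrix.det_vandermonde, Ideal.IsPrime.prod_mem_iff]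
    rintro ⟨i, -, hi⟩
    obtain ⟨j, hj, hij⟩ := (Ideal.IsPrime.prod_mem_iff).1 hi
    exact hc j i (Finset.mem_Ioi.1 hj).ne' hij
  have h1 : ∑ i, V.adjugate k i • ∑ j : Fin e, c i ^ (j : ℕ) • y j = V.det • y k := by
    simp only [Finset.smul_sum, smul_smul]
    rw [Finset.sum_comm]
    simp only [← Finset.sum_smul]
    have h2 : ∀ j : Fin e, ∑ i, V.adjugate k i * c i ^ (j : ℕ) = if k = j then V.det else 0 := by
      intro j
      have := congrFun (congrFun V.adjugate_mul k) j
      rw [Matrix.mul_apply, Matrix.smul_apply, Matrix.one_apply, smul_eq_mul, mul_ite, mul_one, mul_zero] at this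
      exact this
    simp only [h2, ite_smul, zero_smul, Finset.sum_ite_eq, Finset.mem_univ, if_true]
  have h3 : V.det • y k ∈ sat S p := h1 ▸ sum_mem (fun i _ => (sat S p).smul_mem _ (h i))
  obtain ⟨s, hs, hsy⟩ := h3
  exact ⟨s * V.det, ‹p.IsPrime›.mul_notMem hs hdet, by rwa [mul_smul]⟩

theorem gen_mem (p : Ideal A) [p.IsPrime] {d : ℕ} (c : Fin d → A) (hc : ∀ i j, i ≠ j → c i - c j ∉ p) :
    ∀ (n : ℕ) (k : Fin n → ℕ) (m : Fin n → M), ∑ i, k i = d →
      ∏ i, dp A (k i) (m i) ∈ sat (Submodule.span A (Set.range (dp A d : M → DividedPowerAlgebra A M))) p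
  | 0, k, m, h => ⟨1, p.one_notMem, by
      simp only [Finset.univ_eq_empty, Finset.sum_empty] at h
      subst h
      simp only [Finset.univ_eq_empty, Finset.prod_empty, one_smul]
      exact Submodule.subset_span ⟨0, dp_zero⟩⟩
  | 1, k, m, h => ⟨1, p.one_notMem, by
      rw [Fin.sum_univ_one] at h
      rw [one_smul, Fin.prod_univ_one, h]
      exact Submodule.subset_span ⟨_, rfl⟩⟩
  | n + 2, k, m, h => by
      set N := sat (Submodule.span A (Set.range (dp A d : M → DividedPowerAlgebra A M))) p
      let R := ∏ i : Fin n, dp A (k i.succ.succ) (m i.succ.succ)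
      let e := k 0 + k 1
      have hsum : e + ∑ i : Fin n, k i.succ.succ = d := by
        rw [← h, Fin.sum_univ_succ, Fin.sum_univ_succ]
        simp [e, add_assoc]
      rw [show (∏ i, dp A (k i) (m i)) = dp A (k 0) (m 0) * dp A (k 1) (m 1) * R by
        rw [Fin.prod_univ_succ, Fin.prod_univ_succ, mul_assoc]; rfl]
      have hmerge : ∀ x : M, dp A e x * R ∈ N := fun x => by
        have := gen_mem p c hc (n + 1) (Fin.cons e fun i => k i.succ.succ) (Fin.cons x fun i => m i.succ.succ)
          (by simp [Fin.sum_univ_succ, hsum])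
        rw [Fin.prod_univ_succ] at this
        simp only [Fin.cons_zero, Fin.cons_succ] at this
        exact this
      let y : ℕ → DividedPowerAlgebra A M := fun j => dp A (e - j) (m 0) * dp A j (m 1) * R
      have hexp : ∀ a : A, dp A e (m 0 + a • m 1) * R = ∑ j ∈ Finset.range (e + 1), a ^ j • y j := by
        intro a
        rw [dp_add, Finset.Nat.antidiagonal_eq_map', Finset.sum_map, Finset.sum_mul]
        refine Finset.sum_congr rfl fun j _ => ?_
        show dp A (e - j) (m 0) * dp A j (a • m 1) * R = _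
        rw [dp_smul, mul_smul_comm, smul_mul_assoc]
      have hlast : y e ∈ N := by
        show dp A (e - e) (m 0) * dp A e (m 1) * R ∈ N
        rw [Nat.sub_self, dp_zero, one_mul]
        exact hmerge _
      have hed : e ≤ d := by omega
      have hy : ∀ j : Fin e, y j ∈ N := by
        refine vandermonde_mem _ p (fun i : Fin e => c (Fin.castLE hed i))
          (fun i j hij => hc _ _ fun h' => hij ((Fin.castLE_injective hed) h')) (fun j => y j) fun i => ?_
        have h1 := hexp (c (Fin.castLE hed i))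
        rw [Finset.sum_range_succ, Finset.sum_range] at h1
        have h2 := N.sub_mem (hmerge (m 0 + c (Fin.castLE hed i) • m 1)) (N.smul_mem (c (Fin.castLE hed i) ^ e) hlast)
        rw [h1, add_sub_cancel_right] at h2
        exact h2
      have hk1 : y (k 1) = dp A (k 0) (m 0) * dp A (k 1) (m 1) * R := by
        show dp A (e - k 1) (m 0) * dp A (k 1) (m 1) * R = _
        rw [show e - k 1 = k 0 by omega]
      rw [← hk1]
      rcases Nat.lt_or_ge (k 1) e with hlt | hge
      · exact hy ⟨_, hlt⟩
      · rwa [show k 1 = e by omega]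

theorem cyclic_mem (p : Ideal A) [p.IsPrime] (x0 : M) (hx0 : ∀ m : M, ∃ s ∉ p, s • m ∈ Submodule.span A {x0})
    {d : ℕ} {n : ℕ} (k : Fin n → ℕ) (m : Fin n → M) (hk : ∑ i, k i = d) :
    ∏ i, dp A (k i) (m i) ∈ sat (Submodule.span A (Set.range (dp A d : M → DividedPowerAlgebra A M))) p := by
  classical
  choose s hs hsm using fun i => hx0 (m i)
  choose a ha using fun i => Submodule.mem_span_singleton.1 (hsm i)
  refine ⟨∏ i, s i ^ k i, ?_, ?_⟩
  · rw [Ideal.IsPrime.prod_mem_iff]
    rintro ⟨i, -, hi⟩
    exact hs i (‹p.IsPrime›.mem_of_pow_mem _ hi)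
  · have h : (∏ i, s i ^ k i) • ∏ i, dp A (k i) (m i) = (∏ i, a i ^ k i) • ∏ i, dp A (k i) x0 := by
      rw [← Finset.prod_smul, ← Finset.prod_smul]
      refine Finset.prod_congr rfl fun i _ => ?_
      rw [← dp_smul, ← dp_smul, ha i]
    rw [h, prod_dp, hk, ← nsmul_eq_mul]
    refine Submodule.smul_mem _ _ (nsmul_mem ?_ _)
    exact Submodule.subset_span ⟨x0, rfl⟩

theorem exists_nodes (p : Ideal A) [p.IsPrime] (d : ℕ) (h : (d : Cardinal) ≤ Cardinal.mk p.ResidueField) :
    ∃ c : Fin d → A, ∀ i j, i ≠ j → c i - c j ∉ p := by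
  classical
  suffices hq : (d : Cardinal) ≤ Cardinal.mk (A ⧸ p) by
    obtain ⟨f⟩ : Nonempty (Fin d ↪ A ⧸ p) := by
      rw [← Cardinal.lift_mk_le']
      simpa using hq
    choose c hc using fun i => Ideal.Quotient.mk_surjective (f i)
    refine ⟨c, fun i j hij hmem => hij (f.injective ?_)⟩
    rw [← hc i, ← hc j, Ideal.Quotient.eq]
    exact hmem
  rcases finite_or_infinite (A ⧸ p) with hfin | hinf
  · haveI : p.IsMaximal := Ideal.Quotient.maximal_of_isField p (Finite.isField_of_domain (A ⧸ p))
    refine h.trans_eq (Cardinal.mk_congr (Equiv.ofBijective _ p.bijective_algebraMap_quotient_residueField).symm)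
  · exact (Cardinal.natCast_le_aleph0 (n := d)).trans (Cardinal.aleph0_le_mk _)

theorem span_eq (d : ℕ)
    (h : ∀ p : PrimeSpectrum A, (d : Cardinal) ≤ Cardinal.mk p.asIdeal.ResidueField ∨
      ∃ x : LocalizedModule p.asIdeal.primeCompl M, Submodule.span (Localization.AtPrime p.asIdeal) {x} = ⊤) :
    Submodule.span A (Set.range (dp A d : M → DividedPowerAlgebra A M)) = PolLaw.gammaPiece A M d := by
  refine le_antisymm (Submodule.span_le.2 ?_) (Submodule.span_le.2 ?_)
  · rintro _ ⟨m, rfl⟩
    exact Submodule.subset_span ⟨1, fun _ => d, fun _ => m, by simp, by simp⟩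
  rintro _ ⟨n, k, m, hk, rfl⟩
  set S := Submodule.span A (Set.range (dp A d : M → DividedPowerAlgebra A M))
  set x := ∏ i, dp A (k i) (m i)
  let I : Ideal A := S.comap (LinearMap.toSpanSingleton A _ x)
  suffices hI : I = ⊤ by
    have := (I.eq_top_iff_one).1 hI
    simpa [I] using this
  by_contra hI
  obtain ⟨p, hp, hIp⟩ := Ideal.exists_le_maximal I hI
  haveI := hp.isPrime
  obtain ⟨s, hs, hsx⟩ : x ∈ sat S p := by
    rcases h ⟨p, hp.isPrime⟩ with hc | ⟨x1, hx1⟩
    · obtain ⟨c, hc⟩ := exists_nodes p d hc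
      exact gen_mem p c hc n k m hk
    · induction x1 using LocalizedModule.induction_on with
      | h x0 t =>
        refine cyclic_mem p x0 (fun z => ?_) k m hk
        obtain ⟨r, hr⟩ := Submodule.mem_span_singleton.1
          (hx1 ▸ Submodule.mem_top (x := LocalizedModule.mk z (1 : p.primeCompl)))
        induction r using Localization.induction_on with
        | H as =>
          obtain ⟨a, s⟩ := as
          rw [LocalizedModule.mk_smul_mk, LocalizedModule.mk_eq] at hr
          obtain ⟨u, hu⟩ := hr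
          refine ⟨(u : A) * ((s : A) * (t : A)), ‹p.IsPrime›.mul_notMem u.2 (‹p.IsPrime›.mul_notMem s.2 t.2),
            Submodule.mem_span_singleton.2 ⟨(u : A) * a, ?_⟩⟩
          simp only [Submonoid.smul_def, Submonoid.coe_mul, Submonoid.coe_one, one_smul, smul_smul] at hu
          exact hu
  exact hs (hIp hsx)

theorem span_eq_of_vandermondeRing (d : ℕ)
    (φ : (Polynomial ℤ ⧸ Ideal.span {(∏ j ∈ Finset.range (d + 1), ∏ i ∈ Finset.range j,
        ((Polynomial.X : Polynomial ℤ) ^ i - Polynomial.X ^ j)) - 1}) →+* A) :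
    Submodule.span A (Set.range (dp A d : M → DividedPowerAlgebra A M)) = PolLaw.gammaPiece A M d := by
  refine span_eq d fun p => Or.inl ?_
  let θ := (φ.comp (Ideal.Quotient.mk _))
  let t := algebraMap A p.asIdeal.ResidueField (θ Polynomial.X)
  have h1 : ∏ j ∈ Finset.range (d + 1), ∏ i ∈ Finset.range j, (t ^ i - t ^ j) = 1 := by
    have h : θ (∏ j ∈ Finset.range (d + 1), ∏ i ∈ Finset.range j,
        ((Polynomial.X : Polynomial ℤ) ^ i - Polynomial.X ^ j)) = θ 1 := by
      simp only [θ, RingHom.comp_apply]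
      exact congrArg φ (Ideal.Quotient.eq.2 (Ideal.mem_span_singleton_self _))
    have := congrArg (algebraMap A p.asIdeal.ResidueField) h
    simpa only [map_prod, map_sub, map_pow, map_one, t] using this
  have hne : ∀ i j : ℕ, i < j → j < d + 1 → t ^ i ≠ t ^ j := by
    intro i j hij hj he
    refine one_ne_zero (α := p.asIdeal.ResidueField) (h1 ▸ ?_)
    exact Finset.prod_eq_zero (Finset.mem_range.2 hj) (Finset.prod_eq_zero (Finset.mem_range.2 hij) (sub_eq_zero.2 he))
  have hinj : Function.Injective (fun i : ULift.{u} (Fin d) => t ^ (i.down : ℕ)) := by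
    rintro ⟨i⟩ ⟨j⟩ hij
    rcases lt_trichotomy i j with h | h | h
    · exact absurd hij (hne i j h (by omega))
    · rw [h]
    · exact absurd hij.symm (hne j i h (by omega))
  simpa using Cardinal.mk_le_of_injective hinj

/-! ## necessity -/

open Polynomial in
theorem coeff_mul_coeff {T : Type u} [CommRing T] {ι : Type*} [Fintype ι] (w : ι → T) (hw : ∀ i, w i * w i = 0)
    (k l : ℕ) :
    (∏ i, (1 + C (w i) * X) : T[X]).coeff k * (∏ i, (1 + C (w i) * X) : T[X]).coeff l =
      (k + l).choose k • (∏ i, (1 + C (w i) * X) : T[X]).coeff (k + l) := by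
  classical
  set f : T[X] := ∏ i, (1 + C (w i) * X) with hf
  have h : f.map C * C f = eval₂RingHom (C.comp C) (X + C (X : T[X])) f := by
    rw [hf, ← coe_mapRingHom, map_prod, map_prod, map_prod, ← Finset.prod_mul_distrib]
    refine Finset.prod_congr rfl fun i _ => ?_
    have hz : (C (C (w i)) : T[X][X]) * C (C (w i)) = 0 := by rw [← C_mul, ← C_mul, hw, C_0, C_0]
    simp only [coe_mapRingHom, coe_eval₂RingHom, Polynomial.map_add, Polynomial.map_one, Polynomial.map_mul, map_C,
      map_X, map_add, map_one, map_mul, eval₂_add, eval₂_one, eval₂_mul, eval₂_C, eval₂_X, RingHom.comp_apply]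
    linear_combination ((X : T[X][X]) * C X) * hz
  have h2 := congrArg (fun P => (P.coeff k).coeff l) h
  simp only [coe_eval₂RingHom, coeff_mul_C, coeff_map, coeff_C_mul, eval₂_eq_sum, sum_def, finsetSum_coeff,
    RingHom.comp_apply, coeff_X_add_C_pow, coeff_natCast_mul, coeff_mul_natCast, coeff_X_pow] at h2
  rw [h2, Finset.sum_eq_single (k + l)]
  · simp [nsmul_eq_mul, mul_comm]
  · intro n _ hn
    rcases Nat.lt_or_ge n k with hnk | hnk
    · simp [Nat.choose_eq_zero_of_lt hnk]
    · rw [if_neg (by omega)]; simp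
  · intro hn
    simp [notMem_support_iff.1 hn]

open Polynomial in
theorem coeff_prod {T : Type u} [CommRing T] {ι : Type*} [Fintype ι] (w : ι → T) (k : ℕ) :
    (∏ i, (1 + C (w i) * X) : T[X]).coeff k = ∑ s ∈ Finset.powersetCard k (Finset.univ : Finset ι), ∏ i ∈ s, w i := by
  classical
  rw [Finset.prod_one_add, finsetSum_coeff]
  simp only [Finset.prod_mul_distrib, Finset.prod_const, ← map_prod, coeff_C_mul_X_pow]
  rw [Finset.sum_ite, Finset.sum_const_zero, add_zero]
  refine Finset.sum_congr ?_ fun s _ => rfl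
  ext s; simp [Finset.mem_powersetCard, eq_comm]

section SquareFree

variable (κ : Type u) [CommRing κ] (d : ℕ)

abbrev σ := Fin d × Fin 2

noncomputable def sqIdeal : Ideal (MvPolynomial (σ d) κ) :=
  Ideal.span ((fun s => MvPolynomial.monomial s (1 : κ)) ''
    {s | ∃ i a b, s = Finsupp.single (i, a) 1 + Finsupp.single (i, b) 1})

abbrev Sq := MvPolynomial (σ d) κ ⧸ sqIdeal κ d

noncomputable def z (i : Fin d) (v : Fin 2 → κ) : Sq κ d :=
  ∑ a, v a • Ideal.Quotient.mk (sqIdeal κ d) (MvPolynomial.X (i, a))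

theorem z_mul (i : Fin d) (u v : Fin 2 → κ) : z κ d i u * z κ d i v = 0 := by
  simp only [z, Finset.sum_mul, Finset.mul_sum]
  refine Finset.sum_eq_zero fun a _ => Finset.sum_eq_zero fun b _ => ?_
  rw [smul_mul_smul_comm, ← map_mul, MvPolynomial.X, MvPolynomial.X, MvPolynomial.monomial_mul, one_mul,
    Ideal.Quotient.eq_zero_iff_mem.2, smul_zero]
  exact Ideal.subset_span ⟨_, ⟨i, _, _, rfl⟩, rfl⟩

theorem z_add (i : Fin d) (u v : Fin 2 → κ) : z κ d i (u + v) = z κ d i u + z κ d i v := by
  simp only [z, Pi.add_apply, add_smul, Finset.sum_add_distrib]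

theorem z_smul (i : Fin d) (r : κ) (v : Fin 2 → κ) : z κ d i (r • v) = r • z κ d i v := by
  simp only [z, Pi.smul_apply, smul_eq_mul, mul_smul, Finset.smul_sum]

open Polynomial in
noncomputable def E (v : Fin 2 → κ) : Polynomial (Sq κ d) := ∏ i, (1 + C (z κ d i v) * X)

open Polynomial in
theorem E_add (u v : Fin 2 → κ) : E κ d (u + v) = E κ d u * E κ d v := by
  rw [E, E, E, ← Finset.prod_mul_distrib]
  refine Finset.prod_congr rfl fun i _ => ?_
  have h : C (z κ d i u) * C (z κ d i v) = 0 := by rw [← C_mul, z_mul, C_0]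
  rw [z_add, C_add]
  linear_combination (-(X ^ 2 : Polynomial (Sq κ d))) * h

open Polynomial in
theorem E_smul (r : κ) (v : Fin 2 → κ) (n : ℕ) : (E κ d (r • v)).coeff n = r ^ n • (E κ d v).coeff n := by
  have h : E κ d (r • v) = (E κ d v).comp (C (algebraMap κ (Sq κ d) r) * X) := by
    rw [E, E, prod_comp]
    refine Finset.prod_congr rfl fun i _ => ?_
    rw [z_smul, add_comp, mul_comp, one_comp, C_comp, X_comp, Algebra.smul_def (A := Sq κ d), C_mul]
    ring
  rw [h, comp_C_mul_X_coeff, Algebra.smul_def (A := Sq κ d), map_pow, mul_comm]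

theorem E_mul (v : Fin 2 → κ) (k l : ℕ) :
    (E κ d v).coeff k * (E κ d v).coeff l = (k + l).choose k • (E κ d v).coeff (k + l) :=
  coeff_mul_coeff _ (fun i => z_mul κ d i v v) k l

noncomputable def Φ : DividedPowerAlgebra κ (Fin 2 → κ) →ₐ[κ] Sq κ d :=
  DividedPowerAlgebra.lift' (f := fun nv => (E κ d nv.2).coeff nv.1)
    (fun v => by
      simp only [E, Polynomial.coeff_zero_eq_eval_zero, Polynomial.eval_prod]
      simp)
    (fun n r v => E_smul κ d r v n)
    (fun n q v => E_mul κ d v n q)
    (fun n u v => by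
      show (E κ d (u + v)).coeff n = _
      rw [E_add, Polynomial.coeff_mul])

open Polynomial in
theorem E_single (a : Fin 2) (k : ℕ) :
    (E κ d (Pi.single a 1)).coeff k = Ideal.Quotient.mk (sqIdeal κ d)
      (∑ s ∈ Finset.powersetCard k (Finset.univ : Finset (Fin d)),
        MvPolynomial.monomial (∑ i ∈ s, Finsupp.single (i, a) 1) (1 : κ)) := by
  classical
  have hz : ∀ i, z κ d i (Pi.single a 1) = Ideal.Quotient.mk (sqIdeal κ d) (MvPolynomial.X (i, a)) := by
    intro i; simp [z, Pi.single_apply, ite_smul]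
  rw [E, coeff_prod, map_sum]
  refine Finset.sum_congr rfl fun s _ => ?_
  simp only [hz]
  rw [← map_prod, MvPolynomial.monomial_sum_one]
  rfl

noncomputable def probe (l : ℕ) : σ d →₀ ℕ :=
  ∑ i : Fin d, Finsupp.single (i, if (i : ℕ) < l then (1 : Fin 2) else 0) 1

theorem probe_apply (l : ℕ) (i : Fin d) (a : Fin 2) :
    probe d l (i, a) = if (if (i : ℕ) < l then (1 : Fin 2) else 0) = a then 1 else 0 := by
  classical
  simp only [probe, Finsupp.finsetSum_apply, Finsupp.single_apply, Prod.mk.injEq]
  rw [Finset.sum_eq_single i (fun j _ hj => by simp [hj]) (fun h => absurd (Finset.mem_univ i) h)]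
  simp

noncomputable def coeffAt (l : ℕ) : Sq κ d →ₗ[κ] κ :=
  Submodule.liftQ ((sqIdeal κ d).restrictScalars κ) (MvPolynomial.lcoeff κ (probe d l)) (by
    classical
    intro f hf
    rw [LinearMap.mem_ker, MvPolynomial.lcoeff_apply, ← MvPolynomial.notMem_support_iff]
    intro hsupp
    obtain ⟨s, ⟨i, a, b, rfl⟩, hs⟩ := (MvPolynomial.mem_ideal_span_monomial_image).1 hf _ hsupp
    have h1 := hs (i, a)
    have h2 := hs (i, b)
    simp only [Finsupp.add_apply, Finsupp.single_apply, Prod.mk.injEq, true_and, probe_apply] at h1 h2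
    by_cases hi : (i : ℕ) < l <;> fin_cases a <;> fin_cases b <;> simp_all) ∘ₗ
    (Submodule.Quotient.restrictScalarsEquiv κ (sqIdeal κ d)).symm.toLinearMap

theorem coeffAt_apply (l j : ℕ) (hl : l ≤ d) (hj : j ≤ d) :
    coeffAt κ d l (Φ κ d (dp κ (d - j) (Pi.single 0 1) * dp κ j (Pi.single 1 1))) = if l = j then 1 else 0 := by
  classical
  rw [map_mul, Φ, lift'_apply_dp, lift'_apply_dp, E_single, E_single, ← map_mul]
  rw [show ∀ f, coeffAt κ d l (Ideal.Quotient.mk (sqIdeal κ d) f) = MvPolynomial.coeff (probe d l) f from fun f => rfl]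
  simp only [Finset.sum_mul, Finset.mul_sum, MvPolynomial.monomial_mul, one_mul, MvPolynomial.coeff_sum,
    MvPolynomial.coeff_monomial]
  let Tl : Finset (Fin d) := Finset.univ.filter fun i => (i : ℕ) < l
  have hT : Tl.card = l := by
    rw [show Tl = (Finset.univ : Finset (Fin l)).map (Fin.castLEEmb hl) from ?_]
    · simp
    · ext i
      simp only [Tl, Finset.mem_filter, Finset.mem_univ, true_and, Finset.mem_map, Fin.castLEEmb_apply]
      exact ⟨fun h => ⟨⟨i, h⟩, rfl⟩, fun ⟨x, hx⟩ => hx ▸ x.2⟩
  have hiff : ∀ s t : Finset (Fin d),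
      (∑ i ∈ s, Finsupp.single (i, (0 : Fin 2)) 1) + (∑ i ∈ t, Finsupp.single (i, (1 : Fin 2)) 1) = probe d l ↔
        s = Tlᶜ ∧ t = Tl := by
    intro s t
    rw [Finsupp.ext_iff]
    simp only [Finsupp.add_apply, Finsupp.finsetSum_apply, Finsupp.single_apply, Prod.forall, probe_apply,
      Prod.mk.injEq, Fin.forall_fin_two, Finset.ext_iff, Finset.mem_compl, Tl, Finset.mem_filter, Finset.mem_univ,
      true_and, ← forall_and]
    refine forall_congr' fun i => ?_
    by_cases hi : (i : ℕ) < l <;> by_cases hs : i ∈ s <;> by_cases ht : i ∈ t <;>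
      simp [hi, hs, ht]
  rw [Finset.sum_comm]
  simp only [hiff, ite_and]
  by_cases hlj : l = j
  · subst hlj
    rw [if_pos rfl, Finset.sum_eq_single Tlᶜ, Finset.sum_eq_single Tl]
    · simp
    · intro b _ hb; simp [hb]
    · intro h; exact absurd (Finset.mem_powersetCard.2 ⟨Finset.subset_univ _, hT⟩) h
    · intro b _ hb; simp [hb]
    · intro h
      refine absurd (Finset.mem_powersetCard.2 ⟨Finset.subset_univ _, ?_⟩) h
      rw [Finset.card_compl, hT, Fintype.card_fin]
  · rw [if_neg hlj]
    refine Finset.sum_eq_zero fun s _ => Finset.sum_eq_zero fun t ht => ?_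
    split_ifs with h1 h2
    · exact absurd (h2 ▸ (Finset.mem_powersetCard.1 ht).2) (by rw [hT]; exact hlj)
    all_goals rfl

theorem linearIndependent_dp {κ : Type u} [Field κ] (d : ℕ) :
    LinearIndependent κ (fun j : Fin (d + 1) =>
      dp κ (d - j) (Pi.single (0 : Fin 2) (1 : κ) : Fin 2 → κ) * dp κ (j : ℕ) (Pi.single (1 : Fin 2) (1 : κ) : Fin 2 → κ)) := by
  rw [Fintype.linearIndependent_iff]
  intro c hc l
  have h := congrArg (fun x => coeffAt κ d l (Φ κ d x)) hc
  simp only [map_sum, map_smul, map_zero] at h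
  rw [Finset.sum_eq_single l] at h
  · rwa [coeffAt_apply κ d l l (by omega) (by omega), if_pos rfl, smul_eq_mul, mul_one] at h
  · intro b _ hb
    rw [coeffAt_apply κ d l b (by omega) (by omega), if_neg (fun h' => hb (Fin.ext h'.symm)), smul_zero]
  · simp

end SquareFree

theorem card_lines {κ : Type u} [Field κ] [Fintype κ] (d : ℕ) :
    Module.finrank κ (Submodule.span κ (Set.range (dp κ d : (Fin 2 → κ) → DividedPowerAlgebra κ (Fin 2 → κ)))) ≤
      Fintype.card κ + 1 := by
  classical
  let rep : Option κ → (Fin 2 → κ) := fun o => o.elim ![0, 1] fun c => ![1, c]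
  have hle : Submodule.span κ (Set.range (dp κ d : (Fin 2 → κ) → DividedPowerAlgebra κ (Fin 2 → κ))) ≤
      Submodule.span κ (Set.range fun o => dp κ d (rep o)) := by
    rw [Submodule.span_le]
    rintro _ ⟨v, rfl⟩
    obtain ⟨r, o, hv⟩ : ∃ r o, v = r • rep o := by
      by_cases h0 : v 0 = 0
      · exact ⟨v 1, none, by ext i; fin_cases i <;> simp [rep, h0]⟩
      · exact ⟨v 0, some (v 1 / v 0), by ext i; fin_cases i <;> simp [rep, mul_div_cancel₀ _ h0]⟩
    rw [hv, dp_smul]
    exact Submodule.smul_mem _ _ (Submodule.subset_span ⟨o, rfl⟩)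
  haveI : Module.Finite κ (Submodule.span κ (Set.range fun o => dp κ d (rep o))) :=
    Module.Finite.span_of_finite κ (Set.finite_range _)
  refine (Submodule.finrank_mono hle).trans ?_
  exact (finrank_range_le_card (R := κ) _).trans_eq Fintype.card_option

theorem card_or_cyclic [Module.Finite A M] (d : ℕ)
    (h : Submodule.span A (Set.range (dp A d : M → DividedPowerAlgebra A M)) = PolLaw.gammaPiece A M d)
    (p : PrimeSpectrum A) :
    (d : Cardinal) ≤ Cardinal.mk p.asIdeal.ResidueField ∨
      ∃ x : LocalizedModule p.asIdeal.primeCompl M, Submodule.span (Localization.AtPrime p.asIdeal) {x} = ⊤ := by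
  classical
  rw [or_iff_not_imp_left, not_le]
  intro hlt
  let P := p.asIdeal
  haveI hfin : Finite P.ResidueField := Cardinal.lt_aleph0_iff_finite.1 (hlt.trans (Cardinal.natCast_lt_aleph0))
  haveI : Fintype P.ResidueField := Fintype.ofFinite _
  have hinj := Ideal.injective_algebraMap_quotient_residueField P
  haveI : Finite (A ⧸ P) := Finite.of_injective _ hinj
  haveI : P.IsMaximal := Ideal.Quotient.maximal_of_isField P (Finite.isField_of_domain (A ⧸ P))
  have hsurjA : Function.Surjective (algebraMap A P.ResidueField) := P.algebraMap_residueField_surjective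
  let V := P.ResidueField ⊗[A] M
  let ι : M →ₗ[A] V := TensorProduct.mk A P.ResidueField M 1
  have hι : Function.Surjective ι := TensorProduct.mk_surjective A M P.ResidueField hsurjA
  have hdim : Module.finrank P.ResidueField V ≤ 1 := by
    by_contra hdim
    push Not at hdim
    obtain ⟨g, hg⟩ : ∃ g : V →ₗ[P.ResidueField] (Fin 2 → P.ResidueField), Function.Surjective g := by
      let b := Module.finBasis P.ResidueField V
      refine ⟨(LinearMap.funLeft P.ResidueField P.ResidueField (Fin.castLE (hdim : 2 ≤ _))) ∘ₗ b.equivFun.toLinearMap, ?_⟩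
      simp only [LinearMap.coe_comp, LinearEquiv.coe_coe]
      exact (LinearMap.funLeft_surjective_of_injective _ _ _ (Fin.castLE_injective _)).comp b.equivFun.surjective
    let φ : M →ₗ[A] (Fin 2 → P.ResidueField) := g.restrictScalars A ∘ₗ ι
    have hφ : Function.Surjective φ := hg.comp hι
    let Γ : DividedPowerAlgebra A M →ₐ[A] DividedPowerAlgebra P.ResidueField (Fin 2 → P.ResidueField) :=
      DividedPowerAlgebra.map P.ResidueField φ
    let T := Submodule.span P.ResidueField
      (Set.range (dp P.ResidueField d : (Fin 2 → P.ResidueField) → DividedPowerAlgebra P.ResidueField (Fin 2 → P.ResidueField)))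
    have hT : ∀ x ∈ Submodule.span A (Set.range (dp A d : M → DividedPowerAlgebra A M)), Γ x ∈ T := by
      intro x hx
      induction hx using Submodule.span_induction with
      | mem y hy =>
        obtain ⟨m, rfl⟩ := hy
        simp only [Γ, map_apply_dp]
        exact Submodule.subset_span ⟨_, rfl⟩
      | zero => simp
      | add u v _ _ hu hv => rw [map_add]; exact T.add_mem hu hv
      | smul a u _ hu =>
        rw [map_smul, ← algebraMap_smul P.ResidueField a]
        exact T.smul_mem _ hu
    obtain ⟨m0, hm0⟩ := hφ (Pi.single 0 1)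
    obtain ⟨m1, hm1⟩ := hφ (Pi.single 1 1)
    have hmemT : ∀ j : Fin (d + 1), dp P.ResidueField (d - j) (Pi.single (0 : Fin 2) (1 : P.ResidueField)) *
        dp P.ResidueField (j : ℕ) (Pi.single (1 : Fin 2) (1 : P.ResidueField)) ∈ T := by
      intro j
      have := hT (dp A (d - j) m0 * dp A (j : ℕ) m1) (h ▸ Submodule.subset_span
        ⟨2, ![d - j, (j : ℕ)], ![m0, m1], by simp; omega, by simp [Fin.prod_univ_two]⟩)
      rwa [map_mul, map_apply_dp, map_apply_dp, hm0, hm1] at this
    haveI : Module.Finite P.ResidueField T := Module.Finite.span_of_finite _ (Set.finite_range _)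
    have h1 : d + 1 ≤ Module.finrank P.ResidueField T := by
      have hli : LinearIndependent P.ResidueField (fun j => (⟨_, hmemT j⟩ : T)) :=
        LinearIndependent.of_comp T.subtype (linearIndependent_dp d)
      simpa using hli.fintype_card_le_finrank
    have h2 : Module.finrank P.ResidueField T ≤ Fintype.card P.ResidueField + 1 := card_lines (κ := P.ResidueField) d
    have h3 : Fintype.card P.ResidueField < d := by
      rw [Cardinal.mk_fintype] at hlt
      exact_mod_cast hlt
    omega
  obtain ⟨v, hv⟩ := (_root_.finrank_le_one_iff).1 hdim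
  obtain ⟨m, rfl⟩ := hι v
  let mk := LocalizedModule.mkLinearMap P.primeCompl M
  refine ⟨mk m, top_le_iff.1 ?_⟩
  refine Submodule.le_of_le_smul_of_le_jacobson_bot (I := IsLocalRing.maximalIdeal _) Module.Finite.fg_top
    (IsLocalRing.maximalIdeal_le_jacobson _) fun y _ => ?_
  set W := Submodule.span (Localization.AtPrime P) {mk m} ⊔
    IsLocalRing.maximalIdeal (Localization.AtPrime P) • (⊤ : Submodule (Localization.AtPrime P) _)
  suffices hW : ∀ z : M, mk z ∈ W by
    induction y using LocalizedModule.induction_on with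
    | h z t =>
      have := W.smul_mem (Localization.mk 1 t) (hW z)
      simpa [mk, LocalizedModule.mk_smul_mk] using this
  intro z
  obtain ⟨c, hc⟩ := hv (ι z)
  obtain ⟨a, rfl⟩ := hsurjA c
  have hker : z - a • m ∈ P • (⊤ : Submodule A M) := by
    have h0 : ι (z - a • m) = 0 := by rw [map_sub, map_smul, ← hc, algebraMap_smul, sub_self]
    rw [← Submodule.Quotient.mk_eq_zero]
    have hφ : ∀ x : M, TensorProduct.quotTensorEquivQuotSMul M P ((1 : A ⧸ P) ⊗ₜ[A] x) = Submodule.Quotient.mk x :=
      fun x => TensorProduct.quotTensorEquivQuotSMul_mk_tmul P 1 x |>.trans (by rw [one_smul])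
    rw [← hφ]
    refine (map_eq_zero_iff _ (LinearEquiv.injective _)).2 ?_
    let e := AlgEquiv.ofBijective (IsScalarTower.toAlgHom A (A ⧸ P) P.ResidueField)
      P.bijective_algebraMap_quotient_residueField
    refine (map_eq_zero_iff _ (TensorProduct.congr e.toLinearEquiv (LinearEquiv.refl A M)).injective).1 ?_
    rw [TensorProduct.congr_tmul]
    simp only [ι, map_sub, map_smul, TensorProduct.mk_apply] at h0
    simp [TensorProduct.tmul_sub, TensorProduct.tmul_smul]
    exact h0
  rw [show z = a • m + (z - a • m) by abel, map_add, map_smul]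
  refine Submodule.add_mem_sup ?_ ?_
  · rw [← algebraMap_smul (Localization.AtPrime P) a]
    exact Submodule.smul_mem _ _ (Submodule.subset_span rfl)
  · refine Submodule.smul_induction_on (p := fun w => mk w ∈ IsLocalRing.maximalIdeal (Localization.AtPrime P) •
      (⊤ : Submodule (Localization.AtPrime P) (LocalizedModule P.primeCompl M))) hker (fun r hr x _ => ?_) (fun u v hu hv => ?_)
    · rw [map_smul, ← algebraMap_smul (Localization.AtPrime P) r]
      exact Submodule.smul_mem_smul ((IsLocalization.AtPrime.to_map_mem_maximal_iff _ P r).2 hr) trivial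
    · rw [map_add]; exact add_mem hu hv

end Groth.Agent.GammaD.DPSpan26
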