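import Groth.Agent.Lib.GammaD.Key
import Mathlib.LinearAlgebra.TensorProduct.RightExactness
import Mathlib.LinearAlgebra.TensorProduct.Finiteness
import Mathlib.RingTheory.Flat.Basic
import Mathlib.Algebra.MvPolynomial.Rename
import Mathlib.LinearAlgebra.FreeModule.Basic

/-! # Descending laws along a presentation; orbit sums -/

universe u

open scoped TensorProduct

namespace Groth.Agent.GammaD

variable {A : Type u} [CommRing A]

instance flat_mvPolynomial (σ : Type u) : Module.Flat A (MvPolynomial σ A) := inferInstance

theorem rTensor_lTensor {S S' : Type u} [CommSemiring S] [Algebra A S] [CommSemiring S'] [Algebra A S']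
    {U V : Type u} [AddCommGroup U] [Module A U] [AddCommGroup V] [Module A V]
    (φ : S →ₐ[A] S') (h : U →ₗ[A] V) (z : S ⊗[A] U) :
    φ.toLinearMap.rTensor V (h.lTensor S z) = h.lTensor S' (φ.toLinearMap.rTensor U z) := by
  induction z using TensorProduct.induction_on with
  | zero => simp
  | tmul a b => simp
  | add a b ha hb => simp only [map_add, ha, hb]

theorem lTensor_smul' {S : Type u} [CommSemiring S] [Algebra A S]
    {U V : Type u} [AddCommGroup U] [Module A U] [AddCommGroup V] [Module A V]
    (h : U →ₗ[A] V) (s : S) (z : S ⊗[A] U) : h.lTensor S (s • z) = s • h.lTensor S z := by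
  induction z using TensorProduct.induction_on with
  | zero => simp
  | tmul a b => simp [TensorProduct.smul_tmul']
  | add a b ha hb => simp only [map_add, smul_add, ha, hb]

theorem law_compat {U V : Type u} [AddCommGroup U] [Module A U] [AddCommGroup V] [Module A V]
    (L : U →ₚₗ[A] V) {S S' : Type u} [CommSemiring S] [Algebra A S] [CommSemiring S'] [Algebra A S']
    (φ : S →ₐ[A] S') (y : S ⊗[A] U) :
    φ.toLinearMap.rTensor V (L.toFun' S y) = L.toFun' S' (φ.toLinearMap.rTensor U y) :=
  congrFun (L.isCompat' φ) y

theorem rTensor_mul {S S' : Type u} [CommSemiring S] [Algebra A S] [CommSemiring S'] [Algebra A S']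
    {U : Type u} [CommRing U] [Algebra A U] (φ : S →ₐ[A] S') (x y : S ⊗[A] U) :
    φ.toLinearMap.rTensor U (x * y) = φ.toLinearMap.rTensor U x * φ.toLinearMap.rTensor U y := by
  have h : ∀ z : S ⊗[A] U, φ.toLinearMap.rTensor U z = Algebra.TensorProduct.map φ (AlgHom.id A U) z :=
    fun z => by
      induction z using TensorProduct.induction_on with
      | zero => simp
      | tmul a b => rfl
      | add a b ha hb => simp only [map_add, ha, hb]
  rw [h, h, h, map_mul]

theorem lTensor_algHom_mul {S : Type u} [CommSemiring S] [Algebra A S] {U V : Type u} [CommRing U]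
    [Algebra A U] [CommRing V] [Algebra A V] (f : U →ₐ[A] V) (x y : S ⊗[A] U) :
    f.toLinearMap.lTensor S (x * y) = f.toLinearMap.lTensor S x * f.toLinearMap.lTensor S y := by
  simp only [PolLaw.lTensor_algHom_apply, map_mul]

section present

variable (A) (B : Type u) [CommRing B] [Algebra A B]

/-- The free algebra on `B`. -/
abbrev Pres := MvPolynomial B A

/-- The presentation map. -/
noncomputable def piP : Pres A B →ₐ[A] B := MvPolynomial.aeval id

/-- Its monomial basis. -/
noncomputable def bP : Module.Basis (B →₀ ℕ) A (Pres A B) := MvPolynomial.basisMonomials B A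

variable {A B}

theorem piP_surjective : Function.Surjective (piP A B) :=
  fun b => ⟨MvPolynomial.X b, by simp [piP]⟩

/-- A section of `piP` as a function. -/
noncomputable def secP (b : B) : Pres A B := MvPolynomial.X b

theorem piP_secP (b : B) : piP A B (secP b) = b := by simp [piP, secP]

theorem exists_pi_lift (S : Type u) [CommSemiring S] [Algebra A S] (x : S ⊗[A] B) :
    ∃ y : S ⊗[A] Pres A B, (piP A B).toLinearMap.lTensor S y = x :=
  LinearMap.lTensor_surjective S piP_surjective x

/-- Two elements with the same image come from two universal elements with the same image. -/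
theorem exists_universal_pair {U V : Type u} [AddCommGroup U] [Module A U] [AddCommGroup V]
    [Module A V] {q : U →ₗ[A] V} (hq : Function.Surjective q) (S : Type u) [CommSemiring S]
    [Algebra A S] (y y' : S ⊗[A] U) (hyy : q.lTensor S y = q.lTensor S y') :
    ∃ (σ : Type u) (φ : MvPolynomial σ A →ₐ[A] S) (y₀ y₀' : MvPolynomial σ A ⊗[A] U),
      q.lTensor _ y₀ = q.lTensor _ y₀' ∧
      φ.toLinearMap.rTensor U y₀ = y ∧ φ.toLinearMap.rTensor U y₀' = y' := by
  classical
  letI : CommRing S := { Algebra.semiringToRing A with mul_comm := mul_comm }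
  have hker : q.lTensor S (y' - y) = 0 := by rw [map_sub, hyy, sub_self]
  obtain ⟨k, hk⟩ := (lTensor_exact S (LinearMap.exact_subtype_ker_map q) hq (y' - y)).1 hker
  obtain ⟨T, hT⟩ := TensorProduct.exists_finset y
  obtain ⟨U', hU⟩ := TensorProduct.exists_finset k
  let φ : MvPolynomial (↥T ⊕ ↥U') A →ₐ[A] S :=
    MvPolynomial.aeval (Sum.elim (fun i => i.1.1) (fun i => i.1.1))
  let y₀ : MvPolynomial (↥T ⊕ ↥U') A ⊗[A] U := ∑ i : T, MvPolynomial.X (Sum.inl i) ⊗ₜ[A] i.1.2
  let k₀ : MvPolynomial (↥T ⊕ ↥U') A ⊗[A] U :=
    ∑ i : U', MvPolynomial.X (Sum.inr i) ⊗ₜ[A] ((i.1.2 : LinearMap.ker q) : U)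
  have hy : φ.toLinearMap.rTensor U y₀ = y := by
    simp only [y₀, map_sum, LinearMap.rTensor_tmul]
    rw [hT, ← Finset.sum_coe_sort T]
    exact Finset.sum_congr rfl fun i _ => by simp [φ]
  refine ⟨_, φ, y₀, y₀ + k₀, ?_, hy, ?_⟩
  · rw [map_add, left_eq_add]
    simp only [k₀, map_sum, LinearMap.lTensor_tmul]
    exact Finset.sum_eq_zero fun i _ => by rw [LinearMap.mem_ker.1 i.1.2.2, TensorProduct.tmul_zero]
  · rw [map_add, hy]
    have : φ.toLinearMap.rTensor U k₀ = y' - y := by
      simp only [k₀, map_sum, LinearMap.rTensor_tmul]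
      rw [← hk, hU, map_sum, ← Finset.sum_coe_sort U']
      exact Finset.sum_congr rfl fun i _ => by simp [φ]
    rw [this, add_sub_cancel]

variable {d : ℕ} {N N' : Type u} [AddCommGroup N] [Module A N] [AddCommGroup N'] [Module A N']

/-- A linear form on the tensor power which, read in a module containing its target, descends. -/
structure Datum (d : ℕ) (h : Tpow A (Pres A B) d →ₗ[A] N) (ι : N →ₗ[A] N') (L : B →ₚₗ[A] N') : Prop where
  inj : Function.Injective ι
  spec : ∀ (S : Type u) [CommSemiring S] [Algebra A S] (y : S ⊗[A] Pres A B),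
    ι.lTensor S (h.lTensor S (tl A (Pres A B) d S y)) = L.toFun' S ((piP A B).toLinearMap.lTensor S y)

variable {h : Tpow A (Pres A B) d →ₗ[A] N} {ι : N →ₗ[A] N'} {L : B →ₚₗ[A] N'}

theorem Datum.indep (D : Datum d h ι L) (S : Type u) [CommSemiring S] [Algebra A S]
    (y y' : S ⊗[A] Pres A B)
    (hyy : (piP A B).toLinearMap.lTensor S y = (piP A B).toLinearMap.lTensor S y') :
    h.lTensor S (tl A _ d S y) = h.lTensor S (tl A _ d S y') := by
  obtain ⟨σ, φ, y₀, y₀', h0, rfl, rfl⟩ := exists_universal_pair (q := (piP A B).toLinearMap) piP_surjective S y y' hyy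
  rw [← tl_compat, ← tl_compat, ← rTensor_lTensor, ← rTensor_lTensor]
  congr 1
  refine Module.Flat.lTensor_preserves_injective_linearMap ι D.inj ?_
  rw [D.spec, D.spec, h0]

/-- The descended law. -/
noncomputable def Datum.law (D : Datum d h ι L) : B →ₚₗ[A] N where
  toFun' S _ _ x := h.lTensor S (tl A _ d S (exists_pi_lift S x).choose)
  isCompat' {S} _ _ {S'} _ _ φ := by
    funext x
    simp only [Function.comp_apply]
    rw [rTensor_lTensor, tl_compat]
    refine D.indep S' _ _ ?_
    rw [← rTensor_lTensor, (exists_pi_lift S x).choose_spec, (exists_pi_lift S' _).choose_spec]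

theorem Datum.law_eq (D : Datum d h ι L) (S : Type u) [CommSemiring S] [Algebra A S]
    (y : S ⊗[A] Pres A B) :
    D.law.toFun' S ((piP A B).toLinearMap.lTensor S y) = h.lTensor S (tl A _ d S y) :=
  D.indep S _ _ (exists_pi_lift S _).choose_spec

theorem Datum.val_law (D : Datum d h ι L) (S : Type u) [CommSemiring S] [Algebra A S]
    (x : S ⊗[A] B) : ι.lTensor S (D.law.toFun' S x) = L.toFun' S x := by
  obtain ⟨y, rfl⟩ := exists_pi_lift S x
  rw [D.law_eq, D.spec]

theorem Datum.isHomog (D : Datum d h ι L) : PolLaw.IsHomog D.law d := by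
  intro S _ _ s x
  obtain ⟨y, rfl⟩ := exists_pi_lift S x
  rw [← lTensor_smul', D.law_eq, D.law_eq, tl_smul, lTensor_smul']

end present

section mult

variable {B : Type u} [CommRing B] [Algebra A B] {d : ℕ} {N N' : Type u} [CommRing N] [Algebra A N]
  [CommRing N'] [Algebra A N'] {h : Tpow A (Pres A B) d →ₗ[A] N} {ι : N →ₐ[A] N'} {L : B →ₚₗ[A] N'}

theorem Datum.isMult (D : Datum d h ι.toLinearMap L) (hL : PolLaw.IsMult L) :
    PolLaw.IsMult D.law := by
  intro S _ _
  constructor
  · have h1 : h (PiTensorProduct.tprod A fun _ => 1) = 1 := by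
      refine D.inj ?_
      have := D.spec A 1
      have hp : (piP A B).toLinearMap.lTensor A (1 : A ⊗[A] Pres A B) = 1 := by
        rw [PolLaw.lTensor_algHom_apply]; exact map_one _
      rw [tl_one, hp, (hL A).1,
        Algebra.TensorProduct.one_def, LinearMap.lTensor_tmul, LinearMap.lTensor_tmul,
        Algebra.TensorProduct.one_def] at this
      have := congrArg (TensorProduct.lid A N') this
      simp only [TensorProduct.lid_tmul, one_smul] at this
      rw [AlgHom.toLinearMap_apply ι 1, map_one]
      exact this
    have : (1 : S ⊗[A] B) = (piP A B).toLinearMap.lTensor S 1 := by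
      rw [PolLaw.lTensor_algHom_apply, map_one]
    rw [this, D.law_eq, tl_one, Algebra.TensorProduct.one_def, LinearMap.lTensor_tmul,
      show h (1 : Tpow A (Pres A B) d) = 1 from h1]
    rfl
  · intro x x'
    obtain ⟨y, rfl⟩ := exists_pi_lift S x
    obtain ⟨y', rfl⟩ := exists_pi_lift S x'
    rw [← lTensor_algHom_mul, D.law_eq, D.law_eq, D.law_eq]
    classical
    obtain ⟨T, hT⟩ := TensorProduct.exists_finset y
    obtain ⟨U, hU⟩ := TensorProduct.exists_finset y'
    let φ : MvPolynomial (↥T ⊕ ↥U) A →ₐ[A] S :=
      MvPolynomial.aeval (Sum.elim (fun i => i.1.1) (fun i => i.1.1))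
    let y₀ : MvPolynomial (↥T ⊕ ↥U) A ⊗[A] Pres A B := ∑ i : T, MvPolynomial.X (Sum.inl i) ⊗ₜ[A] i.1.2
    let y₁ : MvPolynomial (↥T ⊕ ↥U) A ⊗[A] Pres A B := ∑ i : U, MvPolynomial.X (Sum.inr i) ⊗ₜ[A] i.1.2
    have e0 : φ.toLinearMap.rTensor _ y₀ = y := by
      simp only [y₀, map_sum, LinearMap.rTensor_tmul]
      rw [hT, ← Finset.sum_coe_sort T]
      exact Finset.sum_congr rfl fun i _ => by simp [φ]
    have e1 : φ.toLinearMap.rTensor _ y₁ = y' := by
      simp only [y₁, map_sum, LinearMap.rTensor_tmul]
      rw [hU, ← Finset.sum_coe_sort U]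
      exact Finset.sum_congr rfl fun i _ => by simp [φ]
    rw [← e0, ← e1, ← rTensor_mul, ← tl_compat, ← tl_compat, ← tl_compat, ← rTensor_lTensor,
      ← rTensor_lTensor, ← rTensor_lTensor, ← rTensor_mul]
    congr 1
    refine Module.Flat.lTensor_preserves_injective_linearMap ι.toLinearMap D.inj ?_
    rw [lTensor_algHom_mul ι, D.spec, D.spec, D.spec, lTensor_algHom_mul (piP A B), (hL _).2]

/-- The descended multiplicative law. -/
noncomputable def Datum.mulLaw (D : Datum d h ι.toLinearMap L) (hL : PolLaw.IsMult L) :
    PolLaw.MulLaw A B N d := ⟨D.law, D.isHomog, D.isMult hL⟩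

end mult

section orbit

variable (A) (P : Type u) [CommRing P] [Algebra A P] (d : ℕ)

/-- The diagonal law of the tensor power. -/
noncomputable def tlLaw : PolLaw.MulLaw A P (Tpow A P d) d where
  law :=
    { toFun' := fun S _ _ => tl A P d S
      isCompat' := fun φ => funext fun y => tl_compat φ y }
  homog := fun S _ _ => tl_smul S
  mult := fun S _ _ => ⟨tl_one S, tl_mul S⟩

variable {A P d}

theorem perm_tl (σ : Equiv.Perm (Fin d)) (S : Type u) [CommSemiring S] [Algebra A S] (y : S ⊗[A] P) :
    (SymTen.perm A P d σ).toLinearMap.lTensor S (tl A P d S y) = tl A P d S y := by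
  classical
  rw [PolLaw.lTensor_algHom_apply, tl, map_prod]
  refine Fintype.prod_equiv σ _ _ fun i => ?_
  induction y using TensorProduct.induction_on with
  | zero => simp
  | tmul a b =>
    simp only [Algebra.TensorProduct.map_tmul, AlgHom.id_apply]
    congr 1
    show SymTen.perm A P d σ (PiTensorProduct.tprod A (MonoidHom.mulSingle (fun _ : Fin d => P) i b)) =
      PiTensorProduct.tprod A (MonoidHom.mulSingle (fun _ : Fin d => P) (σ i) b)
    rw [SymTen.perm_tprod]
    congr 1
    funext l
    simp only [MonoidHom.mulSingle_apply, Pi.mulSingle_apply, Equiv.symm_apply_eq]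
  | add a b ha hb => simp only [map_add, ha, hb]

variable {M : Type u} [Nonempty M] (bP : Module.Basis M A P) (d)

/-- The projection onto orbit sums. -/
noncomputable def orbP : Tpow A P d →ₗ[A] Tpow A P d := ghat bP d (tlLaw A P d).law

variable {d}

theorem orbP_tl (S : Type u) [CommSemiring S] [Algebra A S] (y : S ⊗[A] P) :
    (orbP d bP).lTensor S (tl A P d S y) = tl A P d S y :=
  key bP (tlLaw A P d).homog S y

omit [Nonempty M] in
theorem coefT_lTensor {U V : Type u} [AddCommGroup U] [Module A U] [AddCommGroup V] [Module A V]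
    (o : M →₀ ℕ) (h : U →ₗ[A] V) (z : MvPolynomial M A ⊗[A] U) :
    coefT o (h.lTensor _ z) = h (coefT o z) := by
  induction z using TensorProduct.induction_on with
  | zero => simp
  | tmul p x => simp [coefT_tmul]
  | add a b ha hb => simp only [map_add, ha, hb]

/-- Linear maps agreeing on the diagonal law agree on orbit sums. -/
theorem eq_on_orbit {V : Type u} [AddCommGroup V] [Module A V] (h h' : Tpow A P d →ₗ[A] V)
    (he : ∀ T : Finset M, h.lTensor (MvPolynomial M A) (tl A P d _ (gen bP T)) =
      h'.lTensor (MvPolynomial M A) (tl A P d _ (gen bP T))) :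
    h ∘ₗ orbP d bP = h' ∘ₗ orbP d bP := by
  classical
  refine (Basis.piTensorProduct fun _ : Fin d => bP).ext fun c => ?_
  rw [Basis.piTensorProduct_apply, LinearMap.comp_apply, LinearMap.comp_apply, orbP, ghat_tprod]
  split
  · rw [gam, ← coefT_lTensor, ← coefT_lTensor]
    exact congrArg (coefT _) (he _)
  · simp

theorem gam_orbit_mem_TS (o : M →₀ ℕ) : gam bP (tlLaw A P d).law o ∈ SymTen.TS A P d := fun σ => by
  rw [← SymTen.perm_apply]
  show (SymTen.perm A P d σ).toLinearMap _ = _
  rw [gam, ← coefT_lTensor]
  exact congrArg (coefT o) (perm_tl σ _ _)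

theorem orbP_mem_TS (t : Tpow A P d) : orbP d bP t ∈ SymTen.TS A P d := by
  have : ∀ t, orbP d bP t ∈ Subalgebra.toSubmodule (SymTen.TS A P d) := by
    intro t
    have ht : t ∈ (⊤ : Submodule A (Tpow A P d)) := trivial
    rw [← (Basis.piTensorProduct fun _ : Fin d => bP).span_eq] at ht
    refine (Submodule.span_le (p := (Subalgebra.toSubmodule (SymTen.TS A P d)).comap (orbP d bP))).2 ?_ ht
    rintro _ ⟨c, rfl⟩
    show orbP d bP _ ∈ Subalgebra.toSubmodule (SymTen.TS A P d)
    rw [Basis.piTensorProduct_apply, orbP, ghat_tprod]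
    split
    · exact gam_orbit_mem_TS bP _
    · exact Submodule.zero_mem _
  exact this t

omit [Nonempty M] in
theorem exists_perm_of_cnt_eq {c c' : Fin d → M} (h : cnt c = cnt c') :
    ∃ σ : Equiv.Perm (Fin d), c' ∘ σ = c := by
  classical
  have e : ∀ m, { i // c i = m } ≃ { i // c' i = m } := fun m => Fintype.equivOfCardEq (by
    have := DFunLike.congr_fun h m
    simp only [cnt_apply] at this
    rw [Fintype.card_subtype, Fintype.card_subtype]
    convert this)
  exact ⟨Equiv.ofFiberEquiv e, funext fun i => Equiv.ofFiberEquiv_map e i⟩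

theorem repr_orbit_coef [DecidableEq M] {o : M →₀ ℕ} (c : Fin d → M) :
    (Basis.piTensorProduct fun _ : Fin d => bP).repr (gam bP (tlLaw A P d).law o) c =
      if cnt c = o then 1 else 0 := by
  classical
  have : gam bP (tlLaw A P d).law o =
      ∑ c' ∈ (Fintype.piFinset fun _ : Fin d => o.support).filter (fun c' => cnt c' = o),
        PiTensorProduct.tprod A fun i => bP (c' i) := by
    show coefT o (tl A P d _ (gen bP o.support)) = _
    rw [gen, tl_sum, map_sum, Finset.sum_filter]
    refine Finset.sum_congr rfl fun c _ => ?_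
    rw [coefT_tmul, show (∏ i, MvPolynomial.X (R := A) (c i)) = MvPolynomial.monomial (cnt c) 1 by
        rw [cnt, MvPolynomial.monomial_sum_one]; rfl, MvPolynomial.coeff_monomial]
    split <;> simp
  rw [this, map_sum, Finsupp.finsetSum_apply]
  simp only [← Basis.piTensorProduct_apply (fun _ : Fin d => bP), Module.Basis.repr_self,
    Finsupp.single_apply]
  rw [Finset.sum_ite_eq']
  refine if_congr ?_ rfl rfl
  simp only [Finset.mem_filter, Fintype.mem_piFinset]
  exact ⟨fun h => h.2, fun h => ⟨fun i => h ▸ mem_support_cnt c i, h⟩⟩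

theorem orbP_eq_self {t : Tpow A P d} (ht : t ∈ SymTen.TS A P d) : orbP d bP t = t := by
  classical
  set b := Basis.piTensorProduct fun _ : Fin d => bP with hb
  refine b.ext_elem fun c => ?_
  conv_lhs => rw [← b.linearCombination_repr t]
  rw [Finsupp.linearCombination_apply, Finsupp.sum, map_sum, map_sum, Finsupp.finsetSum_apply]
  have hterm : ∀ c', b.repr (orbP d bP (b.repr t c' • b c')) c =
      if c' = rep (cnt c) then b.repr t c' else 0 := by
    intro c'
    rw [map_smul, map_smul, Finsupp.smul_apply, hb, Basis.piTensorProduct_apply, orbP, ghat_tprod]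
    by_cases h1 : rep (cnt c') = c'
    · rw [if_pos h1, repr_orbit_coef]
      by_cases h2 : cnt c = cnt c'
      · rw [if_pos h2, if_pos (by rw [h2, h1]), smul_eq_mul, mul_one]
      · rw [if_neg h2, smul_zero, if_neg fun e => h2 (by rw [e, cnt_rep (cnt_degree c)])]
    · rw [if_neg h1, map_zero, Finsupp.zero_apply, smul_zero,
        if_neg fun e => h1 (by rw [e, cnt_rep (cnt_degree c)])]
  simp only [hterm]
  rw [Finset.sum_ite_eq']
  have hinv : b.repr t (rep (cnt c)) = b.repr t c := by
    obtain ⟨σ, hσ⟩ := exists_perm_of_cnt_eq (cnt_rep (d := d) (cnt_degree c))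
    have key : ∀ (u : Tpow A P d) (e : Fin d → M),
        b.repr (SymTen.perm A P d σ⁻¹ u) e = b.repr u (fun i => e (σ.symm i)) := by
      intro u e
      induction u using PiTensorProduct.induction_on with
      | smul_tprod r f =>
        rw [map_smul, SymTen.perm_tprod, map_smul, map_smul, Finsupp.smul_apply, Finsupp.smul_apply,
          hb, Basis.piTensorProduct_repr_tprod_apply, Basis.piTensorProduct_repr_tprod_apply]
        congr 1
        exact Fintype.prod_equiv σ _ _ fun i => by simp [Equiv.Perm.inv_def]
      | add x y hx hy => simp only [map_add, Finsupp.add_apply, hx, hy]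
    have h2 := key t (rep (d := d) (cnt c))
    rw [SymTen.perm_apply, (SymTen.mem_TS_iff A P d t).1 ht σ⁻¹] at h2
    rw [h2]
    congr 1
    funext i
    have := congrFun hσ (σ.symm i)
    simp only [Function.comp_apply, Equiv.apply_symm_apply] at this
    exact this.symm
  split
  · exact hinv
  · rename_i hn
    rw [Finsupp.notMem_support_iff] at hn
    rw [← hinv, hn]

theorem ghat_orbP {C : Type u} [CommRing C] [Algebra A C] {L : P →ₚₗ[A] C} (hL : PolLaw.IsHomog L d)
    (t : Tpow A P d) : ghat bP d L (orbP d bP t) = ghat bP d L t := by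
  classical
  suffices ghat bP d L ∘ₗ orbP d bP = ghat bP d L from LinearMap.congr_fun this t
  refine (Basis.piTensorProduct fun _ : Fin d => bP).ext fun c => ?_
  rw [Basis.piTensorProduct_apply, LinearMap.comp_apply, orbP, ghat_tprod, ghat_tprod]
  split
  · rw [gam, ← coefT_lTensor, show (tlLaw A P d).law.toFun' (MvPolynomial M A) = tl A P d _ from rfl,
      key bP hL]
    rfl
  · simp

/-- Bilinear evaluation: `ghat` of a multiplicative law is multiplicative on symmetric tensors. -/
theorem ghat_mul {C : Type u} [CommRing C] [Algebra A C] (L : PolLaw.MulLaw A P C d)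
    {u v : Tpow A P d} (hu : u ∈ SymTen.TS A P d) (hv : v ∈ SymTen.TS A P d) :
    ghat bP d L.law (u * v) = ghat bP d L.law u * ghat bP d L.law v := by
  classical
  -- reduce to orbit sums
  set G := ghat bP d L.law with hG
  suffices ∀ a b, G (orbP d bP a * orbP d bP b) = G (orbP d bP a) * G (orbP d bP b) by
    have := this u v
    rwa [orbP_eq_self bP hu, orbP_eq_self bP hv] at this
  set β := Basis.piTensorProduct fun _ : Fin d => bP
  have hbil : ((LinearMap.mul A (Tpow A P d)).compl₁₂ (orbP d bP) (orbP d bP)).compr₂ G =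
      (LinearMap.mul A C).compl₁₂ (G ∘ₗ orbP d bP) (G ∘ₗ orbP d bP) := by
    refine β.ext fun c => β.ext fun c' => ?_
    show G (orbP d bP (β c) * orbP d bP (β c')) = G (orbP d bP (β c)) * G (orbP d bP (β c'))
    simp only [β, Basis.piTensorProduct_apply, orbP, ghat_tprod]
    by_cases h1 : rep (cnt c) = c
    · by_cases h2 : rep (cnt c') = c'
      · rw [if_pos h1, if_pos h2]
        set o := cnt c
        set o' := cnt c'
        -- the generic product
        let il : MvPolynomial M A →ₐ[A] MvPolynomial (M ⊕ M) A := MvPolynomial.rename Sum.inl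
        let ir : MvPolynomial M A →ₐ[A] MvPolynomial (M ⊕ M) A := MvPolynomial.rename Sum.inr
        let oo : (M ⊕ M) →₀ ℕ := o.mapDomain Sum.inl + o'.mapDomain Sum.inr
        let cf : (V : Type u) → [AddCommGroup V] → [Module A V] →
            MvPolynomial (M ⊕ M) A ⊗[A] V →ₗ[A] V := fun V _ _ => coefT oo
        have hext : ∀ (W : Type u) [CommRing W] [Algebra A W] (z z' : MvPolynomial M A ⊗[A] W),
            coefT oo (il.toLinearMap.rTensor W z * ir.toLinearMap.rTensor W z') =
              coefT o z * coefT o' z' := by
          intro W _ _ z z'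
          induction z using TensorProduct.induction_on with
          | zero => simp
          | add a b ha hb => simp only [map_add, add_mul, ha, hb]
          | tmul p x =>
            induction z' using TensorProduct.induction_on with
            | zero => simp
            | add a b ha hb => simp only [map_add, mul_add, ha, hb]
            | tmul q x' =>
              simp only [LinearMap.rTensor_tmul, AlgHom.toLinearMap_apply,
                Algebra.TensorProduct.tmul_mul_tmul, coefT_tmul, smul_mul_smul_comm]
              congr 1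
              induction p using MvPolynomial.induction_on' with
              | add p₁ p₂ h₁ h₂ => simp only [map_add, add_mul, MvPolynomial.coeff_add, h₁, h₂]
              | monomial d₁ a =>
                induction q using MvPolynomial.induction_on' with
                | add q₁ q₂ h₁ h₂ => simp only [map_add, mul_add, MvPolynomial.coeff_add, h₁, h₂]
                | monomial d₂ b =>
                  simp only [il, ir, MvPolynomial.rename_monomial, MvPolynomial.monomial_mul,
                    MvPolynomial.coeff_monomial, oo]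
                  have hiff : Finsupp.mapDomain Sum.inl d₁ + Finsupp.mapDomain Sum.inr d₂ =
                      Finsupp.mapDomain Sum.inl o + Finsupp.mapDomain Sum.inr o' ↔ d₁ = o ∧ d₂ = o' := by
                    refine ⟨fun he => ⟨?_, ?_⟩, fun he => by rw [he.1, he.2]⟩
                    · ext m
                      have := DFunLike.congr_fun he (Sum.inl m)
                      simpa [Finsupp.mapDomain_apply Sum.inl_injective,
                        Finsupp.mapDomain_notin_range] using this
                    · ext m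
                      have := DFunLike.congr_fun he (Sum.inr m)
                      simpa [Finsupp.mapDomain_apply Sum.inr_injective,
                        Finsupp.mapDomain_notin_range] using this
                  simp only [hiff]
                  split_ifs with hA hB hC <;> simp_all
        show G (coefT o (tl A P d _ (gen bP o.support)) * coefT o' (tl A P d _ (gen bP o'.support))) =
          G (coefT o (tl A P d _ (gen bP o.support))) * G (coefT o' (tl A P d _ (gen bP o'.support)))
        rw [← hext, ← coefT_lTensor o, ← coefT_lTensor o', ← hext, hG,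
          key bP L.homog, key bP L.homog, tl_compat, tl_compat, ← tl_mul, law_compat, law_compat,
          ← (L.mult _).2]
        rw [← key bP L.homog]
        exact (coefT_lTensor oo _ _).symm
      · simp [if_neg h2]
    · simp [if_neg h1]
  intro a b
  exact LinearMap.congr_fun (LinearMap.congr_fun hbil a) b

end orbit

end Groth.Agent.GammaD
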