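import Mathlib.RingTheory.PolynomialLaw.Basic
import Mathlib.RingTheory.TensorProduct.Basic
import Mathlib.LinearAlgebra.TensorProduct.RightExactness
import Mathlib.Algebra.MvPolynomial.Variables
import Mathlib.Algebra.MvPolynomial.Rename
import Mathlib.LinearAlgebra.TensorProduct.Finiteness

/-! # Polynomial laws are determined by, and extend from, the polynomial rings `A[X₁,…,Xₙ]` -/

universe u v w

open scoped TensorProduct

namespace Groth.Agent.GammaD.LawExt

variable {A : Type u} [CommRing A] {M : Type v} [AddCommGroup M] [Module A M] {N : Type w}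
  [AddCommGroup N] [Module A N]

theorem exists_lift {S : Type u} [CommSemiring S] [Algebra A S] (x : S ⊗[A] M) :
    ∃ (n : ℕ) (φ : MvPolynomial (Fin n) A →ₐ[A] S) (y : MvPolynomial (Fin n) A ⊗[A] M),
      φ.toLinearMap.rTensor M y = x := by
  classical
  obtain ⟨T, rfl⟩ := TensorProduct.exists_finset x
  refine ⟨T.card, MvPolynomial.aeval fun i => (T.equivFin.symm i).1.1,
    ∑ i, MvPolynomial.X i ⊗ₜ[A] (T.equivFin.symm i).1.2, ?_⟩
  simp only [map_sum, LinearMap.rTensor_tmul, AlgHom.toLinearMap_apply, MvPolynomial.aeval_X]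
  rw [← Finset.sum_coe_sort T, Equiv.sum_comp T.equivFin.symm fun i : ↥T => i.1.1 ⊗ₜ[A] i.1.2]

theorem rTensor_comp' {S S' S'' : Type u} [CommSemiring S] [Algebra A S] [CommSemiring S'] [Algebra A S']
    [CommSemiring S''] [Algebra A S''] (g : S' →ₐ[A] S'') (f : S →ₐ[A] S') (y : S ⊗[A] M) :
    (g.comp f).toLinearMap.rTensor M y = g.toLinearMap.rTensor M (f.toLinearMap.rTensor M y) := by
  rw [AlgHom.comp_toLinearMap, LinearMap.rTensor_comp, LinearMap.comp_apply]

variable {T : ∀ n : ℕ, MvPolynomial (Fin n) A ⊗[A] M → MvPolynomial (Fin n) A ⊗[A] N}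

/-- Two lifts of one element give one value. -/
theorem indep (hT : ∀ (n m : ℕ) (φ : MvPolynomial (Fin n) A →ₐ[A] MvPolynomial (Fin m) A),
      φ.toLinearMap.rTensor N ∘ T n = T m ∘ φ.toLinearMap.rTensor M)
    {S : Type u} [CommSemiring S] [Algebra A S] {n m : ℕ} (φ : MvPolynomial (Fin n) A →ₐ[A] S)
    (ψ : MvPolynomial (Fin m) A →ₐ[A] S) (y : MvPolynomial (Fin n) A ⊗[A] M)
    (z : MvPolynomial (Fin m) A ⊗[A] M) (h : φ.toLinearMap.rTensor M y = ψ.toLinearMap.rTensor M z) :
    φ.toLinearMap.rTensor N (T n y) = ψ.toLinearMap.rTensor N (T m z) := by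
  classical
  letI : CommRing S := { Algebra.semiringToRing A, ‹CommSemiring S› with }
  -- the polynomial ring on all elements of `S`
  let Φ : MvPolynomial S A →ₐ[A] S := MvPolynomial.aeval id
  let iy : MvPolynomial (Fin n) A →ₐ[A] MvPolynomial S A := MvPolynomial.rename fun i => φ (MvPolynomial.X i)
  let iz : MvPolynomial (Fin m) A →ₐ[A] MvPolynomial S A := MvPolynomial.rename fun i => ψ (MvPolynomial.X i)
  have hiy : Φ.comp iy = φ := MvPolynomial.algHom_ext fun i => by simp [Φ, iy]
  have hiz : Φ.comp iz = ψ := MvPolynomial.algHom_ext fun i => by simp [Φ, iz]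
  have hk : Φ.toLinearMap.rTensor M (iy.toLinearMap.rTensor M y - iz.toLinearMap.rTensor M z) = 0 := by
    rw [map_sub, ← rTensor_comp', ← rTensor_comp', hiy, hiz, h, sub_self]
  obtain ⟨q, hq⟩ := (rTensor_exact M (LinearMap.exact_subtype_ker_map Φ.toLinearMap)
    (fun s => ⟨MvPolynomial.X s, MvPolynomial.aeval_X id s⟩) _).1 hk
  obtain ⟨Q, rfl⟩ := TensorProduct.exists_finset q
  -- finitely many variables
  let V : Finset S := (Finset.univ.image fun i => φ (MvPolynomial.X i)) ∪
    (Finset.univ.image fun i => ψ (MvPolynomial.X i)) ∪ Q.biUnion fun p => (p.1 : MvPolynomial S A).vars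
  let e : MvPolynomial (Fin V.card) A →ₐ[A] S := MvPolynomial.aeval fun k => (V.equivFin.symm k : S)
  let r : MvPolynomial S A →ₐ[A] MvPolynomial (Fin V.card) A :=
    MvPolynomial.aeval fun s => if hs : s ∈ V then MvPolynomial.X (V.equivFin ⟨s, hs⟩) else 0
  have her : ∀ p : MvPolynomial S A, p.vars ⊆ V → e (r p) = Φ p := by
    intro p hp
    rw [← AlgHom.comp_apply, MvPolynomial.comp_aeval, MvPolynomial.aeval_def]
    show _ = MvPolynomial.eval₂ (algebraMap A S) id p
    apply MvPolynomial.eval₂_congr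
    intro i c hi hc
    have hiV : i ∈ V := hp (MvPolynomial.mem_vars i |>.2 ⟨c, MvPolynomial.mem_support_iff.2 hc, hi⟩)
    simp [e, hiV]
  have hr1 : e.comp (r.comp iy) = φ := MvPolynomial.algHom_ext fun i => by
    have : φ (MvPolynomial.X i) ∈ V :=
      Finset.mem_union_left _ (Finset.mem_union_left _ (Finset.mem_image_of_mem _ (Finset.mem_univ i)))
    simp [e, r, iy, this]
  have hr2 : e.comp (r.comp iz) = ψ := MvPolynomial.algHom_ext fun i => by
    have : ψ (MvPolynomial.X i) ∈ V :=
      Finset.mem_union_left _ (Finset.mem_union_right _ (Finset.mem_image_of_mem _ (Finset.mem_univ i)))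
    simp [e, r, iz, this]
  let y' := (r.comp iy).toLinearMap.rTensor M y
  let z' := (r.comp iz).toLinearMap.rTensor M z
  have hyz : y' = z' + ∑ p ∈ Q, r (p.1 : MvPolynomial S A) ⊗ₜ[A] p.2 := by
    have := congrArg (r.toLinearMap.rTensor M) hq
    rw [map_sub, map_sum, map_sum] at this
    simp only [LinearMap.rTensor_tmul] at this
    simp only [y', z', rTensor_comp']
    exact eq_add_of_sub_eq' this.symm
  -- the family
  let K := Q.card
  let il : MvPolynomial (Fin V.card) A →ₐ[A] MvPolynomial (Fin (V.card + K)) A :=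
    MvPolynomial.rename (Fin.castAdd K)
  let j : Fin K → MvPolynomial (Fin V.card) A := fun k => r ((Q.equivFin.symm k).1.1 : MvPolynomial S A)
  let Y : MvPolynomial (Fin (V.card + K)) A ⊗[A] M :=
    il.toLinearMap.rTensor M z' + ∑ k : Fin K, MvPolynomial.X (Fin.natAdd V.card k) ⊗ₜ[A] (Q.equivFin.symm k).1.2
  let s0 : MvPolynomial (Fin (V.card + K)) A →ₐ[A] MvPolynomial (Fin V.card) A :=
    MvPolynomial.aeval (Fin.addCases MvPolynomial.X fun _ => 0)
  let s1 : MvPolynomial (Fin (V.card + K)) A →ₐ[A] MvPolynomial (Fin V.card) A :=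
    MvPolynomial.aeval (Fin.addCases MvPolynomial.X j)
  have h0 : s0.toLinearMap.rTensor M Y = z' := by
    have hc : s0.comp il = AlgHom.id A _ := MvPolynomial.algHom_ext fun i => by simp [s0, il]
    simp only [Y, map_add, map_sum, LinearMap.rTensor_tmul, ← rTensor_comp', hc]
    simp [s0]
  have h1 : s1.toLinearMap.rTensor M Y = y' := by
    have hc : s1.comp il = AlgHom.id A _ := MvPolynomial.algHom_ext fun i => by simp [s1, il]
    simp only [Y, map_add, map_sum, LinearMap.rTensor_tmul, ← rTensor_comp', hc, hyz]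
    congr 1
    · simp
    · rw [← Finset.sum_coe_sort Q, ← Equiv.sum_comp Q.equivFin.symm]
      exact Finset.sum_congr rfl fun k _ => by simp [s1, j]
  have hes : e.comp s1 = e.comp s0 := by
    refine MvPolynomial.algHom_ext fun i => ?_
    refine Fin.addCases (fun i => ?_) (fun k => ?_) i
    · simp [s0, s1]
    · have hmem := (Q.equivFin.symm k).1.1.2
      rw [LinearMap.mem_ker] at hmem
      simp only [AlgHom.comp_apply, s0, s1, MvPolynomial.aeval_X, Fin.addCases_right, map_zero, j]
      rw [her]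
      · exact hmem
      · intro x hx
        exact Finset.mem_union_right _ (Finset.mem_biUnion.2 ⟨_, (Q.equivFin.symm k).2, hx⟩)
  have key : e.toLinearMap.rTensor N (T _ y') = e.toLinearMap.rTensor N (T _ z') := by
    rw [← h1, ← h0]
    have t1 := congrFun (hT _ _ s1) Y
    have t0 := congrFun (hT _ _ s0) Y
    simp only [Function.comp_apply] at t1 t0
    rw [← t1, ← t0, ← rTensor_comp', ← rTensor_comp', hes]
  have t1 := congrFun (hT _ _ (r.comp iy)) y
  have t2 := congrFun (hT _ _ (r.comp iz)) z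
  simp only [Function.comp_apply] at t1 t2
  show φ.toLinearMap.rTensor N (T n y) = _
  conv_lhs => rw [← hr1, rTensor_comp', t1]
  conv_rhs => rw [← hr2, rTensor_comp', t2]
  exact key

theorem bijective_restrict :
    Function.Bijective (fun F : M →ₚₗ[A] N =>
      (⟨fun n => F.toFun' (MvPolynomial (Fin n) A), fun n m φ => F.isCompat' φ⟩ :
        {T : ∀ n : ℕ, MvPolynomial (Fin n) A ⊗[A] M → MvPolynomial (Fin n) A ⊗[A] N //
          ∀ (n m : ℕ) (φ : MvPolynomial (Fin n) A →ₐ[A] MvPolynomial (Fin m) A),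
            φ.toLinearMap.rTensor N ∘ T n = T m ∘ φ.toLinearMap.rTensor M})) := by
  constructor
  · intro F F' h
    have h' := congrArg Subtype.val h
    refine PolynomialLaw.ext (funext fun S => funext fun _ => funext fun _ => funext fun x => ?_)
    obtain ⟨n, φ, y, rfl⟩ := exists_lift x
    have e1 := congrFun (F.isCompat' φ) y
    have e2 := congrFun (F'.isCompat' φ) y
    simp only [Function.comp_apply] at e1 e2
    rw [← e1, ← e2]
    exact congrArg _ (congrFun (congrFun h' n) y)
  · rintro ⟨T, hT⟩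
    let g : ∀ (S : Type u) [CommSemiring S] [Algebra A S], S ⊗[A] M → S ⊗[A] N := fun S _ _ x =>
      (exists_lift x).choose_spec.choose.toLinearMap.rTensor N
        (T (exists_lift x).choose (exists_lift x).choose_spec.choose_spec.choose)
    have hg : ∀ (S : Type u) [CommSemiring S] [Algebra A S] (n : ℕ) (φ : MvPolynomial (Fin n) A →ₐ[A] S)
        (y : MvPolynomial (Fin n) A ⊗[A] M),
        g S (φ.toLinearMap.rTensor M y) = φ.toLinearMap.rTensor N (T n y) := fun S _ _ n φ y =>
      indep hT _ φ _ y (exists_lift (φ.toLinearMap.rTensor M y)).choose_spec.choose_spec.choose_spec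
    refine ⟨{ toFun' := g, isCompat' := fun {S} _ _ {S'} _ _ ψ => ?_ }, Subtype.ext (funext fun n => funext fun y => ?_)⟩
    · funext x
      obtain ⟨n, φ, y, rfl⟩ := exists_lift x
      simp only [Function.comp_apply, hg, ← rTensor_comp']
    · have := hg _ n (AlgHom.id A _) y
      simpa using this

end Groth.Agent.GammaD.LawExt
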