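import Groth.Prelude.Def_PolLaw2
import Groth.Agent.Lib.GammaD.LawExt
import Groth.Agent.Lib.Unibr4.Poly
import Mathlib.RingTheory.Localization.FractionRing
import Mathlib.RingTheory.IntegralClosure.IntegrallyClosed
import Mathlib.RingTheory.IntegralClosure.Algebra.Basic
import Mathlib.LinearAlgebra.Matrix.Charpoly.Eigs
import Mathlib.LinearAlgebra.Matrix.Charpoly.LinearMap
import Mathlib.FieldTheory.IsAlgClosed.Spectrum
import Mathlib.FieldTheory.IsAlgClosed.AlgebraicClosure
import Mathlib.LinearAlgebra.TensorProduct.Tower

/-! # The determinant law over a normal base -/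

universe u

open scoped TensorProduct

namespace Groth.Agent.GammaD.DetNormal

theorem isIntegral_matrix_det {R K : Type u} [CommRing R] [Field K] [Algebra R K] {n : Type*} [Fintype n]
    [DecidableEq n] (G : Matrix n n K) (P : Polynomial R) (hP : P.Monic) (h : Polynomial.aeval G P = 0) :
    IsIntegral R G.det := by
  cases isEmpty_or_nonempty n
  · rw [Matrix.det_isEmpty]; exact isIntegral_one
  let L := AlgebraicClosure K
  refine (isIntegral_algHom_iff (IsScalarTower.toAlgHom R K L) (algebraMap K L).injective).1 ?_
  rw [IsScalarTower.coe_toAlgHom', RingHom.map_det, Matrix.det_eq_prod_roots_charpoly]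
  refine IsIntegral.multiset_prod fun r hr => ⟨P, hP, ?_⟩
  rw [← Polynomial.aeval_def]
  have hz : Polynomial.aeval ((algebraMap K L).mapMatrix G) (P.map (algebraMap R L)) = 0 := by
    rw [Polynomial.aeval_map_algebraMap]
    have := congrArg ((IsScalarTower.toAlgHom R K L).mapMatrix (m := n)) h
    rw [map_zero, ← Polynomial.aeval_algHom_apply] at this
    exact this
  have hspec : r ∈ spectrum L ((algebraMap K L).mapMatrix G) :=
    Matrix.mem_spectrum_iff_isRoot_charpoly.2 (Polynomial.isRoot_of_mem_roots hr)
  have := spectrum.subset_polynomial_aeval ((algebraMap K L).mapMatrix G) (P.map (algebraMap R L))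
    ⟨r, hspec, rfl⟩
  rw [hz, spectrum.zero_eq, Set.mem_singleton_iff] at this
  simp only [Polynomial.eval_map] at this
  rw [Polynomial.aeval_def]
  exact this

variable {A : Type u} [CommRing A] {B M : Type u} [CommRing B] [Algebra A B] [AddCommGroup M] [Module A M]
  [Module B M] [IsScalarTower A B M]

theorem actEnd_isIntegral [Module.Finite A M] {T T' : Type u} [CommRing T] [Algebra A T] [CommRing T']
    [Algebra A T'] (ι : T →ₐ[A] T') (x : T ⊗[A] B) :
    ∃ P : Polynomial T, P.Monic ∧
      Polynomial.aeval (PolLaw.actEnd M T' (Algebra.TensorProduct.map ι (AlgHom.id A B) x)) (P.map ι.toRingHom) = 0 := by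
  obtain ⟨P, hP, h0⟩ := LinearMap.exists_monic_and_aeval_eq_zero T (PolLaw.actEnd M T x)
  refine ⟨P, hP, ?_⟩
  have hpow : ∀ (k : ℕ) (z : T ⊗[A] M), ι.toLinearMap.rTensor M ((PolLaw.actEnd M T x ^ k) z) =
      (PolLaw.actEnd M T' (Algebra.TensorProduct.map ι (AlgHom.id A B) x) ^ k) (ι.toLinearMap.rTensor M z) := by
    intro k
    induction k with
    | zero => intro z; simp
    | succ k ih =>
      intro z
      rw [pow_succ, pow_succ, Module.End.mul_apply, Module.End.mul_apply, ih, PolLaw.rTensor_actEnd]
  have key : ∀ z : T ⊗[A] M, Polynomial.aeval (PolLaw.actEnd M T' (Algebra.TensorProduct.map ι (AlgHom.id A B) x))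
      (P.map ι.toRingHom) (ι.toLinearMap.rTensor M z) = 0 := by
    intro z
    rw [show (0 : T' ⊗[A] M) = ι.toLinearMap.rTensor M (Polynomial.aeval (PolLaw.actEnd M T x) P z) by simp [h0]]
    clear hP h0
    induction P using Polynomial.induction_on' with
    | add p q hp hq =>
      simp only [Polynomial.map_add, map_add, LinearMap.add_apply] at *
      rw [hp, hq]
    | monomial k c =>
      simp only [Polynomial.map_monomial, Polynomial.aeval_monomial, Module.End.mul_apply,
        Module.algebraMap_end_apply]
      rw [← hpow]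
      generalize (PolLaw.actEnd M T x ^ k) z = w
      induction w using TensorProduct.induction_on with
      | zero => simp
      | tmul t m => simp [TensorProduct.smul_tmul']
      | add a b ha hb => simp only [smul_add, map_add, ha, hb]
  refine LinearMap.ext fun w => ?_
  induction w using TensorProduct.induction_on with
  | zero => simp
  | tmul t m =>
    have h1 : t ⊗ₜ[A] m = t • ((1 : T') ⊗ₜ[A] m) := by rw [TensorProduct.smul_tmul', smul_eq_mul, mul_one]
    have h2 := key (1 ⊗ₜ[A] m)
    rw [LinearMap.rTensor_tmul, AlgHom.toLinearMap_apply, map_one] at h2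
    rw [h1, map_smul, h2, smul_zero]
    rfl
  | add a b ha hb => simp only [map_add, ha, hb]

section field

variable (F : Type u) [Field F] [Algebra A F] {T : Type u} [CommRing T] [Algebra A T] [Algebra F T]
  [IsScalarTower A F T]

variable (M) in
/-- The basis coming from the generic fibre. -/
noncomputable def bas [Module.Finite A M] (T : Type u) [CommRing T] [Algebra A T] [Algebra F T]
    [IsScalarTower A F T] :
    Module.Basis (Fin (Module.finrank F (F ⊗[A] M))) T (T ⊗[A] M) :=
  (Algebra.TensorProduct.basis T (Module.finBasis F (F ⊗[A] M))).map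
    (TensorProduct.AlgebraTensorModule.cancelBaseChange A F T T M)

theorem rTensor_cancel {T T' : Type u} [CommRing T] [Algebra A T] [Algebra F T] [IsScalarTower A F T]
    [CommRing T'] [Algebra A T'] [Algebra F T'] [IsScalarTower A F T'] (φ : T →ₐ[F] T')
    (w : T ⊗[F] (F ⊗[A] M)) :
    (φ.restrictScalars A).toLinearMap.rTensor M
      (TensorProduct.AlgebraTensorModule.cancelBaseChange A F T T M w) =
      TensorProduct.AlgebraTensorModule.cancelBaseChange A F T' T' M (φ.toLinearMap.rTensor (F ⊗[A] M) w) := by
  induction w using TensorProduct.induction_on with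
  | zero => simp
  | add a b ha hb => simp only [map_add, ha, hb]
  | tmul t v =>
    induction v using TensorProduct.induction_on with
    | zero => simp
    | add a b ha hb => simp only [TensorProduct.tmul_add, map_add, ha, hb]
    | tmul c m => simp

theorem bas_map [Module.Finite A M] {T T' : Type u} [CommRing T] [Algebra A T] [Algebra F T] [IsScalarTower A F T]
    [CommRing T'] [Algebra A T'] [Algebra F T'] [IsScalarTower A F T'] (φ : T →ₐ[F] T') (z : T ⊗[A] M) (i) :
    (bas M F T').repr ((φ.restrictScalars A).toLinearMap.rTensor M z) i = φ ((bas M F T).repr z i) := by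
  obtain ⟨w, rfl⟩ := (TensorProduct.AlgebraTensorModule.cancelBaseChange A F T T M).surjective z
  rw [rTensor_cancel F φ, bas, bas, Module.Basis.map_repr, Module.Basis.map_repr]
  simp only [LinearEquiv.trans_apply, LinearEquiv.symm_apply_apply]
  induction w using TensorProduct.induction_on with
  | zero => simp
  | add a b ha hb => simp only [map_add, Finsupp.add_apply, ha, hb]
  | tmul t v =>
    simp [Algebra.TensorProduct.basis_repr_tmul, Finsupp.smul_apply, Finsupp.mapRange_apply]

theorem det_map [Module.Finite A M] {T T' : Type u} [CommRing T] [Algebra A T] [Algebra F T] [IsScalarTower A F T]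
    [CommRing T'] [Algebra A T'] [Algebra F T'] [IsScalarTower A F T'] (φ : T →ₐ[F] T') (x : T ⊗[A] B) :
    φ (PolLaw.detAct M T x) =
      PolLaw.detAct M T' (Algebra.TensorProduct.map (φ.restrictScalars A) (AlgHom.id A B) x) := by
  classical
  unfold PolLaw.detAct
  rw [← LinearMap.det_toMatrix (bas M F T'), ← LinearMap.det_toMatrix (bas M F T), AlgHom.map_det]
  congr 1
  ext i j
  simp only [AlgHom.mapMatrix_apply, Matrix.map_apply, LinearMap.toMatrix_apply]
  rw [← bas_map F φ, PolLaw.rTensor_actEnd]
  congr 3
  rw [bas, bas, Module.Basis.map_apply, Module.Basis.map_apply, rTensor_cancel F φ]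
  simp

theorem det_smul' [Module.Finite A M] (t : T) (x : T ⊗[A] B) :
    PolLaw.detAct M T (t • x) = t ^ Module.finrank F (F ⊗[A] M) * PolLaw.detAct M T x := by
  classical
  unfold PolLaw.detAct
  rw [← LinearMap.det_toMatrix (bas M F T), map_smul, map_smul, Matrix.det_smul, LinearMap.det_toMatrix,
    Fintype.card_fin]

end field

section normal

variable (A) [IsDomain A] [IsIntegrallyClosed A]

/-- The map to the polynomials over the fraction field. -/
noncomputable def jn (n : ℕ) : MvPolynomial (Fin n) A →ₐ[A] MvPolynomial (Fin n) (FractionRing A) :=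
  MvPolynomial.aeval MvPolynomial.X

omit [IsIntegrallyClosed A] in
theorem jn_injective (n : ℕ) : Function.Injective (jn A n) := by
  have : (jn A n : MvPolynomial (Fin n) A → _) = MvPolynomial.map (algebraMap A (FractionRing A)) := by
    have := MvPolynomial.ringHom_ext (f := (jn A n).toRingHom) (g := MvPolynomial.map (algebraMap A (FractionRing A)))
      (fun a => by simp [jn]) (fun i => by simp [jn])
    exact congrArg DFunLike.coe this
  rw [this]
  exact MvPolynomial.map_injective _ (IsFractionRing.injective A (FractionRing A))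

omit [IsIntegrallyClosed A] in
theorem exists_clear (n : ℕ) (p : MvPolynomial (Fin n) (FractionRing A)) :
    ∃ (a : A) (q : MvPolynomial (Fin n) A), a ≠ 0 ∧ jn A n q = p * algebraMap A _ a := by
  induction p using MvPolynomial.induction_on with
  | C c =>
    obtain ⟨a, s, rfl⟩ := IsLocalization.exists_mk'_eq (nonZeroDivisors A) c
    refine ⟨s, MvPolynomial.C a, nonZeroDivisors.ne_zero s.2, ?_⟩
    rw [IsScalarTower.algebraMap_apply A (FractionRing A) (MvPolynomial (Fin n) (FractionRing A)),
      MvPolynomial.algebraMap_eq, ← map_mul, IsLocalization.mk'_spec]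
    simp [jn]
  | add p q hp hq =>
    obtain ⟨a, p', ha, hp'⟩ := hp
    obtain ⟨b, q', hb, hq'⟩ := hq
    exact ⟨a * b, p' * MvPolynomial.C b + q' * MvPolynomial.C a, mul_ne_zero ha hb, by
      simp only [map_add, map_mul, hp', hq', ← MvPolynomial.algebraMap_eq, AlgHom.commutes]; ring⟩
  | mul_X p i hp =>
    obtain ⟨a, p', ha, hp'⟩ := hp
    exact ⟨a, p' * MvPolynomial.X i, ha, by simp only [map_mul, hp']; simp [jn]; ring⟩

variable {A}
variable [Module.Finite A M] (d : ℕ) (hd : Module.finrank (FractionRing A) (FractionRing A ⊗[A] M) = d)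

variable (M) in
/-- The determinant over the polynomials over the fraction field. -/
noncomputable def En (n : ℕ) (x : MvPolynomial (Fin n) A ⊗[A] B) : MvPolynomial (Fin n) (FractionRing A) :=
  PolLaw.detAct M (MvPolynomial (Fin n) (FractionRing A)) (Algebra.TensorProduct.map (jn A n) (AlgHom.id A B) x)

omit [IsIntegrallyClosed A] in
theorem map_comp_apply {T T' T'' : Type u} [CommRing T] [Algebra A T] [CommRing T'] [Algebra A T'] [CommRing T'']
    [Algebra A T''] (g : T' →ₐ[A] T'') (f : T →ₐ[A] T') (x : T ⊗[A] B) :
    Algebra.TensorProduct.map g (AlgHom.id A B) (Algebra.TensorProduct.map f (AlgHom.id A B) x) =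
      Algebra.TensorProduct.map (g.comp f) (AlgHom.id A B) x := by
  induction x using TensorProduct.induction_on with
  | zero => simp
  | tmul t b => rfl
  | add a b ha hb => simp only [map_add, ha, hb]

omit [IsIntegrallyClosed A] in
theorem exists_psi (n : ℕ) :
    ∃ (alg : Algebra (FractionRing A) (FractionRing (MvPolynomial (Fin n) A)))
      (_ : IsScalarTower A (FractionRing A) (FractionRing (MvPolynomial (Fin n) A)))
      (ψ : MvPolynomial (Fin n) (FractionRing A) →ₐ[FractionRing A] FractionRing (MvPolynomial (Fin n) A)),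
      (ψ.restrictScalars A).comp (jn A n) = IsScalarTower.toAlgHom A _ _ ∧ Function.Injective ψ := by
  have hinj : Function.Injective (algebraMap A (FractionRing (MvPolynomial (Fin n) A))) := by
    rw [IsScalarTower.algebraMap_eq A (MvPolynomial (Fin n) A) (FractionRing (MvPolynomial (Fin n) A))]
    exact (IsFractionRing.injective (MvPolynomial (Fin n) A) (FractionRing (MvPolynomial (Fin n) A))).comp (MvPolynomial.C_injective (Fin n) A)
  haveI : FaithfulSMul A (FractionRing (MvPolynomial (Fin n) A)) := (faithfulSMul_iff_algebraMap_injective _ _).2 hinj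
  letI alg := FractionRing.liftAlgebra A (FractionRing (MvPolynomial (Fin n) A))
  let ψ : MvPolynomial (Fin n) (FractionRing A) →ₐ[FractionRing A] FractionRing (MvPolynomial (Fin n) A) :=
    MvPolynomial.aeval fun i => algebraMap (MvPolynomial (Fin n) A) _ (MvPolynomial.X i)
  have hψ : (ψ.restrictScalars A).comp (jn A n) = IsScalarTower.toAlgHom A _ _ :=
    MvPolynomial.algHom_ext fun i => by simp [ψ, jn]
  refine ⟨alg, inferInstance, ψ, hψ, (injective_iff_map_eq_zero _).2 fun p hp => ?_⟩
  obtain ⟨a, q, ha, hq⟩ := exists_clear A n p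
  have h1 : algebraMap (MvPolynomial (Fin n) A) (FractionRing (MvPolynomial (Fin n) A)) q = 0 := by
    have := AlgHom.congr_fun hψ q
    rw [AlgHom.comp_apply, hq, AlgHom.restrictScalars_apply, map_mul, hp, zero_mul] at this
    exact this.symm
  rw [IsFractionRing.injective (MvPolynomial (Fin n) A) _ (h1.trans (map_zero _).symm), map_zero] at hq
  rcases mul_eq_zero.1 hq.symm with h | h
  · exact h
  · exfalso
    refine ha (IsFractionRing.injective A (FractionRing A) ?_)
    rw [IsScalarTower.algebraMap_apply A (FractionRing A) (MvPolynomial (Fin n) (FractionRing A)),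
      MvPolynomial.algebraMap_eq] at h
    rw [map_zero]
    exact MvPolynomial.C_injective _ _ (h.trans (map_zero _).symm)

theorem exists_val (n : ℕ) (x : MvPolynomial (Fin n) A ⊗[A] B) :
    ∃ r : MvPolynomial (Fin n) A, jn A n r = En M n x ∧
      algebraMap (MvPolynomial (Fin n) A) (FractionRing (MvPolynomial (Fin n) A)) r =
        PolLaw.detAct M (FractionRing (MvPolynomial (Fin n) A))
          (Algebra.TensorProduct.map (IsScalarTower.toAlgHom A _ _) (AlgHom.id A B) x) := by
  classical
  haveI := Unibr4.isIntegrallyClosed_mvPolynomial A n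
  obtain ⟨alg, hT, ψ, hψ, hψi⟩ := exists_psi (A := A) n
  set K := FractionRing (MvPolynomial (Fin n) A)
  set ι : MvPolynomial (Fin n) A →ₐ[A] K := IsScalarTower.toAlgHom A _ _
  obtain ⟨P, hP, h0⟩ := actEnd_isIntegral (M := M) ι x
  let bK := bas (A := A) M (FractionRing A) K
  have hint : IsIntegral (MvPolynomial (Fin n) A)
      (PolLaw.detAct M K (Algebra.TensorProduct.map ι (AlgHom.id A B) x)) := by
    rw [PolLaw.detAct, ← LinearMap.det_toMatrix bK]
    refine isIntegral_matrix_det _ P hP ?_
    show Polynomial.aeval (LinearMap.toMatrixAlgEquiv bK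
      (PolLaw.actEnd M K (Algebra.TensorProduct.map ι (AlgHom.id A B) x))) P = 0
    rw [← Polynomial.aeval_map_algebraMap K, Polynomial.aeval_algHom_apply]
    rw [show algebraMap (MvPolynomial (Fin n) A) K = ι.toRingHom from rfl, h0, map_zero]
  obtain ⟨r, hr⟩ := IsIntegrallyClosed.isIntegral_iff.1 hint
  refine ⟨r, hψi ?_, hr⟩
  rw [En, det_map (FractionRing A) ψ, map_comp_apply, hψ]
  refine Eq.trans ?_ hr
  exact AlgHom.congr_fun hψ r

theorem En_compat {n m : ℕ} (φ : MvPolynomial (Fin n) A →ₐ[A] MvPolynomial (Fin m) A)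
    (x : MvPolynomial (Fin n) A ⊗[A] B) (r : MvPolynomial (Fin n) A) (hr : jn A n r = En M n x) :
    jn A m (φ r) = En M m (Algebra.TensorProduct.map φ (AlgHom.id A B) x) := by
  let φ' : MvPolynomial (Fin n) (FractionRing A) →ₐ[FractionRing A] MvPolynomial (Fin m) (FractionRing A) :=
    MvPolynomial.aeval fun i => jn A m (φ (MvPolynomial.X i))
  have hφ : (φ'.restrictScalars A).comp (jn A n) = (jn A m).comp φ :=
    MvPolynomial.algHom_ext fun i => by simp [φ', jn]
  have h := congrArg φ' hr
  rw [En, det_map (FractionRing A) φ', map_comp_apply, hφ, ← map_comp_apply] at h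
  exact (AlgHom.congr_fun hφ r).symm.trans h

include hd in
theorem main :
    ∃! N : PolLaw.MulLaw A B A d, ∀ (n : ℕ) (x : MvPolynomial (Fin n) A ⊗[A] B),
      algebraMap (MvPolynomial (Fin n) A) (FractionRing (MvPolynomial (Fin n) A))
          (TensorProduct.rid A (MvPolynomial (Fin n) A) (N.law.toFun' (MvPolynomial (Fin n) A) x)) =
        LinearMap.det (PolLaw.actEnd M (FractionRing (MvPolynomial (Fin n) A))
          (Algebra.TensorProduct.map
            (IsScalarTower.toAlgHom A (MvPolynomial (Fin n) A) (FractionRing (MvPolynomial (Fin n) A)))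
            (AlgHom.id A B) x)) := by
  choose r hr hr' using fun n x => exists_val (A := A) (B := B) (M := M) n x
  obtain ⟨L, hL⟩ := (LawExt.bijective_restrict (A := A) (M := B) (N := A)).2
    ⟨fun n x => r n x ⊗ₜ[A] (1 : A), fun n m φ => funext fun x => by
      simp only [Function.comp_apply, LinearMap.rTensor_tmul, AlgHom.toLinearMap_apply]
      congr 1
      refine jn_injective A m ?_
      rw [En_compat φ x _ (hr n x), hr, PolLaw.rTensor_algHom_apply]⟩
  have hval : ∀ n x, L.toFun' (MvPolynomial (Fin n) A) x = r n x ⊗ₜ[A] (1 : A) := fun n x =>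
    congrFun (congrFun (congrArg Subtype.val hL) n) x
  have hone : ∀ n, r n 1 = 1 := fun n => jn_injective A n (by
    rw [hr, En, map_one, map_one, PolLaw.detAct_one])
  have hmul : ∀ n x y, r n (x * y) = r n x * r n y := fun n x y => jn_injective A n (by
    rw [map_mul, hr, hr, hr, En, En, En, map_mul, PolLaw.detAct_mul])
  have hsmul : ∀ n (s : MvPolynomial (Fin n) A) x, r n (s • x) = s ^ d * r n x := fun n s x => jn_injective A n (by
    rw [map_mul, map_pow, hr, hr, En, En, ← hd, ← det_smul' (FractionRing A)]
    congr 1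
    induction x using TensorProduct.induction_on with
    | zero => simp
    | tmul t b => simp [TensorProduct.smul_tmul', Algebra.TensorProduct.map_tmul]
    | add a b ha hb => simp only [smul_add, map_add, ha, hb])
  have hrs : ∀ {S T : Type u} [CommSemiring S] [Algebra A S] [CommSemiring T] [Algebra A T] {V : Type u}
      [AddCommGroup V] [Module A V] (φ : S →ₐ[A] T) (s : S) (z : S ⊗[A] V),
      φ.toLinearMap.rTensor V (s • z) = φ s • φ.toLinearMap.rTensor V z := fun φ s z => by
    induction z using TensorProduct.induction_on with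
    | zero => simp
    | tmul t b => simp [TensorProduct.smul_tmul']
    | add a b ha hb => simp only [smul_add, map_add, ha, hb]
  have hhom : PolLaw.IsHomog L d := by
    intro S _ _ s x
    obtain ⟨n, φ, y, rfl⟩ := LawExt.exists_lift x
    let e : MvPolynomial (Fin n) A →ₐ[A] MvPolynomial (Fin (n + 1)) A := MvPolynomial.rename Fin.succ
    let Φ : MvPolynomial (Fin (n + 1)) A →ₐ[A] S :=
      MvPolynomial.aeval (Fin.cons s fun i => φ (MvPolynomial.X i))
    have hΦ : Φ.comp e = φ := MvPolynomial.algHom_ext fun i => by simp [Φ, e]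
    have hs : Φ (MvPolynomial.X 0) = s := by simp [Φ]
    rw [← hΦ, LawExt.rTensor_comp', ← hs, ← hrs, ← L.isCompat_apply', ← L.isCompat_apply', ← map_pow, ← hrs,
      hval, hval, hsmul, TensorProduct.smul_tmul', smul_eq_mul]
  have hm : PolLaw.IsMult L := by
    intro S _ _
    refine ⟨?_, fun x y => ?_⟩
    · let Φ : MvPolynomial (Fin 0) A →ₐ[A] S := MvPolynomial.aeval fun i => i.elim0
      have := L.isCompat_apply' Φ 1
      rw [hval, hone, PolLaw.rTensor_algHom_apply, PolLaw.rTensor_algHom_apply, map_one] at this
      rw [← this]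
      simp [Algebra.TensorProduct.one_def]
    · obtain ⟨n, φ, x, rfl⟩ := LawExt.exists_lift x
      obtain ⟨m, ψ, y, rfl⟩ := LawExt.exists_lift y
      let Φ : MvPolynomial (Fin (n + m)) A →ₐ[A] S :=
        MvPolynomial.aeval (Fin.addCases (fun i => φ (MvPolynomial.X i)) fun i => ψ (MvPolynomial.X i))
      have h1 : Φ.comp (MvPolynomial.rename (Fin.castAdd m)) = φ :=
        MvPolynomial.algHom_ext fun i => by simp [Φ]
      have h2 : Φ.comp (MvPolynomial.rename (Fin.natAdd n)) = ψ :=
        MvPolynomial.algHom_ext fun i => by simp [Φ]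
      rw [← h1, ← h2, LawExt.rTensor_comp', LawExt.rTensor_comp']
      generalize (MvPolynomial.rename (Fin.castAdd m)).toLinearMap.rTensor B x = x'
      generalize (MvPolynomial.rename (Fin.natAdd n)).toLinearMap.rTensor B y = y'
      have e : Φ.toLinearMap.rTensor B x' * Φ.toLinearMap.rTensor B y' = Φ.toLinearMap.rTensor B (x' * y') := by
        simp only [PolLaw.rTensor_algHom_apply, map_mul]
      rw [e, ← L.isCompat_apply', ← L.isCompat_apply', ← L.isCompat_apply', hval, hval, hval, hmul]
      simp [Algebra.TensorProduct.tmul_mul_tmul]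
  refine ⟨⟨L, hhom, hm⟩, fun n x => ?_, fun N hN => PolLaw.MulLaw.ext ?_⟩
  · show algebraMap _ _ (TensorProduct.rid A _ (L.toFun' _ x)) = _
    rw [hval, TensorProduct.rid_tmul, one_smul, hr']
    rfl
  · refine (LawExt.bijective_restrict (A := A) (M := B) (N := A)).1 (Subtype.ext (funext fun n => funext fun x => ?_))
    show N.law.toFun' _ x = L.toFun' _ x
    refine (TensorProduct.rid A _).injective (IsFractionRing.injective (MvPolynomial (Fin n) A) (FractionRing (MvPolynomial (Fin n) A)) ?_)
    rw [hN, hval, TensorProduct.rid_tmul, one_smul, hr']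
    rfl

end normal

end Groth.Agent.GammaD.DetNormal
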