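import Groth.Agent.Lib.GammaD.Kernel
import Mathlib.RingTheory.Spectrum.Prime.Topology
import Mathlib.Algebra.Polynomial.Bivariate

/-! # A family of zero-cycles on a disjoint union -/

universe u

open scoped TensorProduct
open Polynomial

namespace Groth.Agent.GammaD.Split

variable {A : Type u} [CommRing A] {B : Type u} [CommRing B] [Algebra A B] {d : ℕ} {F : PolLaw.MulLaw A B A d}

theorem law_eq (S : Type u) [CommSemiring S] [Algebra A S] (x : S ⊗[A] B) :
    F.law.toFun' S x = nv F S x ⊗ₜ[A] (1 : A) := by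
  rw [nv]
  generalize F.law.toFun' S x = z
  refine (Algebra.TensorProduct.rid A S S).injective ?_
  simp

/-- A scalar law from its values. -/
noncomputable def mkLaw {e : ℕ} (f : ∀ (S : Type u) [CommSemiring S] [Algebra A S], S ⊗[A] B → S)
    (hc : ∀ {S S' : Type u} [CommSemiring S] [Algebra A S] [CommSemiring S'] [Algebra A S'] (φ : S →ₐ[A] S')
      (x : S ⊗[A] B), φ (f S x) = f S' (φ.toLinearMap.rTensor B x))
    (h1 : ∀ (S : Type u) [CommSemiring S] [Algebra A S], f S 1 = 1)
    (hm : ∀ (S : Type u) [CommSemiring S] [Algebra A S] (x y : S ⊗[A] B), f S (x * y) = f S x * f S y)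
    (hs : ∀ (S : Type u) [CommSemiring S] [Algebra A S] (s : S) (x : S ⊗[A] B), f S (s • x) = s ^ e * f S x) :
    PolLaw.MulLaw A B A e where
  law :=
  { toFun' := fun S _ _ x => f S x ⊗ₜ[A] (1 : A)
    isCompat' := fun φ => funext fun x => by
      simp only [Function.comp_apply, LinearMap.rTensor_tmul, AlgHom.toLinearMap_apply, hc] }
  homog S _ _ s x := by
    show f S (s • x) ⊗ₜ[A] (1 : A) = s ^ e • (f S x ⊗ₜ[A] (1 : A))
    rw [hs, TensorProduct.smul_tmul', smul_eq_mul]
  mult S _ _ := by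
    refine ⟨?_, fun x y => ?_⟩
    · show f S 1 ⊗ₜ[A] (1 : A) = 1
      rw [h1]; rfl
    · show f S (x * y) ⊗ₜ[A] (1 : A) = (f S x ⊗ₜ[A] (1 : A)) * (f S y ⊗ₜ[A] (1 : A))
      rw [hm, Algebra.TensorProduct.tmul_mul_tmul, mul_one]

theorem idem_connected [ConnectedSpace (PrimeSpectrum A)] {e : A} (he : IsIdempotentElem e) : e = 0 ∨ e = 1 := by
  have hc : IsClopen (PrimeSpectrum.basicOpen e : Set (PrimeSpectrum A)) :=
    PrimeSpectrum.isClopen_iff.2 ⟨e, he, rfl⟩
  rcases isClopen_iff.1 hc with h | h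
  · left
    have h0 : PrimeSpectrum.basicOpen e = ⊥ := SetLike.coe_injective (by simpa using h)
    obtain ⟨n, hn⟩ := (PrimeSpectrum.basicOpen_eq_bot_iff e).1 h0
    rw [← IsIdempotentElem.pow_succ_eq n he, pow_succ, hn, zero_mul]
  · right
    have hu : IsUnit e := by
      by_contra hne
      obtain ⟨m, hm, hem⟩ := exists_max_ideal_of_mem_nonunits hne
      have : (⟨m, hm.isPrime⟩ : PrimeSpectrum A) ∈ (PrimeSpectrum.basicOpen e : Set (PrimeSpectrum A)) := by
        rw [h]; trivial
      exact this hem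
    exact hu.mul_left_cancel (he.trans (mul_one e).symm)

theorem eq_X_pow [ConnectedSpace (PrimeSpectrum A)] (P : Polynomial A) (h1 : P.eval 1 = 1)
    (hmul : aeval (C X * X : Polynomial (Polynomial A)) P = C P * aeval (X : Polynomial (Polynomial A)) P) :
    ∃ k, P = X ^ k := by
  classical
  have hexp : ∀ a : Polynomial (Polynomial A), aeval a P = ∑ i ∈ P.support, C (C (P.coeff i)) * a ^ i := by
    intro a
    rw [aeval_def, eval₂_eq_sum, Polynomial.sum]
    rfl
  have hj : ∀ j, C (P.coeff j) * X ^ j = P * C (P.coeff j) := by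
    intro j
    have h := congrArg (fun q => q.coeff j) hmul
    simp only [hexp, finsetSum_coeff, Finset.mul_sum, mul_pow, ← map_pow, ← mul_assoc, ← map_mul,
      coeff_C_mul_X_pow] at h
    rw [Finset.sum_ite_eq, Finset.sum_ite_eq] at h
    by_cases hjs : j ∈ P.support
    · simpa [hjs] using h
    · simp [notMem_support_iff.1 hjs]
  have hidem : ∀ j, IsIdempotentElem (P.coeff j) := fun j => by
    have := congrArg (fun q => q.coeff j) (hj j)
    simp only [coeff_C_mul, coeff_X_pow_self, mul_one, coeff_mul_C] at this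
    exact this.symm
  have hex : ∃ j, P.coeff j = 1 := by
    by_contra hne
    push Not at hne
    have h0 : P = 0 := Polynomial.ext fun j => by
      rcases idem_connected (hidem j) with h | h
      · simpa using h
      · exact absurd h (hne j)
    rw [h0, eval_zero] at h1
    exact hne 0 (eq_of_zero_eq_one h1 _ _)
  obtain ⟨k, hk⟩ := hex
  refine ⟨k, ?_⟩
  have := hj k
  rw [hk, map_one, one_mul, mul_one] at this
  exact this.symm

end Groth.Agent.GammaD.Split

namespace Groth.Agent.GammaD.Split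

open Polynomial

variable {A : Type u} [CommRing A] {B₁ : Type u} [CommRing B₁] [Algebra A B₁]
  {B₂ : Type u} [CommRing B₂] [Algebra A B₂] {d : ℕ} (F : PolLaw.MulLaw A (B₁ × B₂) A d)

/-- The embedding of the first factor. -/
noncomputable abbrev j₁ (S : Type u) [CommSemiring S] [Algebra A S] (x : S ⊗[A] B₁) : S ⊗[A] (B₁ × B₂) :=
  (LinearMap.inl A B₁ B₂).lTensor S x

noncomputable abbrev j₂ (S : Type u) [CommSemiring S] [Algebra A S] (x : S ⊗[A] B₂) : S ⊗[A] (B₁ × B₂) :=
  (LinearMap.inr A B₁ B₂).lTensor S x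

theorem mul_j₁ {S : Type u} [CommSemiring S] [Algebra A S] (x y : S ⊗[A] B₁) :
    j₁ (B₂ := B₂) S (x * y) = j₁ S x * j₁ S y := by
  induction x using TensorProduct.induction_on with
  | zero => simp [j₁]
  | add a b ha hb => simp only [j₁, add_mul, map_add] at *; rw [ha, hb]
  | tmul s b =>
    induction y using TensorProduct.induction_on with
    | zero => simp [j₁]
    | add a c ha hc => simp only [j₁, mul_add, map_add] at *; rw [ha, hc]
    | tmul t c => simp [j₁]

theorem mul_j₂ {S : Type u} [CommSemiring S] [Algebra A S] (x y : S ⊗[A] B₂) :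
    j₂ (B₁ := B₁) S (x * y) = j₂ S x * j₂ S y := by
  induction x using TensorProduct.induction_on with
  | zero => simp [j₂]
  | add a b ha hb => simp only [j₂, add_mul, map_add] at *; rw [ha, hb]
  | tmul s b =>
    induction y using TensorProduct.induction_on with
    | zero => simp [j₂]
    | add a c ha hc => simp only [j₂, mul_add, map_add] at *; rw [ha, hc]
    | tmul t c => simp [j₂]

theorem j₁_mul_j₂ {S : Type u} [CommSemiring S] [Algebra A S] (x : S ⊗[A] B₁) (y : S ⊗[A] B₂) :
    j₁ S x * j₂ S y = 0 := by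
  induction x using TensorProduct.induction_on with
  | zero => simp [j₁]
  | add a b ha hb => simp only [j₁, add_mul, map_add] at *; rw [ha, hb, add_zero]
  | tmul s b =>
    induction y using TensorProduct.induction_on with
    | zero => simp [j₂]
    | add a c ha hc => simp only [j₂, mul_add, map_add] at *; rw [ha, hc, add_zero]
    | tmul t c => simp [j₁, j₂, Prod.mk_zero_zero]

theorem j_one {S : Type u} [CommSemiring S] [Algebra A S] :
    j₁ (B₂ := B₂) S (1 : S ⊗[A] B₁) + j₂ S 1 = 1 := by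
  simp [j₁, j₂, Algebra.TensorProduct.one_def, ← TensorProduct.tmul_add, Prod.mk_one_one]

theorem j_split {S : Type u} [CommSemiring S] [Algebra A S] (a : S ⊗[A] B₁) (b : S ⊗[A] B₂) :
    j₁ S a + j₂ S b = (j₁ S a + j₂ S 1) * (j₁ S 1 + j₂ S b) := by
  rw [add_mul, mul_add, mul_add, ← mul_j₁, j₁_mul_j₂, mul_comm (j₂ S 1) (j₁ S 1), j₁_mul_j₂, ← mul_j₂,
    mul_one, one_mul, add_zero, zero_add]

theorem fst_snd {S : Type u} [CommSemiring S] [Algebra A S] (x : S ⊗[A] (B₁ × B₂)) :
    x = j₁ S ((LinearMap.fst A B₁ B₂).lTensor S x) + j₂ S ((LinearMap.snd A B₁ B₂).lTensor S x) := by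
  induction x using TensorProduct.induction_on with
  | zero => simp [j₁, j₂]
  | tmul s b => simp [j₁, j₂, ← TensorProduct.tmul_add]
  | add a b ha hb =>
    simp only [j₁, j₂, map_add] at ha hb ⊢
    conv_lhs => rw [ha, hb]
    abel

theorem j₁_smul {S : Type u} [CommSemiring S] [Algebra A S] (s : S) (x : S ⊗[A] B₁) :
    j₁ (B₂ := B₂) S (s • x) = s • j₁ S x := by
  induction x using TensorProduct.induction_on with
  | zero => simp [j₁]
  | tmul t b => simp [j₁, TensorProduct.smul_tmul']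
  | add a b ha hb => simp only [j₁, smul_add, map_add] at *; rw [ha, hb]

theorem j₂_smul {S : Type u} [CommSemiring S] [Algebra A S] (s : S) (x : S ⊗[A] B₂) :
    j₂ (B₁ := B₁) S (s • x) = s • j₂ S x := by
  induction x using TensorProduct.induction_on with
  | zero => simp [j₂]
  | tmul t b => simp [j₂, TensorProduct.smul_tmul']
  | add a b ha hb => simp only [j₂, smul_add, map_add] at *; rw [ha, hb]

theorem map_j₁ {S S' : Type u} [CommSemiring S] [Algebra A S] [CommSemiring S'] [Algebra A S']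
    (φ : S →ₐ[A] S') (x : S ⊗[A] B₁) :
    Algebra.TensorProduct.map φ (AlgHom.id A (B₁ × B₂)) (j₁ S x) = j₁ S' (φ.toLinearMap.rTensor B₁ x) := by
  induction x using TensorProduct.induction_on with
  | zero => simp [j₁]
  | tmul t b => simp [j₁]
  | add a b ha hb => simp only [j₁, map_add] at *; rw [ha, hb]

theorem map_j₂ {S S' : Type u} [CommSemiring S] [Algebra A S] [CommSemiring S'] [Algebra A S']
    (φ : S →ₐ[A] S') (x : S ⊗[A] B₂) :
    Algebra.TensorProduct.map φ (AlgHom.id A (B₁ × B₂)) (j₂ S x) = j₂ S' (φ.toLinearMap.rTensor B₂ x) := by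
  induction x using TensorProduct.induction_on with
  | zero => simp [j₂]
  | tmul t b => simp [j₂]
  | add a b ha hb => simp only [j₂, map_add] at *; rw [ha, hb]

theorem rTensor_one {B : Type u} [CommRing B] [Algebra A B] {S S' : Type u} [CommSemiring S] [Algebra A S]
    [CommSemiring S'] [Algebra A S'] (φ : S →ₐ[A] S') :
    φ.toLinearMap.rTensor B (1 : S ⊗[A] B) = 1 := by
  simp [Algebra.TensorProduct.one_def]

theorem rTensor_smul_one {B : Type u} [CommRing B] [Algebra A B] {S S' : Type u} [CommSemiring S] [Algebra A S]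
    [CommSemiring S'] [Algebra A S'] (φ : S →ₐ[A] S') (s : S) :
    φ.toLinearMap.rTensor B (s • (1 : S ⊗[A] B)) = φ s • 1 := by
  simp [Algebra.TensorProduct.one_def, TensorProduct.smul_tmul']

theorem exists_degree [ConnectedSpace (PrimeSpectrum A)] :
    ∃ k₁ k₂ : ℕ, k₁ + k₂ = d ∧
      (∀ (S : Type u) [CommSemiring S] [Algebra A S] (s : S),
        nv F S (j₁ S (s • 1) + j₂ S 1) = s ^ k₁) ∧
      (∀ (S : Type u) [CommSemiring S] [Algebra A S] (s : S),
        nv F S (j₁ S 1 + j₂ S (s • 1)) = s ^ k₂) := by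
  haveI : Nontrivial A := PrimeSpectrum.nonempty_iff_nontrivial.1 inferInstance
  set P₁ := nv F (Polynomial A) (j₁ _ ((X : Polynomial A) • 1) + j₂ _ 1) with hP₁
  set P₂ := nv F (Polynomial A) (j₁ _ 1 + j₂ _ ((X : Polynomial A) • 1)) with hP₂
  have e₁ : ∀ (S : Type u) [CommSemiring S] [Algebra A S] (s : S),
      nv F S (j₁ S (s • 1) + j₂ S 1) = aeval s P₁ := fun S _ _ s => by
    rw [hP₁, nv_compat, map_add, map_j₁, map_j₂, rTensor_smul_one, rTensor_one, aeval_X]
  have e₂ : ∀ (S : Type u) [CommSemiring S] [Algebra A S] (s : S),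
      nv F S (j₁ S 1 + j₂ S (s • 1)) = aeval s P₂ := fun S _ _ s => by
    rw [hP₂, nv_compat, map_add, map_j₁, map_j₂, rTensor_smul_one, rTensor_one, aeval_X]
  have hC : ∀ (P : Polynomial A), aeval (C X : Polynomial (Polynomial A)) P = C P := fun P => by
    induction P using Polynomial.induction_on with
    | C a => simp
    | add p q hp hq => rw [map_add, map_add, hp, hq]
    | monomial n a _ => simp
  obtain ⟨k₁, hk₁⟩ := eq_X_pow P₁ (by
      rw [← coe_aeval_eq_eval, ← e₁ A 1, one_smul, j_one, nv_one]) (by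
      rw [← hC P₁, ← e₁, ← e₁, ← e₁, ← nv_mul]
      congr 1
      rw [add_mul, mul_add, mul_add, ← mul_j₁, j₁_mul_j₂, mul_comm (j₂ _ 1), j₁_mul_j₂, ← mul_j₂, one_mul,
        add_zero, zero_add, smul_one_mul, smul_smul])
  obtain ⟨k₂, hk₂⟩ := eq_X_pow P₂ (by
      rw [← coe_aeval_eq_eval, ← e₂ A 1, one_smul, j_one, nv_one]) (by
      rw [← hC P₂, ← e₂, ← e₂, ← e₂, ← nv_mul]
      congr 1
      rw [add_mul, mul_add, mul_add, ← mul_j₁, j₁_mul_j₂, mul_comm (j₂ _ _) (j₁ _ _), j₁_mul_j₂, ← mul_j₂,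
        one_mul, add_zero, zero_add, smul_one_mul, smul_smul])
  refine ⟨k₁, k₂, ?_, fun S _ _ s => by rw [e₁, hk₁, map_pow, aeval_X],
    fun S _ _ s => by rw [e₂, hk₂, map_pow, aeval_X]⟩
  have h := nv_smul (F := F) (X : Polynomial A) (1 : Polynomial A ⊗[A] (B₁ × B₂))
  rw [nv_one, mul_one, ← j_one, smul_add, ← j₁_smul, ← j₂_smul, j_split, nv_mul, ← hP₁, ← hP₂, hk₁, hk₂,
    ← pow_add] at h
  have := congrArg natDegree h
  simpa using this

theorem main [ConnectedSpace (PrimeSpectrum A)] :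
    ∃ d₁ d₂ : ℕ, d₁ + d₂ = d ∧
      (∃ (F₁ : PolLaw.MulLaw A B₁ A d₁) (F₂ : PolLaw.MulLaw A B₂ A d₂),
        ∀ (S : Type u) [CommSemiring S] [Algebra A S] (x : S ⊗[A] (B₁ × B₂)),
          F.law.toFun' S x = F₁.law.toFun' S (LinearMap.lTensor S (LinearMap.fst A B₁ B₂) x) *
            F₂.law.toFun' S (LinearMap.lTensor S (LinearMap.snd A B₁ B₂) x)) ∧
      ∀ (e₁ e₂ : ℕ) (G₁ : PolLaw.MulLaw A B₁ A e₁) (G₂ : PolLaw.MulLaw A B₂ A e₂),
        (∀ (S : Type u) [CommSemiring S] [Algebra A S] (x : S ⊗[A] (B₁ × B₂)),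
          F.law.toFun' S x = G₁.law.toFun' S (LinearMap.lTensor S (LinearMap.fst A B₁ B₂) x) *
            G₂.law.toFun' S (LinearMap.lTensor S (LinearMap.snd A B₁ B₂) x)) → e₁ = d₁ ∧ e₂ = d₂ := by
  haveI : Nontrivial A := PrimeSpectrum.nonempty_iff_nontrivial.1 inferInstance
  obtain ⟨k₁, k₂, hsum, hk₁, hk₂⟩ := exists_degree F
  refine ⟨k₁, k₂, hsum, ⟨mkLaw (fun S _ _ x => nv F S (j₁ S x + j₂ S 1))
      (fun φ x => by rw [nv_compat, map_add, map_j₁, map_j₂, rTensor_one])
      (fun S _ _ => by rw [j_one, nv_one])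
      (fun S _ _ x y => by
        rw [← nv_mul]
        congr 1
        rw [add_mul, mul_add, mul_add, ← mul_j₁, j₁_mul_j₂, mul_comm (j₂ (B₁ := B₁) S 1) (j₁ (B₂ := B₂) S y), j₁_mul_j₂, ← mul_j₂,
          one_mul, add_zero, zero_add])
      (fun S _ _ s x => by
        rw [← hk₁ S s, ← nv_mul]
        congr 1
        rw [add_mul, mul_add, mul_add, ← mul_j₁, j₁_mul_j₂, mul_comm (j₂ (B₁ := B₁) S 1) (j₁ (B₂ := B₂) S x), j₁_mul_j₂, ← mul_j₂,
          one_mul, add_zero, zero_add, smul_one_mul]),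
    mkLaw (fun S _ _ x => nv F S (j₁ S 1 + j₂ S x))
      (fun φ x => by rw [nv_compat, map_add, map_j₁, map_j₂, rTensor_one])
      (fun S _ _ => by rw [j_one, nv_one])
      (fun S _ _ x y => by
        rw [← nv_mul]
        congr 1
        rw [add_mul, mul_add, mul_add, ← mul_j₁, j₁_mul_j₂, mul_comm (j₂ S x) (j₁ S 1), j₁_mul_j₂, ← mul_j₂,
          one_mul, add_zero, zero_add])
      (fun S _ _ s x => by
        rw [← hk₂ S s, ← nv_mul]
        congr 1
        rw [add_mul, mul_add, mul_add, ← mul_j₁, j₁_mul_j₂, mul_comm (j₂ S (s • 1)) (j₁ S 1), j₁_mul_j₂,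
          ← mul_j₂, one_mul, add_zero, zero_add, smul_one_mul]),
    fun S _ _ x => ?_⟩, fun e₁ e₂ G₁ G₂ hG => ?_⟩
  · conv_lhs => rw [fst_snd x, j_split, law_eq, nv_mul]
    show _ = (_ ⊗ₜ[A] (1 : A)) * (_ ⊗ₜ[A] (1 : A))
    rw [Algebra.TensorProduct.tmul_mul_tmul, mul_one]
  · have hval : ∀ (S : Type u) [CommSemiring S] [Algebra A S] (a : S ⊗[A] B₁) (b : S ⊗[A] B₂),
        nv F S (j₁ S a + j₂ S b) = nv G₁ S a * nv G₂ S b := fun S _ _ a b => by
      have h := hG S (j₁ S a + j₂ S b)
      have hf : (LinearMap.fst A B₁ B₂).lTensor S (j₁ S a + j₂ S b) = a := by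
        rw [map_add, j₁, j₂, ← LinearMap.comp_apply, ← LinearMap.lTensor_comp, ← LinearMap.comp_apply,
          ← LinearMap.lTensor_comp, LinearMap.fst_comp_inl, LinearMap.lTensor_id, LinearMap.fst_comp_inr,
          LinearMap.lTensor_zero]
        simp
      have hs : (LinearMap.snd A B₁ B₂).lTensor S (j₁ S a + j₂ S b) = b := by
        rw [map_add, j₁, j₂, ← LinearMap.comp_apply, ← LinearMap.lTensor_comp, ← LinearMap.comp_apply,
          ← LinearMap.lTensor_comp, LinearMap.snd_comp_inl, LinearMap.lTensor_zero, LinearMap.snd_comp_inr,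
          LinearMap.lTensor_id]
        simp
      rw [hf, hs, law_eq, law_eq, law_eq, Algebra.TensorProduct.tmul_mul_tmul, mul_one] at h
      simpa using congrArg (Algebra.TensorProduct.rid A S S) h
    constructor
    · have h := hk₁ (Polynomial A) X
      rw [hval, nv_smul, nv_one, nv_one, mul_one, mul_one] at h
      simpa using congrArg natDegree h
    · have h := hk₂ (Polynomial A) X
      rw [hval, nv_smul, nv_one, nv_one, one_mul, mul_one] at h
      simpa using congrArg natDegree h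

end Groth.Agent.GammaD.Split
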