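import Groth.Prelude.Def_PolLaw2
import Groth.Agent.Lib.GammaD.Split26
import Mathlib.RingTheory.Spectrum.Prime.FreeLocus
import Mathlib.RingTheory.LocalRing.Module
import Mathlib.LinearAlgebra.TensorProduct.Prod
import Mathlib.Algebra.Module.Projective
import Mathlib.RingTheory.Finiteness.Prod

/-! # The determinant law of a projective module -/

universe u

open scoped TensorProduct

namespace Groth.Agent.GammaD.DetProj

variable {A : Type u} [CommRing A]

theorem eq_of_local {R : Type u} [CommRing R] [Algebra A R] {a b : R}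
    (h : ∀ (S : Type u) [CommRing S] [IsLocalRing S] [Algebra A S] (φ : R →ₐ[A] S), φ a = φ b) : a = b := by
  let I : Ideal R :=
    { carrier := {c | c * a = c * b}
      add_mem' := fun {c c'} hc hc' => by simp only [Set.mem_setOf_eq, add_mul] at *; rw [hc, hc']
      zero_mem' := by simp
      smul_mem' := fun r c hc => by simp only [Set.mem_setOf_eq, smul_eq_mul, mul_assoc] at *; rw [hc] }
  have : I = ⊤ := by
    by_contra hI
    obtain ⟨m, hm, hIm⟩ := Ideal.exists_le_maximal I hI
    have := h (Localization.AtPrime m) (IsScalarTower.toAlgHom A R (Localization.AtPrime m))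
    obtain ⟨c, hc⟩ := (IsLocalization.eq_iff_exists m.primeCompl (Localization.AtPrime m)).1 this
    exact c.2 (hIm hc)
  have h1 : (1 : R) ∈ I := this ▸ trivial
  simpa [I] using h1

theorem law_ext {B : Type u} [CommRing B] [Algebra A B] (F G : B →ₚₗ[A] A)
    (h : ∀ (S : Type u) [CommRing S] [IsLocalRing S] [Algebra A S] (x : S ⊗[A] B), F.toFun' S x = G.toFun' S x) :
    F = G := by
  have hring : ∀ (R : Type u) [CommRing R] [Algebra A R] (x : R ⊗[A] B), F.toFun' R x = G.toFun' R x := by
    intro R _ _ x
    refine (Algebra.TensorProduct.rid A R R).injective (eq_of_local (A := A) fun S _ _ _ φ => ?_)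
    have hnat : ∀ z : R ⊗[A] A, φ (Algebra.TensorProduct.rid A R R z) =
        Algebra.TensorProduct.rid A S S (φ.toLinearMap.rTensor A z) := fun z => by
      induction z using TensorProduct.induction_on with
      | zero => simp
      | tmul s a => simp
      | add a b ha hb => simp only [map_add, ha, hb]
    rw [hnat, hnat, F.isCompat_apply', G.isCompat_apply', h]
  refine PolynomialLaw.ext (funext fun S => funext fun _ => funext fun _ => funext fun x => ?_)
  let e : A ⊗[A] S →ₐ[A] S := (Algebra.TensorProduct.lid A S).toAlgHom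
  have hx : e.toLinearMap.rTensor B (PolLaw.toRing A B S x) = x := by
    induction x using TensorProduct.induction_on with
    | zero => simp
    | tmul s b => simp [e]
    | add a b ha hb => simp only [map_add, ha, hb]
  rw [← hx, ← F.isCompat_apply', ← G.isCompat_apply', hring]

variable {B : Type u} [CommRing B] [Algebra A B] {M : Type u} [AddCommGroup M] [Module A M] [Module B M]
  [IsScalarTower A B M] {Q : Type u} [AddCommGroup Q] [Module A Q]

/-- `B × A` acting componentwise. -/
@[reducible] def prodModule : Module (B × A) (M × Q) where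
  smul c z := (c.1 • z.1, c.2 • z.2)
  one_smul z := Prod.ext (one_smul _ _) (one_smul _ _)
  mul_smul c c' z := Prod.ext (mul_smul _ _ _) (mul_smul _ _ _)
  smul_zero c := Prod.ext (smul_zero _) (smul_zero _)
  smul_add c z z' := Prod.ext (smul_add _ _ _) (smul_add _ _ _)
  add_smul c c' z := Prod.ext (add_smul _ _ _) (add_smul _ _ _)
  zero_smul z := Prod.ext (zero_smul _ _) (zero_smul _ _)

attribute [local instance] prodModule

theorem prodTower : IsScalarTower A (B × A) (M × Q) :=
  ⟨fun a c z => Prod.ext (smul_assoc a c.1 z.1) (smul_assoc a c.2 z.2)⟩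

attribute [local instance] prodTower

open Split in
theorem actEnd_prod (S : Type u) [CommRing S] [Algebra A S] (x : S ⊗[A] B) :
    PolLaw.actEnd (M × Q) S (j₁ (B₂ := A) S x + j₂ S 1) =
      (TensorProduct.prodRight A S S M Q).symm.toLinearMap ∘ₗ
        (LinearMap.prodMap (PolLaw.actEnd M S x) LinearMap.id) ∘ₗ
          (TensorProduct.prodRight A S S M Q).toLinearMap := by
  refine LinearMap.ext fun z => ?_
  simp only [LinearMap.comp_apply, LinearEquiv.coe_coe]
  rw [LinearEquiv.eq_symm_apply]
  induction x using TensorProduct.induction_on with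
  | zero =>
    induction z using TensorProduct.induction_on with
    | zero => simp [Prod.mk_zero_zero]
    | add a b ha hb => simp only [map_add] at ha hb ⊢; rw [ha, hb]
    | tmul t mq =>
      simp [j₁, j₂, Algebra.TensorProduct.one_def, TensorProduct.prodRight_tmul]
      exact ⟨by rw [show (((0 : B), (1 : A)) • mq).1 = 0 from zero_smul B mq.1, TensorProduct.tmul_zero],
        by rw [show (((0 : B), (1 : A)) • mq).2 = mq.2 from one_smul A mq.2]⟩
  | tmul s b =>
    induction z using TensorProduct.induction_on with
    | zero => simp [Prod.mk_zero_zero]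
    | add a b ha hb => simp only [map_add] at ha hb ⊢; rw [ha, hb]
    | tmul t mq =>
      simp [j₁, j₂, Algebra.TensorProduct.one_def, TensorProduct.prodRight_tmul]
      refine ⟨?_, ?_⟩
      · rw [show ((b, (0 : A)) • mq).1 = b • mq.1 from rfl,
          show (((0 : B), (1 : A)) • mq).1 = 0 from zero_smul B mq.1, TensorProduct.tmul_zero, add_zero]
      · rw [show ((b, (0 : A)) • mq).2 = 0 from zero_smul A mq.2,
          show (((0 : B), (1 : A)) • mq).2 = mq.2 from one_smul A mq.2, TensorProduct.tmul_zero, zero_add]
  | add a b ha hb =>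
    have e : j₁ (B₂ := A) S (a + b) + j₂ S 1 =
        (j₁ S a + j₂ S 1) + (j₁ S b + j₂ S 1) - (j₁ S 0 + j₂ S 1) := by
      simp only [j₁, map_add, map_zero]
      abel
    have h0 : TensorProduct.prodRight A S S M Q (PolLaw.actEnd (M × Q) S (j₁ (B₂ := A) S (0 : S ⊗[A] B) + j₂ S (1 : S ⊗[A] A)) z) =
        (0, (TensorProduct.prodRight A S S M Q z).2) := by
      clear ha hb e
      induction z using TensorProduct.induction_on with
      | zero => simp [Prod.mk_zero_zero]
      | add u v hu hv =>
        simp only [map_add] at hu hv ⊢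
        rw [hu, hv, Prod.mk_add_mk, add_zero]
        rfl
      | tmul t mq =>
        simp [j₁, j₂, Algebra.TensorProduct.one_def, TensorProduct.prodRight_tmul]
        exact ⟨by rw [show (((0 : B), (1 : A)) • mq).1 = 0 from zero_smul B mq.1, TensorProduct.tmul_zero],
          by rw [show (((0 : B), (1 : A)) • mq).2 = mq.2 from one_smul A mq.2]⟩
    rw [e, map_sub, map_add, LinearMap.sub_apply, LinearMap.add_apply, map_sub, map_add, ha, hb, h0]
    simp [LinearMap.prodMap_apply, Prod.ext_iff]

variable [Module.Finite A M] [Module.Projective A M]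

theorem exists_complement : ∃ (Q : Type u) (_ : AddCommGroup Q) (_ : Module A Q),
    Module.Finite A Q ∧ Module.Projective A Q ∧ Module.Free A (M × Q) := by
  obtain ⟨n, f, hf⟩ := Module.Finite.exists_fin' A M
  obtain ⟨s, hs⟩ := Module.projective_lifting_property f LinearMap.id hf
  have hfs : ∀ m, f (s m) = m := fun m => LinearMap.congr_fun hs m
  let e : (Fin n → A) ≃ₗ[A] M × LinearMap.ker f :=
    { toFun := fun v => (f v, ⟨v - s (f v), by simp [hfs]⟩)
      invFun := fun z => s z.1 + z.2
      map_add' := fun u v => Prod.ext (map_add f u v) (Subtype.ext (by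
        show u + v - s (f (u + v)) = u - s (f u) + (v - s (f v))
        rw [map_add, map_add]; abel))
      map_smul' := fun c u => Prod.ext (map_smul f c u) (Subtype.ext (by
        show c • u - s (f (c • u)) = c • (u - s (f u))
        rw [map_smul, map_smul, smul_sub]))
      left_inv := fun v => by simp
      right_inv := fun z => by
        have hz : f (z.2 : Fin n → A) = 0 := z.2.2
        refine Prod.ext (by simp [hfs, hz]) (Subtype.ext (by simp [hfs, hz])) }
  have hproj : Module.Finite A (LinearMap.ker f) :=
    Module.Finite.of_surjective ((LinearMap.snd A M _) ∘ₗ e.toLinearMap)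
      (Prod.snd_surjective.comp e.surjective)
  refine ⟨LinearMap.ker f, inferInstance, inferInstance, hproj, ?_, Module.Free.of_equiv e⟩
  haveI := Module.Projective.of_equiv e
  exact Module.Projective.of_split (P := LinearMap.ker f) (LinearMap.inr A M _) (LinearMap.snd A M _)
    (LinearMap.ext fun _ => rfl)

theorem exists_law : ∃ N : B →ₚₗ[A] A, PolLaw.IsMult N ∧
    ∀ (S : Type u) [CommRing S] [IsLocalRing S] [Algebra A S] (x : S ⊗[A] B),
      N.toFun' S x = PolLaw.detAct M S x ⊗ₜ[A] (1 : A) := by
  obtain ⟨Q, _, _, _, _, _⟩ := exists_complement (A := A) (M := M)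
  refine ⟨{ toFun' := fun S _ _ x => PolLaw.detFun A (B × A) (M × Q) S (Split.j₁ S x + Split.j₂ S 1)
            isCompat' := fun φ => funext fun x => by
              simp only [Function.comp_apply]
              rw [PolLaw.detFun_compat, map_add, PolLaw.rTensor_algHom_apply, PolLaw.rTensor_algHom_apply,
                Split.map_j₁, Split.map_j₂, Split.rTensor_one] }, fun S _ _ => ⟨?_, fun x y => ?_⟩,
    fun S _ _ _ x => ?_⟩
  · show PolLaw.detFun A (B × A) (M × Q) S _ = 1
    rw [Split.j_one, PolLaw.detFun_one]
  · show PolLaw.detFun A (B × A) (M × Q) S _ =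
      PolLaw.detFun A (B × A) (M × Q) S _ * PolLaw.detFun A (B × A) (M × Q) S _
    rw [← PolLaw.detFun_mul]
    congr 1
    rw [add_mul, mul_add, mul_add, ← Split.mul_j₁, Split.j₁_mul_j₂,
      mul_comm (Split.j₂ (B₁ := B) S 1) (Split.j₁ (B₂ := A) S y), Split.j₁_mul_j₂, ← Split.mul_j₂, one_mul,
      add_zero, zero_add]
  · show PolLaw.detFun A (B × A) (M × Q) S _ = _
    rw [PolLaw.detFun_eq_detAct]
    congr 1
    haveI : Module.Free S (S ⊗[A] M) := Module.free_of_flat_of_isLocalRing
    haveI : Module.Free S (S ⊗[A] Q) := Module.free_of_flat_of_isLocalRing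
    have h := LinearMap.det_conj (LinearMap.prodMap (PolLaw.actEnd M S x) (LinearMap.id : S ⊗[A] Q →ₗ[S] S ⊗[A] Q))
      (TensorProduct.prodRight A S S M Q).symm
    rw [LinearEquiv.symm_symm, ← actEnd_prod] at h
    rw [PolLaw.detAct, h, LinearMap.det_prodMap, LinearMap.det_id, mul_one]
    rfl

theorem existsUnique_law :
    ∃! N : B →ₚₗ[A] A, PolLaw.IsMult N ∧ ∀ (S : Type u) [CommRing S] [IsLocalRing S] [Algebra A S] (x : S ⊗[A] B),
      N.toFun' S x = PolLaw.detAct M S x ⊗ₜ[A] (1 : A) := by
  obtain ⟨N, h1, h2⟩ := exists_law (A := A) (B := B) (M := M)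
  exact ⟨N, ⟨h1, h2⟩, fun N' hN' => law_ext N' N fun S _ _ _ x => by rw [hN'.2 S x, h2 S x]⟩

theorem existsUnique_mulLaw (d : ℕ) (hd : ∀ p : PrimeSpectrum A, Module.rankAtStalk M p = d) :
    ∃! N : PolLaw.MulLaw A B A d, ∀ (S : Type u) [CommRing S] [IsLocalRing S] [Algebra A S] (x : S ⊗[A] B),
      N.law.toFun' S x = PolLaw.detAct M S x ⊗ₜ[A] (1 : A) := by
  obtain ⟨N, h1, h2⟩ := exists_law (A := A) (B := B) (M := M)
  have hloc : ∀ (S : Type u) [CommRing S] [IsLocalRing S] [Algebra A S] (s : S) (x : S ⊗[A] B),
      N.toFun' S (s • x) = s ^ d • N.toFun' S x := by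
    intro S _ _ _ s x
    haveI : Module.Free S (S ⊗[A] M) := Module.free_of_flat_of_isLocalRing
    have hrank : Module.finrank S (S ⊗[A] M) = d := by
      have h := congrFun (Module.rankAtStalk_eq_finrank_of_free (R := S) (M := S ⊗[A] M)) ⟨_, (IsLocalRing.maximalIdeal.isMaximal S).isPrime⟩
      rw [Module.rankAtStalk_baseChange, hd] at h
      simpa using h.symm
    rw [h2, h2, PolLaw.detAct, map_smul, LinearMap.det_smul, hrank, TensorProduct.smul_tmul', smul_eq_mul]
    rfl
  have hring : ∀ (R : Type u) [CommRing R] [Algebra A R] (s : R) (x : R ⊗[A] B),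
      N.toFun' R (s • x) = s ^ d • N.toFun' R x := by
    intro R _ _ s x
    refine (Algebra.TensorProduct.rid A R R).injective (eq_of_local (A := A) fun S _ _ _ φ => ?_)
    have hnat : ∀ z : R ⊗[A] A, φ (Algebra.TensorProduct.rid A R R z) =
        Algebra.TensorProduct.rid A S S (φ.toLinearMap.rTensor A z) := fun z => by
      induction z using TensorProduct.induction_on with
      | zero => simp
      | tmul s a => simp
      | add a b ha hb => simp only [map_add, ha, hb]
    have hsm : ∀ {T : Type u} [AddCommGroup T] [Module A T] (r : R) (z : R ⊗[A] T),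
        φ.toLinearMap.rTensor T (r • z) = φ r • φ.toLinearMap.rTensor T z := fun r z => by
      induction z using TensorProduct.induction_on with
      | zero => simp
      | tmul a b => simp [TensorProduct.smul_tmul']
      | add a b ha hb => simp only [smul_add, map_add, ha, hb]
    rw [hnat, hnat, N.isCompat_apply', hsm, hsm, hloc, map_pow, N.isCompat_apply']
  have hom : PolLaw.IsHomog N d := by
    intro S _ _ s x
    let e : A ⊗[A] S →ₐ[A] S := (Algebra.TensorProduct.lid A S).toAlgHom
    have hx : ∀ z : S ⊗[A] B, e.toLinearMap.rTensor B (PolLaw.toRing A B S z) = z := fun z => by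
      induction z using TensorProduct.induction_on with
      | zero => simp
      | tmul s b => simp [e]
      | add a b ha hb => simp only [map_add, ha, hb]
    have hsm : ∀ {T : Type u} [AddCommGroup T] [Module A T] (r : A ⊗[A] S) (z : (A ⊗[A] S) ⊗[A] T),
        e.toLinearMap.rTensor T (r • z) = e r • e.toLinearMap.rTensor T z := fun r z => by
      induction z using TensorProduct.induction_on with
      | zero => simp
      | tmul a b => simp [TensorProduct.smul_tmul']
      | add a b ha hb => simp only [smul_add, map_add, ha, hb]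
    have hes : e ((1 : A) ⊗ₜ[A] s) = s := by simp [e]
    calc N.toFun' S (s • x) = N.toFun' S (e.toLinearMap.rTensor B ((((1 : A) ⊗ₜ[A] s) : A ⊗[A] S) • PolLaw.toRing A B S x)) := by
          rw [hsm, hes, hx]
      _ = _ := by rw [← N.isCompat_apply', hring, hsm, map_pow, hes, N.isCompat_apply', hx]
  exact ⟨⟨N, hom, h1⟩, h2, fun N' hN' =>
    PolLaw.MulLaw.ext (law_ext N'.law N fun S _ _ _ x => by rw [hN' S x, h2 S x])⟩

end Groth.Agent.GammaD.DetProj
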