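import Groth.Prelude.Def_SymTen
import Mathlib.Algebra.Colimit.Module
import Mathlib.Data.Fintype.Order

/-! # Symmetric tensors commute with directed colimits -/

universe u

open scoped TensorProduct

namespace Groth.Agent.GammaD.DirLim

variable {A : Type u} [CommRing A] {B : Type u} [CommRing B] [Algebra A B]
  {ι : Type u} [Preorder ι] [IsDirected ι (fun i j => i ≤ j)] [Nonempty ι]
  {Bi : ι → Type u} [∀ i, CommRing (Bi i)] [∀ i, Algebra A (Bi i)]
  {t : ∀ i j : ι, i ≤ j → (Bi i →ₐ[A] Bi j)} {φ : ∀ i : ι, Bi i →ₐ[A] B} {d : ℕ}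

/-- The transition maps of the tensor powers. -/
noncomputable abbrev ft (t : ∀ i j : ι, i ≤ j → (Bi i →ₐ[A] Bi j)) (d : ℕ) (i j : ι) (h : i ≤ j) :
    (⨂[A] _ : Fin d, Bi i) →ₗ[A] (⨂[A] _ : Fin d, Bi j) := (SymTen.tmap A d (t i j h)).toLinearMap

theorem tmap_comp {X Y Z : Type u} [CommRing X] [Algebra A X] [CommRing Y] [Algebra A Y] [CommRing Z]
    [Algebra A Z] (g : Y →ₐ[A] Z) (f : X →ₐ[A] Y) (z : ⨂[A] _ : Fin d, X) :
    SymTen.tmap A d g (SymTen.tmap A d f z) = SymTen.tmap A d (g.comp f) z := by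
  induction z using PiTensorProduct.induction_on with
  | smul_tprod r x => simp
  | add a b ha hb => simp only [map_add, ha, hb]

variable (hcomp : ∀ (i j : ι) (h : i ≤ j), (φ j).comp (t i j h) = φ i)
  (hsurj : ∀ b : B, ∃ (i : ι) (x : Bi i), φ i x = b)
  (hzero : ∀ (i : ι) (x : Bi i), φ i x = 0 → ∃ (j : ι) (h : i ≤ j), t i j h x = 0)
  (htrans : ∀ (i j k : ι) (hij : i ≤ j) (hjk : j ≤ k), (t j k hjk).comp (t i j hij) = t i k (hij.trans hjk))

include hcomp hsurj in
theorem exists_tuple {κ : Type} [Finite κ] (b : κ → B) : ∃ (k : ι) (x : κ → Bi k), ∀ l, φ k (x l) = b l := by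
  choose i x hx using fun l => hsurj (b l)
  obtain ⟨k, hk⟩ := Finite.exists_le i
  exact ⟨k, fun l => t _ k (hk l) (x l), fun l => by rw [← hx l, ← AlgHom.comp_apply, hcomp]⟩

include hcomp hzero htrans in
theorem exists_eq {i j : ι} (x : Fin d → Bi i) (y : Fin d → Bi j) (h : ∀ l, φ i (x l) = φ j (y l)) :
    ∃ (k : ι) (hi : i ≤ k) (hj : j ≤ k), ∀ l, t i k hi (x l) = t j k hj (y l) := by
  obtain ⟨m, him, hjm⟩ := exists_ge_ge i j
  choose k hk hk0 using fun l => hzero m (t i m him (x l) - t j m hjm (y l))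
    (by rw [map_sub, ← AlgHom.comp_apply, hcomp, ← AlgHom.comp_apply, hcomp, h, sub_self])
  obtain ⟨K, hK⟩ := Finite.exists_le (Option.elim' m k)
  have hmK : m ≤ K := hK none
  refine ⟨K, him.trans hmK, hjm.trans hmK, fun l => ?_⟩
  rw [← htrans i m K him hmK, ← htrans j m K hjm hmK, AlgHom.comp_apply, AlgHom.comp_apply, ← sub_eq_zero,
    ← map_sub, ← htrans m (k l) K (hk l) (hK (some l)), AlgHom.comp_apply, hk0, map_zero]

variable [DecidableEq ι]

/-- The colimit of the tensor powers. -/
abbrev Lim (t : ∀ i j : ι, i ≤ j → (Bi i →ₐ[A] Bi j)) (d : ℕ) : Type u :=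
  Module.DirectLimit (fun i => ⨂[A] _ : Fin d, Bi i) (ft t d)

/-- The class of a pure tensor. -/
noncomputable def cl (t : ∀ i j : ι, i ≤ j → (Bi i →ₐ[A] Bi j)) (i : ι) (x : Fin d → Bi i) : Lim t d :=
  Module.DirectLimit.of A ι _ (ft t d) i (PiTensorProduct.tprod A x)

theorem cl_map {i j : ι} (h : i ≤ j) (x : Fin d → Bi i) : cl t j (fun l => t i j h (x l)) = cl t i x := by
  rw [cl, cl, ← Module.DirectLimit.of_f (f := ft t d) (hij := h)]
  simp [ft]

include hcomp hzero htrans in
theorem cl_congr {i j : ι} (x : Fin d → Bi i) (y : Fin d → Bi j) (h : ∀ l, φ i (x l) = φ j (y l)) :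
    cl t i x = cl t j y := by
  obtain ⟨k, hi, hj, e⟩ := exists_eq hcomp hzero htrans x y h
  rw [← cl_map hi, ← cl_map hj, funext e]

include hcomp hsurj hzero htrans in
theorem exists_back :
    ∃ Φ : (⨂[A] _ : Fin d, B) →ₗ[A] Lim t d, ∀ (i : ι) (z : ⨂[A] _ : Fin d, Bi i),
      Φ (SymTen.tmap A d (φ i) z) = Module.DirectLimit.of A ι _ (ft t d) i z := by
  classical
  choose k x hx using fun b : Fin d → B => exists_tuple hcomp hsurj b
  have hμ : ∀ (b : Fin d → B) (i : ι) (y : Fin d → Bi i), (∀ l, φ i (y l) = b l) →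
      cl t (k b) (x b) = cl t i y := fun b i y hy =>
    cl_congr hcomp hzero htrans _ _ fun l => (hx b l).trans (hy l).symm
  let μ : MultilinearMap A (fun _ : Fin d => B) (Lim t d) :=
    { toFun := fun b => cl t (k b) (x b)
      map_update_add' := fun b l u v => by
        obtain ⟨m, w, hw⟩ := exists_tuple hcomp hsurj (κ := Option (Option (Fin d)))
          (fun o => o.elim u (fun o' => o'.elim v b))
        have hupd : ∀ (z : B) (z' : Bi m), φ m z' = z → cl t (k (Function.update b l z)) (x (Function.update b l z)) =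
            cl t m (Function.update (fun l' => w (some (some l'))) l z') := fun z z' hz =>
          hμ _ _ _ fun l' => by
            rcases eq_or_ne l' l with rfl | hne
            · simp [hz]
            · simpa [hne] using hw (some (some l'))
        rw [hupd u (w none) (hw none), hupd v (w (some none)) (hw (some none)),
          hupd (u + v) (w none + w (some none)) (by rw [map_add, hw, hw]; rfl),
          cl, MultilinearMap.map_update_add, map_add]
        rfl
      map_update_smul' := fun b l c u => by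
        obtain ⟨m, w, hw⟩ := exists_tuple hcomp hsurj (κ := Option (Fin d)) (fun o => o.elim u b)
        have hupd : ∀ (z : B) (z' : Bi m), φ m z' = z → cl t (k (Function.update b l z)) (x (Function.update b l z)) =
            cl t m (Function.update (fun l' => w (some l')) l z') := fun z z' hz =>
          hμ _ _ _ fun l' => by
            rcases eq_or_ne l' l with rfl | hne
            · simp [hz]
            · simpa [hne] using hw (some l')
        rw [hupd u (w none) (hw none), hupd (c • u) (c • w none) (by rw [map_smul, hw]; rfl),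
          cl, MultilinearMap.map_update_smul, map_smul]
        rfl }
  refine ⟨PiTensorProduct.lift μ, fun i z => ?_⟩
  induction z using PiTensorProduct.induction_on with
  | smul_tprod r y =>
    rw [map_smul, map_smul, map_smul, SymTen.tmap_tprod, PiTensorProduct.lift.tprod]
    exact congrArg _ (hμ _ i y fun l => rfl)
  | add a b ha hb => simp only [map_add, ha, hb]

include hcomp hsurj in
omit [DecidableEq ι] in
theorem exists_stage (z : ⨂[A] _ : Fin d, B) :
    ∃ (i : ι) (y : ⨂[A] _ : Fin d, Bi i), SymTen.tmap A d (φ i) y = z := by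
  induction z using PiTensorProduct.induction_on with
  | smul_tprod r b =>
    obtain ⟨i, x, hx⟩ := exists_tuple hcomp hsurj b
    exact ⟨i, r • PiTensorProduct.tprod A x, by simp [hx]⟩
  | add a b ha hb =>
    obtain ⟨i, x, rfl⟩ := ha
    obtain ⟨j, y, rfl⟩ := hb
    obtain ⟨k, hi, hj⟩ := exists_ge_ge i j
    exact ⟨k, SymTen.tmap A d (t i k hi) x + SymTen.tmap A d (t j k hj) y, by
      rw [map_add, tmap_comp, tmap_comp, hcomp, hcomp]⟩

variable (hid : ∀ (i : ι) (h : i ≤ i), t i i h = AlgHom.id A (Bi i))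

include hcomp hsurj hzero htrans hid in
omit [DecidableEq ι] in
theorem exists_kill {i : ι} {z : ⨂[A] _ : Fin d, Bi i} (hz : SymTen.tmap A d (φ i) z = 0) :
    ∃ (j : ι) (h : i ≤ j), SymTen.tmap A d (t i j h) z = 0 := by
  classical
  obtain ⟨Φ, hΦ⟩ := exists_back (d := d) hcomp hsurj hzero htrans
  haveI : DirectedSystem (fun i => ⨂[A] _ : Fin d, Bi i) (fun i j h => ft t d i j h) :=
    { map_self := fun i x => by
        show SymTen.tmap A d (t i i le_rfl) x = x
        rw [hid]
        induction x using PiTensorProduct.induction_on with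
        | smul_tprod r y => simp
        | add a b ha hb => simp only [map_add, ha, hb]
      map_map := fun k j i hij hjk x => by
        show SymTen.tmap A d (t j k hjk) (SymTen.tmap A d (t i j hij) x) = SymTen.tmap A d (t i k _) x
        rw [tmap_comp, htrans] }
  have h0 : Module.DirectLimit.of A ι _ (ft t d) i z = 0 := by rw [← hΦ, hz, map_zero]
  exact Module.DirectLimit.of.zero_exact h0

include hcomp hsurj hzero htrans hid in
omit [DecidableEq ι] in
theorem main :
    (∀ z : SymTen.TS A B d, ∃ (i : ι) (y : SymTen.TS A (Bi i) d), SymTen.TSmap A d (φ i) y = z) ∧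
      ∀ (i : ι) (y : SymTen.TS A (Bi i) d), SymTen.TSmap A d (φ i) y = 0 →
        ∃ (j : ι) (h : i ≤ j), SymTen.TSmap A d (t i j h) y = 0 := by
  classical
  constructor
  · intro z
    obtain ⟨i, y, hy⟩ := exists_stage hcomp hsurj z.1
    choose j hj hj0 using fun σ : Equiv.Perm (Fin d) =>
      exists_kill hcomp hsurj hzero htrans hid
        (z := PiTensorProduct.reindex A (fun _ : Fin d => Bi i) σ y - y)
        (by rw [map_sub, SymTen.tmap_reindex, hy, z.2 σ, sub_self])
    obtain ⟨k, hk⟩ := Finite.exists_le (Option.elim' i j)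
    have hik : i ≤ k := hk none
    refine ⟨k, ⟨SymTen.tmap A d (t i k hik) y, fun σ => ?_⟩, Subtype.ext ?_⟩
    · rw [← sub_eq_zero, ← SymTen.tmap_reindex, ← map_sub, ← htrans i (j σ) k (hj σ) (hk (some σ)), ← tmap_comp,
        hj0, map_zero]
    · show SymTen.tmap A d (φ k) (SymTen.tmap A d (t i k hik) y) = z.1
      rw [tmap_comp, hcomp, hy]
  · intro i y hy
    obtain ⟨j, h, e⟩ := exists_kill hcomp hsurj hzero htrans hid (z := y.1) (congrArg Subtype.val hy)
    exact ⟨j, h, Subtype.ext e⟩

end Groth.Agent.GammaD.DirLim
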