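import Groth.Prelude.Def_PolLaw
import Groth.Prelude.Def_FrobAlg
import Mathlib.RingTheory.MvPolynomial.Ideal
import Mathlib.RingTheory.AdjoinRoot
import Mathlib.Algebra.MvPolynomial.PDeriv
import Mathlib.RingTheory.Localization.FractionRing
import Mathlib.Algebra.CharP.Algebra
import Mathlib.FieldTheory.Finite.Basic

/-! # Examples of kernels of laws -/

universe u

open scoped TensorProduct

namespace Groth.Agent.GammaD.Examples

theorem add_pow_p {R : Type*} [CommSemiring R] (p : ℕ) [Fact p.Prime] (h : (p : R) = 0) (x y : R) :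
    (x + y) ^ p = x ^ p + y ^ p := by
  obtain ⟨r, hr⟩ := exists_add_pow_prime_eq (Fact.out : p.Prime) x y
  rw [hr, h]
  simp

theorem natCast_p {k : Type*} [CommSemiring k] (p : ℕ) (h : (p : k) = 0) (R : Type*) [Semiring R] [Algebra k R] :
    (p : R) = 0 := by
  rw [← map_natCast (algebraMap k R), h, map_zero]

theorem mem_span_X_iff {k : Type u} [CommRing k] (q : MvPolynomial ℕ k) :
    q ∈ Ideal.span (Set.range fun i : ℕ => (MvPolynomial.X i : MvPolynomial ℕ k)) ↔ MvPolynomial.constantCoeff q = 0 := by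
  rw [show (Set.range fun i : ℕ => (MvPolynomial.X i : MvPolynomial ℕ k)) = MvPolynomial.X '' Set.univ from
    (Set.image_univ).symm, MvPolynomial.mem_ideal_span_X_image, MvPolynomial.constantCoeff_eq]
  constructor
  · intro h
    by_contra h0
    obtain ⟨i, -, hi⟩ := h 0 (MvPolynomial.mem_support_iff.2 h0)
    exact hi rfl
  · intro h m hm
    by_contra hne
    have : m = 0 := Finsupp.ext fun i => by
      by_contra hi; exact hne ⟨i, trivial, hi⟩
    exact MvPolynomial.mem_support_iff.1 hm (this ▸ h)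

variable {k : Type u} [Field k] (p : ℕ) [Fact p.Prime] [CharP k p]

theorem ker_pow_eq_bot :
    PolLaw.ker (PolLaw.MulLaw.pow k k p).law = ⊥ := by
  refine (Submodule.eq_bot_iff _).2 fun b hb => ?_
  have h := hb k 0 (1 ⊗ₜ[k] 1)
  change (0 + (1 : k) ⊗ₜ[k] (1 : k) * (1 ⊗ₜ[k] b)) ^ p = (0 : k ⊗[k] k) ^ p at h
  rw [zero_add, Algebra.TensorProduct.tmul_mul_tmul, one_mul, one_mul, zero_pow (Fact.out : p.Prime).ne_zero] at h
  have h2 := congrArg (Algebra.TensorProduct.lid k k) h
  rw [map_pow, map_zero] at h2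
  simp at h2
  exact h2.1

theorem ker_truncated :
    PolLaw.ker (PolLaw.MulLaw.pow k k p).law = ⊥ ∧
      PolLaw.kerBC (PolLaw.MulLaw.pow k k p).law (AdjoinRoot ((Polynomial.X : Polynomial k) ^ p)) ≠ ⊥ := by
  refine ⟨ker_pow_eq_bot p, fun hbot => ?_⟩
  have hmem : (AdjoinRoot.root ((Polynomial.X : Polynomial k) ^ p)) ⊗ₜ[k] (1 : k) ∈
      PolLaw.kerBC (PolLaw.MulLaw.pow k k p).law (AdjoinRoot ((Polynomial.X : Polynomial k) ^ p)) := by
    intro R _ _ _ _ x w
    show (x + w * _) ^ p = x ^ p
    rw [add_pow_p p (natCast_p p (CharP.cast_eq_zero k p) _), mul_pow]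
    rw [Algebra.TensorProduct.map_tmul, Algebra.TensorProduct.tmul_pow, ← map_pow]
    have : (AdjoinRoot.root ((Polynomial.X : Polynomial k) ^ p)) ^ p = 0 := by
      rw [← AdjoinRoot.mk_X, ← map_pow, AdjoinRoot.mk_self]
    rw [this, map_zero, TensorProduct.zero_tmul, mul_zero, add_zero]
  rw [hbot, Submodule.mem_bot] at hmem
  have h2 := congrArg (Algebra.TensorProduct.rid k k (AdjoinRoot ((Polynomial.X : Polynomial k) ^ p))) hmem
  rw [Algebra.TensorProduct.rid_tmul, one_smul, map_zero, ← AdjoinRoot.mk_X] at h2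
  rw [AdjoinRoot.mk_eq_zero] at h2
  have := Polynomial.natDegree_le_of_dvd h2 Polynomial.X_ne_zero
  simp at this
  exact absurd this (not_le.2 (Fact.out : p.Prime).one_lt)

open MvPolynomial in
theorem ker_not_fg :
    PolLaw.ker (PolLaw.MulLaw.pow
        (MvPolynomial ℕ k ⧸ Ideal.span (Set.range fun i : ℕ => (MvPolynomial.X i : MvPolynomial ℕ k) ^ p))
        (MvPolynomial ℕ k ⧸ Ideal.span (Set.range fun i : ℕ => (MvPolynomial.X i : MvPolynomial ℕ k) ^ p)) p).law =
      (Ideal.span (Set.range fun i : ℕ => (MvPolynomial.X i : MvPolynomial ℕ k))).map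
        (Ideal.Quotient.mk (Ideal.span (Set.range fun i : ℕ => (MvPolynomial.X i : MvPolynomial ℕ k) ^ p))) ∧
    ¬ (PolLaw.ker (PolLaw.MulLaw.pow
        (MvPolynomial ℕ k ⧸ Ideal.span (Set.range fun i : ℕ => (MvPolynomial.X i : MvPolynomial ℕ k) ^ p))
        (MvPolynomial ℕ k ⧸ Ideal.span (Set.range fun i : ℕ => (MvPolynomial.X i : MvPolynomial ℕ k) ^ p)) p).law).FG := by
  classical
  set I : Ideal (MvPolynomial ℕ k) := Ideal.span (Set.range fun i : ℕ => (X i : MvPolynomial ℕ k) ^ p) with hI
  set Q := MvPolynomial ℕ k ⧸ I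
  set K := PolLaw.ker (PolLaw.MulLaw.pow Q Q p).law
  have hp0 : p ≠ 0 := (Fact.out : p.Prime).ne_zero
  have hc : ∀ q ∈ I, constantCoeff q = 0 := by
    intro q hq
    induction hq using Submodule.span_induction with
    | mem x hx => obtain ⟨i, rfl⟩ := hx; simp [hp0]
    | zero => simp
    | add a b _ _ ha hb => rw [map_add, ha, hb, add_zero]
    | smul a b _ hb => rw [smul_eq_mul, map_mul, hb, mul_zero]
  have hK : K = (Ideal.span (Set.range fun i : ℕ => (X i : MvPolynomial ℕ k))).map (Ideal.Quotient.mk I) := by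
    refine le_antisymm (fun b hb => ?_) ?_
    · obtain ⟨q, rfl⟩ := Ideal.Quotient.mk_surjective b
      have h := hb Q 0 (1 ⊗ₜ[Q] 1)
      change (0 + (1 : Q) ⊗ₜ[Q] (1 : Q) * (1 ⊗ₜ[Q] Ideal.Quotient.mk I q)) ^ p = (0 : Q ⊗[Q] Q) ^ p at h
      rw [zero_add, Algebra.TensorProduct.tmul_mul_tmul, one_mul, one_mul] at h
      have h2 := congrArg (Algebra.TensorProduct.lid Q Q) h
      rw [map_pow, map_pow, map_zero, zero_pow hp0, Algebra.TensorProduct.lid_tmul, one_smul, ← map_pow,
        Ideal.Quotient.eq_zero_iff_mem] at h2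
      refine Ideal.mem_map_of_mem _ ?_
      have h3 : constantCoeff q = 0 := pow_eq_zero_iff hp0 |>.1 (by rw [← map_pow]; exact hc _ h2)
      exact (mem_span_X_iff q).2 h3
    · rw [Ideal.map_span, Ideal.span_le]
      rintro _ ⟨_, ⟨i, rfl⟩, rfl⟩ S _ _ x w
      show (x + w * _) ^ p = x ^ p
      have hpQ : (p : Q) = 0 := natCast_p p (CharP.cast_eq_zero k p) Q
      rw [add_pow_p p (natCast_p p hpQ _), mul_pow, Algebra.TensorProduct.tmul_pow, ← map_pow]
      rw [Ideal.Quotient.eq_zero_iff_mem.2 (Ideal.subset_span (Set.mem_range_self i)), TensorProduct.tmul_zero,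
        mul_zero, add_zero]
  refine ⟨hK, fun hfg => ?_⟩
  rw [hK] at hfg
  obtain ⟨s, hs⟩ := hfg
  choose g hg using fun b : Q => Ideal.Quotient.mk_surjective (I := I) b
  let V : Finset ℕ := s.biUnion fun b => (g b).vars
  obtain ⟨i, hi⟩ := Infinite.exists_notMem_finset V
  let J : Ideal (MvPolynomial ℕ k) :=
    { carrier := {q | constantCoeff q = 0 ∧ q.coeff (Finsupp.single i 1) = 0}
      add_mem' := fun {a b} ha hb => ⟨by rw [map_add, ha.1, hb.1, add_zero], by rw [coeff_add, ha.2, hb.2, add_zero]⟩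
      zero_mem' := ⟨map_zero _, coeff_zero _⟩
      smul_mem' := fun a b hb => ⟨by rw [smul_eq_mul, map_mul, hb.1, mul_zero], by
        rw [smul_eq_mul, coeff_mul]
        refine Finset.sum_eq_zero fun x hx => ?_
        rw [Finset.mem_antidiagonal] at hx
        by_cases h2 : x.2 = 0
        · rw [h2, ← constantCoeff_eq, hb.1, mul_zero]
        · have : x.2 = Finsupp.single i 1 := by
            have hle : x.2 ≤ Finsupp.single i 1 := hx ▸ le_add_self
            refine le_antisymm hle (Finsupp.single_le_iff.2 (Nat.one_le_iff_ne_zero.2 fun h0 => h2 ?_))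
            ext j
            by_cases hj : j = i
            · subst hj; simpa using h0
            · have := hle j; simpa [hj] using this
          rw [this, hb.2, mul_zero]⟩ }
  have hIJ : I ≤ J := by
    refine Ideal.span_le.2 ?_
    rintro _ ⟨j, rfl⟩
    refine ⟨by simp [hp0], ?_⟩
    show coeff (Finsupp.single i 1) ((X j : MvPolynomial ℕ k) ^ p) = 0
    rw [X_pow_eq_monomial, coeff_monomial, if_neg]
    intro h
    have := congrArg Finsupp.degree h
    simp at this
    exact (Fact.out : p.Prime).one_lt.ne' this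
  have hsJ : ((Ideal.span (Set.range fun i : ℕ => (X i : MvPolynomial ℕ k))).map (Ideal.Quotient.mk I)) ≤
      J.map (Ideal.Quotient.mk I) := by
    rw [← hs]
    refine Ideal.span_le.2 ?_
    intro b hb
    rw [SetLike.mem_coe, ← hg b]
    refine Ideal.mem_map_of_mem _ ⟨?_, ?_⟩
    · have hmem : b ∈ (Ideal.span (Set.range fun i : ℕ => (X i : MvPolynomial ℕ k))).map (Ideal.Quotient.mk I) := by
        rw [← hs]; exact Submodule.subset_span hb
      obtain ⟨q, hq, hqb⟩ := (Ideal.mem_map_iff_of_surjective _ Ideal.Quotient.mk_surjective).1 hmem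
      have h0 : constantCoeff q = 0 := by
        exact (mem_span_X_iff q).1 hq
      have hdiff := hc _ (Ideal.Quotient.eq.1 (hqb.trans (hg b).symm))
      rw [map_sub, h0, zero_sub, neg_eq_zero] at hdiff
      exact hdiff
    · by_contra hne
      refine hi (Finset.mem_biUnion.2 ⟨b, hb, (mem_vars i).2 ⟨_, mem_support_iff.2 hne, by simp⟩⟩)
  have := hsJ (Ideal.mem_map_of_mem _ (Ideal.subset_span (Set.mem_range_self i)))
  rw [← Ideal.mem_comap, Ideal.comap_map_of_surjective _ Ideal.Quotient.mk_surjective, ← RingHom.ker_eq_comap_bot,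
    Ideal.mk_ker, sup_eq_left.2 hIJ] at this
  simpa using this.2

section frob

variable (K : Type) [Field K] (q : ℕ) [Fact q.Prime] [CharP K q]

theorem natCast_q (S : Type) [Semiring S] [Algebra K S] : (q : S) = 0 :=
  natCast_p q (CharP.cast_eq_zero K q) S

/-- The value of the Frobenius law. -/
noncomputable def frobMap (S : Type) [CommSemiring S] [Algebra K S] : S ⊗[K] FrobAlg.Twist q K →+ S :=
  TensorProduct.liftAddHom
    { toFun := fun s =>
        { toFun := fun a => s ^ q * algebraMap K S ((FrobAlg.toTwist q K).symm a)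
          map_zero' := by simp
          map_add' := fun a b => by rw [map_add, map_add, mul_add] }
      map_zero' := by ext a; simp [zero_pow (Fact.out : q.Prime).ne_zero]
      map_add' := fun s t => by ext a; simp [add_pow_p q (natCast_q K q S), add_mul] }
    (fun c s a => by
      show (c • s) ^ q * algebraMap K S _ = s ^ q * algebraMap K S _
      rw [Algebra.smul_def, mul_pow, ← map_pow, Algebra.smul_def, FrobAlg.algebraMap_twist, map_mul, map_mul,
        RingEquiv.symm_apply_apply]
      ring)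

theorem frobMap_tmul (S : Type) [CommSemiring S] [Algebra K S] (s : S) (a : FrobAlg.Twist q K) :
    frobMap K q S (s ⊗ₜ[K] a) = s ^ q * algebraMap K S ((FrobAlg.toTwist q K).symm a) := rfl

theorem frobMap_mul (S : Type) [CommSemiring S] [Algebra K S] (x y : S ⊗[K] FrobAlg.Twist q K) :
    frobMap K q S (x * y) = frobMap K q S x * frobMap K q S y := by
  induction x using TensorProduct.induction_on with
  | zero => simp
  | add a b ha hb => rw [add_mul, map_add, map_add, ha, hb, add_mul]
  | tmul s a =>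
    induction y using TensorProduct.induction_on with
    | zero => simp
    | add c d hc hd => rw [mul_add, map_add, map_add, hc, hd, mul_add]
    | tmul t c =>
      rw [Algebra.TensorProduct.tmul_mul_tmul, frobMap_tmul, frobMap_tmul, frobMap_tmul, map_mul, map_mul, mul_pow]
      ring

/-- The Frobenius law. -/
noncomputable def frobLaw : PolLaw.MulLaw K (FrobAlg.Twist q K) K q where
  law :=
  { toFun' := fun S _ _ x => frobMap K q S x ⊗ₜ[K] (1 : K)
    isCompat' := fun φ => funext fun x => by
      simp only [Function.comp_apply, LinearMap.rTensor_tmul, AlgHom.toLinearMap_apply]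
      congr 1
      induction x using TensorProduct.induction_on with
      | zero => simp
      | tmul s a => simp [frobMap_tmul]
      | add a b ha hb => rw [map_add, map_add, map_add, map_add, ha, hb] }
  homog S _ _ s x := by
    show frobMap K q S (s • x) ⊗ₜ[K] (1 : K) = s ^ q • (frobMap K q S x ⊗ₜ[K] (1 : K))
    rw [TensorProduct.smul_tmul', smul_eq_mul]
    congr 1
    induction x using TensorProduct.induction_on with
    | zero => simp
    | tmul t a => rw [TensorProduct.smul_tmul', frobMap_tmul, frobMap_tmul, smul_eq_mul, mul_pow, mul_assoc]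
    | add a b ha hb => rw [smul_add, map_add, map_add, ha, hb, mul_add]
  mult S _ _ := by
    refine ⟨?_, fun x y => ?_⟩
    · show frobMap K q S 1 ⊗ₜ[K] (1 : K) = 1
      rw [Algebra.TensorProduct.one_def, frobMap_tmul]
      simp [Algebra.TensorProduct.one_def]
    · show frobMap K q S (x * y) ⊗ₜ[K] (1 : K) = _ * _
      rw [frobMap_mul, Algebra.TensorProduct.tmul_mul_tmul, mul_one]

end frob

theorem frob_main (p : ℕ) [Fact p.Prime] :
    (∃ F : PolLaw.MulLaw (FractionRing (MvPolynomial ℕ (ZMod p))) (FrobAlg.Twist p (FractionRing (MvPolynomial ℕ (ZMod p)))) (FractionRing (MvPolynomial ℕ (ZMod p))) p,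
      ∀ (S : Type) [CommSemiring S] [Algebra (FractionRing (MvPolynomial ℕ (ZMod p))) S] (s : S) (a : FrobAlg.Twist p (FractionRing (MvPolynomial ℕ (ZMod p)))),
        F.law.toFun' S (s ⊗ₜ[FractionRing (MvPolynomial ℕ (ZMod p))] a) =
          (s ^ p) ⊗ₜ[FractionRing (MvPolynomial ℕ (ZMod p))] (FrobAlg.toTwist p (FractionRing (MvPolynomial ℕ (ZMod p)))).symm a) ∧
    (∀ F : PolLaw.MulLaw (FractionRing (MvPolynomial ℕ (ZMod p))) (FrobAlg.Twist p (FractionRing (MvPolynomial ℕ (ZMod p)))) (FractionRing (MvPolynomial ℕ (ZMod p))) p,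
      (∀ (S : Type) [CommSemiring S] [Algebra (FractionRing (MvPolynomial ℕ (ZMod p))) S] (s : S) (a : FrobAlg.Twist p (FractionRing (MvPolynomial ℕ (ZMod p)))),
        F.law.toFun' S (s ⊗ₜ[FractionRing (MvPolynomial ℕ (ZMod p))] a) =
          (s ^ p) ⊗ₜ[FractionRing (MvPolynomial ℕ (ZMod p))] (FrobAlg.toTwist p (FractionRing (MvPolynomial ℕ (ZMod p)))).symm a) →
      PolLaw.ker F.law = ⊥) ∧
    ¬ Module.Finite (FractionRing (MvPolynomial ℕ (ZMod p))) (FrobAlg.Twist p (FractionRing (MvPolynomial ℕ (ZMod p)))) := by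
  classical
  set K := FractionRing (MvPolynomial ℕ (ZMod p))
  refine ⟨⟨frobLaw K p, fun S _ _ s a => ?_⟩, fun F hF => ?_, fun hfin => ?_⟩
  · show frobMap K p S (s ⊗ₜ[K] a) ⊗ₜ[K] (1 : K) = _
    rw [frobMap_tmul, mul_comm, ← Algebra.smul_def, TensorProduct.smul_tmul, smul_eq_mul, mul_one]
  · refine (Submodule.eq_bot_iff _).2 fun b hb => ?_
    by_contra hb0
    have hu : IsUnit ((FrobAlg.toTwist p K).symm b) :=
      isUnit_iff_ne_zero.2 fun e => hb0 (by simpa using congrArg (FrobAlg.toTwist p K) e)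
    have hu' : IsUnit b := by simpa using hu.map (FrobAlg.toTwist p K)
    obtain ⟨c, hc⟩ := hu'.exists_left_inv
    have h := hb K 0 (1 ⊗ₜ[K] c)
    rw [zero_add, Algebra.TensorProduct.tmul_mul_tmul, mul_one, hc, hF, one_pow] at h
    rw [← TensorProduct.zero_tmul K (1 : FrobAlg.Twist p K), hF, zero_pow (Fact.out : p.Prime).ne_zero] at h
    have h2 := congrArg (TensorProduct.lid K K) h
    rw [TensorProduct.lid_tmul, TensorProduct.lid_tmul, map_one, one_smul, zero_smul] at h2
    exact one_ne_zero h2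
  · obtain ⟨n, a, ha⟩ := Module.Finite.exists_fin (R := K) (M := FrobAlg.Twist p K)
    obtain ⟨⟨b, hb⟩, hA⟩ := IsLocalization.exist_integer_multiples (nonZeroDivisors (MvPolynomial ℕ (ZMod p)))
      Finset.univ fun i => ((FrobAlg.toTwist p K).symm (a i) : K)
    choose A hA' using fun i => hA i (Finset.mem_univ i)
    obtain ⟨N, hN⟩ := Infinite.exists_notMem_finset (b.vars ∪ Finset.univ.biUnion fun i => (A i).vars)
    have hmem : (FrobAlg.toTwist p K) (algebraMap (MvPolynomial ℕ (ZMod p)) K (MvPolynomial.X N)) ∈ Submodule.span K (Set.range a) := by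
      rw [ha]; trivial
    obtain ⟨c, hc⟩ := (Submodule.mem_span_range_iff_exists_fun K).1 hmem
    obtain ⟨⟨D, hD⟩, hC⟩ := IsLocalization.exist_integer_multiples (nonZeroDivisors (MvPolynomial ℕ (ZMod p)))
      Finset.univ c
    choose C hC' using fun i => hC i (Finset.mem_univ i)
    have key : (algebraMap (MvPolynomial ℕ (ZMod p)) K (MvPolynomial.X N * D ^ p * b)) = algebraMap (MvPolynomial ℕ (ZMod p)) K (∑ i, C i ^ p * A i) := by
      have h1 := congrArg (FrobAlg.toTwist p K).symm hc
      rw [RingEquiv.symm_apply_apply, map_sum] at h1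
      rw [map_mul, map_mul, map_pow, ← h1, Finset.sum_mul, Finset.sum_mul, map_sum]
      refine Finset.sum_congr rfl fun i _ => ?_
      have e1 := hA' i
      have e2 := hC' i
      simp only [Algebra.smul_def] at e1 e2
      rw [map_mul, map_pow, e1, e2, Algebra.smul_def, FrobAlg.algebraMap_twist, map_mul, RingEquiv.symm_apply_apply,
        mul_pow]
      ring
    have hk := congrArg (MvPolynomial.pderiv N) (IsFractionRing.injective (MvPolynomial ℕ (ZMod p)) K key)
    have hpow : ∀ q : MvPolynomial ℕ (ZMod p), MvPolynomial.pderiv N (q ^ p) = 0 := fun q => by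
      rw [MvPolynomial.pderiv_pow, CharP.cast_eq_zero (MvPolynomial ℕ (ZMod p)) p]
      simp
    have hb' : MvPolynomial.pderiv N b = 0 :=
      MvPolynomial.pderiv_eq_zero_of_notMem_vars fun h => hN (Finset.mem_union_left _ h)
    have hA0 : ∀ i, MvPolynomial.pderiv N (A i) = 0 := fun i =>
      MvPolynomial.pderiv_eq_zero_of_notMem_vars fun h =>
        hN (Finset.mem_union_right _ (Finset.mem_biUnion.2 ⟨i, Finset.mem_univ i, h⟩))
    simp [map_sum, MvPolynomial.pderiv_mul, hpow, hb', hA0] at hk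
    rcases hk with h | h
    · exact nonZeroDivisors.ne_zero hb h
    · exact nonZeroDivisors.ne_zero hD h.1

end Groth.Agent.GammaD.Examples
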