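import Groth.Agent.Lib.GammaD.Kernel
import Mathlib.RingTheory.Polynomial.Basic
import Mathlib.Algebra.MvPolynomial.Equiv
import Mathlib.RingTheory.IntegralClosure.IsIntegral.Basic
import Mathlib.RingTheory.IntegralClosure.Algebra.Defs

/-! # The kernel of a scalar multiplicative law and its base changes -/

universe u

open scoped TensorProduct

namespace Groth.Agent.GammaD

variable {A : Type u} [CommRing A] {B : Type u} [CommRing B] [Algebra A B] {d : ℕ}
  {F : PolLaw.MulLaw A B A d}

/-- A commutative semiring under a ring is a ring. -/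
noncomputable abbrev mkRing (A R : Type u) [CommRing A] [CommSemiring R] [Algebra A R] : CommRing R :=
  { Algebra.semiringToRing A, ‹CommSemiring R› with }

section kerBC

variable {A' : Type u} [CommRing A'] [Algebra A A']

theorem mem_kerBC_iff {e : A' ⊗[A] B} :
    e ∈ PolLaw.kerBC F.law A' ↔
      ∀ (R : Type u) [CommRing R] [Algebra A R] [Algebra A' R] [IsScalarTower A A' R] (x w : R ⊗[A] B),
        nv F R (x + w * Algebra.TensorProduct.map (IsScalarTower.toAlgHom A A' R) (AlgHom.id A B) e) =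
          nv F R x := by
  constructor
  · intro h R _ _ _ _ x w
    exact nv_inj.2 (h R x w)
  · intro h R _ _ _ _ x w
    letI := mkRing A R
    exact nv_inj.1 (h R x w)

theorem nv_add_of_mem {e : A' ⊗[A] B} (he : e ∈ PolLaw.kerBC F.law A') {R : Type u} [CommRing R]
    [Algebra A R] (φ : A' →ₐ[A] R) (x w : R ⊗[A] B) :
    nv F R (x + w * Algebra.TensorProduct.map φ (AlgHom.id A B) e) = nv F R x := by
  letI := φ.toRingHom.toAlgebra
  haveI : IsScalarTower A A' R := IsScalarTower.of_algebraMap_eq fun a => (φ.commutes a).symm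
  exact mem_kerBC_iff.1 he R x w

theorem map_mem_kerBC {A'' : Type u} [CommRing A''] [Algebra A A''] (φ : A' →ₐ[A] A'') {e : A' ⊗[A] B}
    (he : e ∈ PolLaw.kerBC F.law A') :
    Algebra.TensorProduct.map φ (AlgHom.id A B) e ∈ PolLaw.kerBC F.law A'' := by
  refine mem_kerBC_iff.2 fun R _ _ _ _ x w => ?_
  rw [← AlgHom.comp_apply, ← Algebra.TensorProduct.map_comp, AlgHom.id_comp]
  exact nv_add_of_mem he _ x w

theorem mem_ker_iff {b : B} :
    b ∈ PolLaw.ker F.law ↔ ∀ (R : Type u) [CommRing R] [Algebra A R] (x w : R ⊗[A] B),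
      nv F R (x + w * (1 ⊗ₜ[A] b)) = nv F R x := by
  constructor
  · intro h R _ _ x w
    exact nv_inj.2 (h R x w)
  · intro h R _ _ x w
    letI := mkRing A R
    exact nv_inj.1 (h R x w)

theorem map_ker_le_kerBC :
    (PolLaw.ker F.law).map (Algebra.TensorProduct.includeRight : B →ₐ[A] A' ⊗[A] B) ≤
      PolLaw.kerBC F.law A' :=
  Ideal.map_le_iff_le_comap.2 fun b hb => mem_kerBC_iff.2 fun R _ _ _ _ x w => by
    rw [Algebra.TensorProduct.includeRight_apply, Algebra.TensorProduct.map_tmul, map_one]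
    exact mem_ker_iff.1 hb R x w

theorem one_tmul_mem_kerBC_self {b : B} :
    (1 : A) ⊗ₜ[A] b ∈ PolLaw.kerBC F.law A ↔ b ∈ PolLaw.ker F.law := by
  refine ⟨fun h => mem_ker_iff.2 fun R _ _ x w => ?_, fun h => map_ker_le_kerBC (Ideal.mem_map_of_mem _ h)⟩
  have := mem_kerBC_iff.1 h R x w
  rwa [Algebra.TensorProduct.map_tmul, map_one, AlgHom.id_apply] at this

theorem aeval_chi_mem_kerBC (y : A' ⊗[A] B) :
    Polynomial.aeval y (chi F A' y) ∈ PolLaw.kerBC F.law A' := by
  refine mem_kerBC_iff.2 fun R _ _ _ _ x w => ?_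
  have e : (Algebra.TensorProduct.map (IsScalarTower.toAlgHom A A' R) (AlgHom.id A B))
      (Polynomial.aeval y (chi F A' y)) = Polynomial.aeval
        (Algebra.TensorProduct.map (IsScalarTower.toAlgHom A A' R) (AlgHom.id A B) y)
        ((chi F A' y).map (IsScalarTower.toAlgHom A A' R).toRingHom) :=
    Polynomial.map_aeval_eq_aeval_map (φ := (IsScalarTower.toAlgHom A A' R).toRingHom)
      (ψ := (Algebra.TensorProduct.map (IsScalarTower.toAlgHom A A' R) (AlgHom.id A B)).toRingHom)
      (by ext a; simp) _ _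
  rw [e, chi_map]
  exact nv_add_mul_aeval_chi _ x w

theorem chi_of_mem_kerBC {y : A' ⊗[A] B} (hy : y ∈ PolLaw.kerBC F.law A') :
    chi F A' y = (-Polynomial.X) ^ d := by
  rw [chi, sub_eq_add_neg, add_comm, ← one_mul (Algebra.TensorProduct.map _ _ y),
    nv_add_of_mem hy, ← TensorProduct.neg_tmul, nv_scalar]

theorem chi_add_of_mem_kerBC (y : A' ⊗[A] B) {e : A' ⊗[A] B} (he : e ∈ PolLaw.kerBC F.law A') :
    chi F A' (y + e) = chi F A' y := by
  rw [chi, chi, map_add, add_sub_right_comm, ← one_mul (Algebra.TensorProduct.map _ _ e), nv_add_of_mem he]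

theorem map_neg_X_pow_aeval (y : A' ⊗[A] B) :
    Polynomial.aeval y ((-Polynomial.X : Polynomial A') ^ d) = (-1) ^ d * y ^ d := by
  rw [map_pow, map_neg, Polynomial.aeval_X, neg_pow]

end kerBC

/-! ## Polynomial extensions -/

section poly

variable {A' : Type u} [CommRing A'] [Algebra A A']

/-- Constants. -/
noncomputable def incC (A' : Type u) [CommRing A'] [Algebra A A'] :
    A' ⊗[A] B →ₐ[A] Polynomial A' ⊗[A] B :=
  Algebra.TensorProduct.map (IsScalarTower.toAlgHom A A' (Polynomial A')) (AlgHom.id A B)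

theorem incC_tmul (a : A') (b : B) :
    incC (A := A) A' (a ⊗ₜ[A] b) = Polynomial.C a ⊗ₜ[A] b := by
  simp [incC]

theorem exists_coeffs (y : Polynomial A' ⊗[A] B) :
    ∃ N, ∃ z : ℕ → A' ⊗[A] B, (∀ k, N ≤ k → z k = 0) ∧
      y = ∑ k ∈ Finset.range N, (Polynomial.X ^ k : Polynomial A') ⊗ₜ[A] (1 : B) * incC A' (z k) := by
  induction y using TensorProduct.induction_on with
  | zero => exact ⟨0, fun _ => 0, fun _ _ => rfl, by simp⟩
  | tmul p b =>
    refine ⟨p.natDegree + 1, fun k => p.coeff k ⊗ₜ[A] b, fun k hk => ?_, ?_⟩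
    · dsimp only
      rw [Polynomial.coeff_eq_zero_of_natDegree_lt hk, TensorProduct.zero_tmul]
    · simp only [incC_tmul, Algebra.TensorProduct.tmul_mul_tmul, one_mul, ← TensorProduct.sum_tmul]
      rw [Finset.sum_congr rfl fun k _ => mul_comm _ (Polynomial.C (p.coeff k)), ← p.as_sum_range_C_mul_X_pow]
  | add a b ha hb =>
    obtain ⟨N, z, hz, rfl⟩ := ha
    obtain ⟨M, z', hz', rfl⟩ := hb
    refine ⟨N + M, fun k => z k + z' k, fun k hk => by dsimp only; rw [hz k (by omega), hz' k (by omega), add_zero], ?_⟩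
    simp only [map_add, mul_add, Finset.sum_add_distrib]
    congr 1
    · exact Finset.sum_subset (Finset.range_mono (Nat.le_add_right N M)) fun k _ hk => by
        rw [hz k (by simpa using hk), map_zero, mul_zero]
    · exact Finset.sum_subset (Finset.range_mono (Nat.le_add_left M N)) fun k _ hk => by
        rw [hz' k (by simpa using hk), map_zero, mul_zero]

theorem mem_kerBC_of_X_mul {z : Polynomial A' ⊗[A] B}
    (h : (Polynomial.X : Polynomial A') ⊗ₜ[A] (1 : B) * z ∈ PolLaw.kerBC F.law (Polynomial A')) :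
    z ∈ PolLaw.kerBC F.law (Polynomial A') := by
  refine mem_kerBC_iff.2 fun R _ _ _ _ x w => ?_
  let π : Polynomial A' →ₐ[A] R := IsScalarTower.toAlgHom A (Polynomial A') R
  let ι : A' →ₐ[A] R := π.comp (IsScalarTower.toAlgHom A A' (Polynomial A'))
  let φ : Polynomial A' →ₐ[A] Polynomial R := Polynomial.mapAlgHom ι
  let c1 : R →ₐ[A] Polynomial R := IsScalarTower.toAlgHom A R _
  let c2 : Polynomial R →ₐ[A] Polynomial (Polynomial R) := IsScalarTower.toAlgHom A _ _
  let x1 := Algebra.TensorProduct.map c1 (AlgHom.id A B) x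
  let w1 := Algebra.TensorProduct.map c1 (AlgHom.id A B) w
  let z1 := Algebra.TensorProduct.map φ (AlgHom.id A B) z
  let x2 := Algebra.TensorProduct.map c2 (AlgHom.id A B) x1
  let w2 := Algebra.TensorProduct.map c2 (AlgHom.id A B) w1
  let z2 := Algebra.TensorProduct.map c2 (AlgHom.id A B) z1
  let Q : Polynomial (Polynomial R) :=
    nv F _ (x2 + (Polynomial.X : Polynomial (Polynomial R)) ⊗ₜ[A] (1 : B) * (w2 * z2))
  let t' : Polynomial R := Polynomial.X
  let σ : Polynomial (Polynomial R) →ₐ[A] Polynomial (Polynomial R) :=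
    (Polynomial.aeval (Polynomial.C t' * Polynomial.X) :
      Polynomial (Polynomial R) →ₐ[Polynomial R] Polynomial (Polynomial R)).restrictScalars A
  have hσc : σ.comp c2 = c2 := AlgHom.ext fun r => by simp [σ, c2]
  have hfix : ∀ u, Algebra.TensorProduct.map σ (AlgHom.id A B)
      (Algebra.TensorProduct.map c2 (AlgHom.id A B) u) = Algebra.TensorProduct.map c2 (AlgHom.id A B) u := by
    intro u
    rw [← AlgHom.comp_apply, ← Algebra.TensorProduct.map_comp, hσc, AlgHom.id_comp]
  have hQ : Q.comp (Polynomial.C t' * Polynomial.X) = Polynomial.C (nv F _ x1) := by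
    show σ Q = _
    rw [nv_compat, map_add, map_mul, map_mul, hfix, hfix, hfix, Algebra.TensorProduct.map_tmul,
      show σ Polynomial.X = Polynomial.C t' * Polynomial.X by simp [σ]]
    have := nv_add_of_mem h (c2.comp φ) x2 (((Polynomial.X : Polynomial (Polynomial R)) ⊗ₜ[A] (1 : B)) * w2)
    rw [map_mul] at this
    refine Eq.trans ?_ (this.trans ?_)
    · congr 2
      rw [AlgHom.id_apply, show Algebra.TensorProduct.map (c2.comp φ) (AlgHom.id A B) z = z2 by
        rw [← AlgHom.id_comp (AlgHom.id A B), Algebra.TensorProduct.map_comp]; rfl,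
        Algebra.TensorProduct.map_tmul, map_one,
        show (c2.comp φ) Polynomial.X = Polynomial.C t' by simp [c2, φ, t'],
        mul_comm (Polynomial.C t') Polynomial.X, ← mul_one (1 : B), ← Algebra.TensorProduct.tmul_mul_tmul,
        mul_one]
      ring
    · rw [← nv_compat]; rfl
  have hQk : ∀ k, k ≠ 0 → Q.coeff k = 0 := fun k hk => by
    have := congrArg (fun p => p.coeff k) hQ
    simp only [Polynomial.comp_C_mul_X_coeff, Polynomial.coeff_C, if_neg hk] at this
    exact (Polynomial.monic_X_pow k).mul_left_eq_zero_iff.1 this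
  have hQC : Q = Polynomial.C (Q.coeff 0) := Polynomial.ext fun k => by
    rcases eq_or_ne k 0 with rfl | hk
    · simp
    · rw [hQk k hk, Polynomial.coeff_C, if_neg hk]
  have heval : ∀ v : Polynomial R,
      nv F _ (x1 + v ⊗ₜ[A] (1 : B) * (w1 * z1)) = Q.coeff 0 := by
    intro v
    let ev : Polynomial (Polynomial R) →ₐ[A] Polynomial R :=
      (Polynomial.aeval v : Polynomial (Polynomial R) →ₐ[Polynomial R] Polynomial R).restrictScalars A
    have hev : ev Q = Q.coeff 0 := by rw [hQC]; simp [ev]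
    rw [← hev, nv_compat, map_add, map_mul, map_mul, Algebra.TensorProduct.map_tmul]
    have hid : ∀ u, Algebra.TensorProduct.map ev (AlgHom.id A B)
        (Algebra.TensorProduct.map c2 (AlgHom.id A B) u) = u := by
      intro u
      rw [← AlgHom.comp_apply, ← Algebra.TensorProduct.map_comp,
        show ev.comp c2 = AlgHom.id A _ from AlgHom.ext fun r => by simp [ev, c2], AlgHom.id_comp,
        Algebra.TensorProduct.map_id, AlgHom.id_apply]
    rw [hid, hid, hid, show ev Polynomial.X = v by simp [ev]]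
    rfl
  have h1 : nv F _ (x1 + w1 * z1) = nv F _ x1 := by
    have e1 := heval 1
    have e0 := heval 0
    rw [← Algebra.TensorProduct.one_def, one_mul] at e1
    rw [TensorProduct.zero_tmul, zero_mul, add_zero] at e0
    rw [e1, e0]
  let er : Polynomial R →ₐ[A] R :=
    (Polynomial.aeval (π Polynomial.X) : Polynomial R →ₐ[R] R).restrictScalars A
  have := congrArg er h1
  rw [nv_compat, nv_compat, map_add, map_mul] at this
  have hc : ∀ u, Algebra.TensorProduct.map er (AlgHom.id A B)
      (Algebra.TensorProduct.map c1 (AlgHom.id A B) u) = u := by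
    intro u
    rw [← AlgHom.comp_apply, ← Algebra.TensorProduct.map_comp,
      show er.comp c1 = AlgHom.id A _ from AlgHom.ext fun r => by simp [er, c1], AlgHom.id_comp,
      Algebra.TensorProduct.map_id, AlgHom.id_apply]
  have hz : Algebra.TensorProduct.map er (AlgHom.id A B) z1 =
      Algebra.TensorProduct.map π (AlgHom.id A B) z := by
    rw [← AlgHom.comp_apply, ← Algebra.TensorProduct.map_comp, AlgHom.id_comp]
    congr 2
    refine Polynomial.algHom_ext' (AlgHom.ext fun a => ?_) ?_ <;> simp [er, φ, ι]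
  rw [hc, hc, hz] at this
  exact this

theorem coeff_zero_mem_kerBC {y : Polynomial A' ⊗[A] B} (hy : y ∈ PolLaw.kerBC F.law (Polynomial A')) :
    Algebra.TensorProduct.map ((Polynomial.aeval (0 : A') : Polynomial A' →ₐ[A'] A').restrictScalars A)
      (AlgHom.id A B) y ∈ PolLaw.kerBC F.law A' :=
  map_mem_kerBC _ hy

theorem coeffs_mem_kerBC : ∀ (N : ℕ) (z : ℕ → A' ⊗[A] B),
    (∑ k ∈ Finset.range N, (Polynomial.X ^ k : Polynomial A') ⊗ₜ[A] (1 : B) * incC A' (z k)) ∈
      PolLaw.kerBC F.law (Polynomial A') → ∀ k, k < N → z k ∈ PolLaw.kerBC F.law A' := by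
  intro N
  induction N with
  | zero => intro z _ k hk; omega
  | succ N ih =>
    intro z hz
    have e : ∑ k ∈ Finset.range (N + 1), (Polynomial.X ^ k : Polynomial A') ⊗ₜ[A] (1 : B) * incC A' (z k) =
        (Polynomial.X : Polynomial A') ⊗ₜ[A] (1 : B) *
          (∑ k ∈ Finset.range N, (Polynomial.X ^ k : Polynomial A') ⊗ₜ[A] (1 : B) * incC A' (z (k + 1))) +
        incC A' (z 0) := by
      rw [Finset.sum_range_succ', Finset.mul_sum]
      congr 1
      · refine Finset.sum_congr rfl fun k _ => ?_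
        rw [← mul_assoc, Algebra.TensorProduct.tmul_mul_tmul, one_mul, pow_succ']
      · rw [pow_zero, ← Algebra.TensorProduct.one_def, one_mul]
    rw [e] at hz
    have h0 : z 0 ∈ PolLaw.kerBC F.law A' := by
      have h := coeff_zero_mem_kerBC hz
      rw [map_add, map_mul, Algebra.TensorProduct.map_tmul] at h
      simp only [AlgHom.restrictScalars_apply, Polynomial.aeval_X, TensorProduct.zero_tmul, zero_mul,
        zero_add, incC, ← AlgHom.comp_apply, ← Algebra.TensorProduct.map_comp] at h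
      rwa [show ((Polynomial.aeval (0 : A') : Polynomial A' →ₐ[A'] A').restrictScalars A).comp
          (IsScalarTower.toAlgHom A A' (Polynomial A')) = AlgHom.id A A' from
            AlgHom.ext fun a => by simp, AlgHom.id_comp, Algebra.TensorProduct.map_id, AlgHom.id_apply] at h
    have hrest := mem_kerBC_of_X_mul ((Submodule.add_mem_iff_left _
      (map_mem_kerBC (IsScalarTower.toAlgHom A A' (Polynomial A')) h0)).1 hz)
    intro k hk
    rcases k with _ | k
    · exact h0
    · exact ih _ hrest k (by omega)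

theorem kerBC_polynomial_le {I : Ideal B}
    (hA' : PolLaw.kerBC F.law A' ≤ I.map (Algebra.TensorProduct.includeRight : B →ₐ[A] A' ⊗[A] B)) :
    PolLaw.kerBC F.law (Polynomial A') ≤
      I.map (Algebra.TensorProduct.includeRight : B →ₐ[A] Polynomial A' ⊗[A] B) := by
  intro y hy
  obtain ⟨N, z, -, rfl⟩ := exists_coeffs y
  refine Submodule.sum_mem _ fun k hk => Ideal.mul_mem_left _ _ ?_
  have h := hA' (coeffs_mem_kerBC N z hy k (Finset.mem_range.1 hk))
  have h2 := Ideal.mem_map_of_mem (incC (A := A) (B := B) A') h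
  rw [Ideal.map_mapₐ, show (incC (A := A) (B := B) A').comp Algebra.TensorProduct.includeRight =
    Algebra.TensorProduct.includeRight from AlgHom.ext fun b => by simp [incC]] at h2
  exact h2

end poly

theorem map_map_includeRight {A' A'' : Type u} [CommRing A'] [Algebra A A'] [CommRing A''] [Algebra A A'']
    (φ : A' →ₐ[A] A'') (I : Ideal B) :
    (I.map (Algebra.TensorProduct.includeRight : B →ₐ[A] A' ⊗[A] B)).map
        (Algebra.TensorProduct.map φ (AlgHom.id A B)) =
      I.map (Algebra.TensorProduct.includeRight : B →ₐ[A] A'' ⊗[A] B) := by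
  rw [Ideal.map_mapₐ]
  congr 1
  exact AlgHom.ext fun b => by simp

theorem kerBC_self_le :
    PolLaw.kerBC F.law A ≤ (PolLaw.ker F.law).map (Algebra.TensorProduct.includeRight : B →ₐ[A] A ⊗[A] B) := by
  intro y hy
  obtain ⟨b, rfl⟩ : ∃ b : B, (1 : A) ⊗ₜ[A] b = y :=
    ⟨_, (TensorProduct.lid A B).symm_apply_apply y⟩
  exact Ideal.mem_map_of_mem _ (one_tmul_mem_kerBC_self.1 hy)

theorem kerBC_polynomial :
    PolLaw.kerBC F.law (Polynomial A) =
      (PolLaw.ker F.law).map (Algebra.TensorProduct.includeRight : B →ₐ[A] Polynomial A ⊗[A] B) :=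
  le_antisymm (kerBC_polynomial_le kerBC_self_le) map_ker_le_kerBC

theorem kerBC_mvPolynomial_le : ∀ n : ℕ,
    PolLaw.kerBC F.law (MvPolynomial (Fin n) A) ≤
      (PolLaw.ker F.law).map (Algebra.TensorProduct.includeRight : B →ₐ[A] MvPolynomial (Fin n) A ⊗[A] B) := by
  have key : ∀ {A' A'' : Type u} [CommRing A'] [Algebra A A'] [CommRing A''] [Algebra A A'']
      (e : A' ≃ₐ[A] A''), PolLaw.kerBC F.law A' ≤
        (PolLaw.ker F.law).map (Algebra.TensorProduct.includeRight : B →ₐ[A] A' ⊗[A] B) →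
      PolLaw.kerBC F.law A'' ≤
        (PolLaw.ker F.law).map (Algebra.TensorProduct.includeRight : B →ₐ[A] A'' ⊗[A] B) := by
    intro A' A'' _ _ _ _ e h y hy
    have h1 := h (map_mem_kerBC e.symm.toAlgHom hy)
    have h2 := Ideal.mem_map_of_mem (Algebra.TensorProduct.map e.toAlgHom (AlgHom.id A B)) h1
    rw [map_map_includeRight, ← AlgHom.comp_apply, ← Algebra.TensorProduct.map_comp, AlgEquiv.comp_symm,
      AlgHom.id_comp, Algebra.TensorProduct.map_id, AlgHom.id_apply] at h2
    exact h2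
  intro n
  induction n with
  | zero => exact key (MvPolynomial.isEmptyAlgEquiv A (Fin 0)).symm kerBC_self_le
  | succ n ih => exact key (MvPolynomial.finSuccEquiv A n).symm (kerBC_polynomial_le ih)

theorem exists_universal {A' : Type u} [CommRing A'] [Algebra A A'] (y : A' ⊗[A] B) :
    ∃ (n : ℕ) (φ : MvPolynomial (Fin n) A →ₐ[A] A') (y0 : MvPolynomial (Fin n) A ⊗[A] B),
      Algebra.TensorProduct.map φ (AlgHom.id A B) y0 = y := by
  classical
  obtain ⟨T, rfl⟩ := TensorProduct.exists_finset y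
  refine ⟨T.card, MvPolynomial.aeval fun i => (T.equivFin.symm i).1.1,
    ∑ i, MvPolynomial.X i ⊗ₜ[A] (T.equivFin.symm i).1.2, ?_⟩
  simp only [map_sum, Algebra.TensorProduct.map_tmul, MvPolynomial.aeval_X, AlgHom.id_apply]
  rw [← Finset.sum_coe_sort T, Equiv.sum_comp T.equivFin.symm fun i : ↥T => i.1.1 ⊗ₜ[A] i.1.2]

/-- Cayley–Hamilton: `χ_y(y)` lies in the extension of the kernel. -/
theorem aeval_chi_mem_map_ker {A' : Type u} [CommRing A'] [Algebra A A'] (y : A' ⊗[A] B) :
    Polynomial.aeval y (chi F A' y) ∈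
      (PolLaw.ker F.law).map (Algebra.TensorProduct.includeRight : B →ₐ[A] A' ⊗[A] B) := by
  obtain ⟨n, φ, y0, rfl⟩ := exists_universal y
  have h := Ideal.mem_map_of_mem (Algebra.TensorProduct.map φ (AlgHom.id A B))
    (kerBC_mvPolynomial_le (F := F) n (aeval_chi_mem_kerBC y0))
  rw [map_map_includeRight] at h
  rw [← chi_map]
  convert h using 1
  exact (Polynomial.map_aeval_eq_aeval_map (φ := φ.toRingHom)
    (ψ := (Algebra.TensorProduct.map φ (AlgHom.id A B)).toRingHom) (RingHom.ext fun a => by simp) _ _).symm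

theorem radical_kerBC (A' : Type u) [CommRing A'] [Algebra A A'] :
    (PolLaw.kerBC F.law A').radical =
      ((PolLaw.ker F.law).map (Algebra.TensorProduct.includeRight : B →ₐ[A] A' ⊗[A] B)).radical := by
  refine le_antisymm (Ideal.radical_le_radical_iff.2 fun y hy => ⟨d, ?_⟩)
    (Ideal.radical_mono map_ker_le_kerBC)
  have h := aeval_chi_mem_map_ker (F := F) y
  rw [chi_of_mem_kerBC hy, map_neg_X_pow_aeval] at h
  exact (Ideal.unit_mul_mem_iff_mem _ (IsUnit.pow d (isUnit_one.neg))).1 h

section base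

theorem aeval_chi_mem_ker (b : B) : Polynomial.aeval b (chi F A (1 ⊗ₜ[A] b)) ∈ PolLaw.ker F.law := by
  have h := aeval_chi_mem_kerBC (F := F) ((1 : A) ⊗ₜ[A] b)
  rw [show (1 : A) ⊗ₜ[A] b = (Algebra.TensorProduct.includeRight : B →ₐ[A] A ⊗[A] B) b from rfl,
    Polynomial.aeval_algHom_apply] at h
  exact one_tmul_mem_kerBC_self.1 h

theorem pow_mem_span_of_mem_ker {b : B} (hb : b ∈ PolLaw.ker F.law) :
    b ^ d ∈ Ideal.span {Polynomial.aeval b (chi F A (1 ⊗ₜ[A] b))} := by
  rw [chi_of_mem_kerBC (one_tmul_mem_kerBC_self.2 hb), map_pow, map_neg, Polynomial.aeval_X, neg_pow]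
  exact (Ideal.unit_mul_mem_iff_mem _ (IsUnit.pow d (isUnit_one.neg))).1 (Ideal.subset_span rfl)

theorem radical_ker_precomp {B' : Type u} [CommRing B'] [Algebra A B'] (φ : B' →ₐ[A] B) :
    (PolLaw.ker (F.precomp φ).law).radical = ((PolLaw.ker F.law).comap φ).radical := by
  have hle : (PolLaw.ker F.law).comap φ ≤ PolLaw.ker (F.precomp φ).law := by
    intro b hb S _ _ x w
    show F.law.toFun' S (φ.toLinearMap.lTensor S (x + w * (1 ⊗ₜ[A] b))) =
      F.law.toFun' S (φ.toLinearMap.lTensor S x)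
    rw [map_add, lTensor_algHom_mul, LinearMap.lTensor_tmul]
    exact hb S _ _
  refine le_antisymm (Ideal.radical_le_radical_iff.2 fun b hb => ⟨d, ?_⟩) (Ideal.radical_mono hle)
  show φ (b ^ d) ∈ PolLaw.ker F.law
  have hchi : chi F A (1 ⊗ₜ[A] φ b) = chi (F.precomp φ) A (1 ⊗ₜ[A] b) := by
    rw [chi, chi]
    show _ = nv F _ (φ.toLinearMap.lTensor _ _)
    congr 1
    rw [map_sub]
    simp
  have h := aeval_chi_mem_ker (F := F) (φ b)
  rw [hchi, chi_of_mem_kerBC (one_tmul_mem_kerBC_self.2 hb), map_pow, map_neg, Polynomial.aeval_X, neg_pow] at h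
  rw [map_pow]
  exact (Ideal.unit_mul_mem_iff_mem _ (IsUnit.pow d (isUnit_one.neg))).1 h

theorem monic_C_mul_chi {A' : Type u} [CommRing A'] [Algebra A A'] (y : A' ⊗[A] B) :
    (Polynomial.C ((-1) ^ d) * chi F A' y).Monic := by
  refine Polynomial.monic_of_natDegree_le_of_coeff_eq_one d
    ((Polynomial.natDegree_C_mul_le _ _).trans (natDegree_chi_le y)) ?_
  rw [Polynomial.coeff_C_mul, coeff_chi_top, ← mul_pow, neg_mul_neg, one_mul, one_pow]

theorem isIntegral_image : Algebra.IsIntegral A (PolLaw.image F.law) := by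
  refine ⟨fun x => ?_⟩
  obtain ⟨b, rfl⟩ := Ideal.Quotient.mk_surjective x
  refine ⟨_, monic_C_mul_chi (F := F) (1 ⊗ₜ[A] b), ?_⟩
  show Polynomial.aeval (Ideal.Quotient.mkₐ A _ b) _ = 0
  rw [Polynomial.aeval_algHom_apply, map_mul, Ideal.Quotient.mkₐ_eq_mk, Ideal.Quotient.eq_zero_iff_mem]
  exact Ideal.mul_mem_left _ _ (aeval_chi_mem_ker b)

end base

end Groth.Agent.GammaD
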