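import Groth.Agent.Lib.GammaD.DetProj26
import Groth.Agent.Lib.GammaD.Kernel2
import Mathlib.RingTheory.TotallySplit
import Mathlib.RingTheory.Norm.Basic

/-! # The norm law of a finite étale algebra -/

universe u

open scoped TensorProduct
open Polynomial

namespace Groth.Agent.GammaD.NormEtale

theorem norm_split {S C : Type u} [CommRing S] [CommRing C] [Algebra S C] {n : ℕ} (e : C ≃ₐ[S] (Fin n → S)) (z : C) :
    Algebra.norm S z = ∏ i, e z i := by
  classical
  rw [Algebra.norm_eq_matrix_det ((Pi.basisFun S (Fin n)).map e.symm.toLinearEquiv) z]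
  rw [show Algebra.leftMulMatrix ((Pi.basisFun S (Fin n)).map e.symm.toLinearEquiv) z = Matrix.diagonal (e z) from ?_,
    Matrix.det_diagonal]
  ext i j
  rw [Algebra.leftMulMatrix_eq_repr_mul, Module.Basis.map_apply, Module.Basis.map_repr, LinearEquiv.trans_apply,
    Pi.basisFun_repr]
  show e (z * e.symm (Pi.basisFun S (Fin n) j)) i = _
  rw [map_mul, AlgEquiv.apply_symm_apply, Pi.mul_apply, Pi.basisFun_apply, Matrix.diagonal_apply]
  by_cases h : i = j
  · subst h; simp
  · simp [h]

theorem connected_of_isLocalRing (R : Type u) [CommRing R] [IsLocalRing R] : ConnectedSpace (PrimeSpectrum R) := by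
  refine connectedSpace_iff_clopen.2 ⟨inferInstance, fun s hs => ?_⟩
  obtain ⟨e, he, rfl⟩ := PrimeSpectrum.isClopen_iff.1 hs
  rcases IsLocalRing.isUnit_or_isUnit_one_sub_self e with h | h
  · exact Or.inr (Set.eq_univ_of_forall fun q hq => q.2.ne_top (Ideal.eq_top_of_isUnit_mem _ hq h))
  · have h0 : e = 0 := h.mul_left_cancel (by rw [sub_mul, one_mul, he, sub_self, mul_zero])
    exact Or.inl (by rw [h0, PrimeSpectrum.basicOpen_zero]; rfl)

variable {A : Type u} [CommRing A] {B : Type u} [CommRing B] [Algebra A B] {d : ℕ}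

theorem prod_one_add {C : Type*} [CommRing C] {ι : Type*} [DecidableEq ι] (t : Finset ι) (a : C) (E : ι → C)
    (hE : ∀ i j, i ≠ j → E i * E j = 0) : ∏ i ∈ t, (1 + a * E i) = 1 + a * ∑ i ∈ t, E i := by
  induction t using Finset.induction_on with
  | empty => simp
  | insert i s hi ih =>
    rw [Finset.prod_insert hi, Finset.sum_insert hi, ih]
    have : E i * ∑ j ∈ s, E j = 0 := by
      rw [Finset.mul_sum]
      exact Finset.sum_eq_zero fun j hj => hE i j fun h => hi (h ▸ hj)
    linear_combination a * a * this

theorem split_eq (F : PolLaw.MulLaw A B A d) (hker : PolLaw.ker F.law ≤ nilradical B) {R : Type u} [CommRing R]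
    [IsLocalRing R] [Algebra A R] {n : ℕ} (e : R ⊗[A] B ≃ₐ[R] (Fin n → R)) (hnd : n = d) (x : R ⊗[A] B) :
    nv F R x = Algebra.norm R x := by
  classical
  let E : Fin n → R ⊗[A] B := fun i => e.symm (Pi.single i 1)
  have hEi : ∀ i j, E i * E j = if i = j then E i else 0 := fun i j => by
    refine e.injective ?_
    rw [map_mul, apply_ite e, map_zero, AlgEquiv.apply_symm_apply, AlgEquiv.apply_symm_apply]
    funext l
    by_cases hij : i = j
    · subst hij; by_cases hl : l = i <;> simp [hl]
    · rw [if_neg hij]; by_cases hl : l = i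
      · subst hl; simp [hij]
      · simp [hl]
  have hsum : ∑ i, E i = 1 := e.injective (by
    rw [map_sum, map_one]
    funext l
    simp [E, AlgEquiv.apply_symm_apply])
  -- the idempotents over an `R`-algebra
  let m : ∀ (R' : Type u) [CommRing R'] [Algebra A R'], (R →ₐ[A] R') → R ⊗[A] B →ₐ[A] R' ⊗[A] B :=
    fun R' _ _ φ => Algebra.TensorProduct.map φ (AlgHom.id A B)
  let P : Fin n → Polynomial R := fun i => nv F (Polynomial R)
    (1 + (Polynomial.X - 1 : Polynomial R) • m _ (IsScalarTower.toAlgHom A R (Polynomial R)) (E i))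
  have hmsm : ∀ {R' : Type u} [CommRing R'] [Algebra A R'] {R'' : Type u} [CommRing R''] [Algebra A R'']
      (g : R' →ₐ[A] R'') (s : R') (z : R' ⊗[A] B),
      Algebra.TensorProduct.map g (AlgHom.id A B) (s • z) = g s • Algebra.TensorProduct.map g (AlgHom.id A B) z :=
    fun g s z => by
      induction z using TensorProduct.induction_on with
      | zero => simp
      | tmul t b => simp [TensorProduct.smul_tmul']
      | add a b ha hb => simp only [smul_add, map_add, ha, hb]
  have hcomp : ∀ {R' : Type u} [CommRing R'] [Algebra A R'] {R'' : Type u} [CommRing R''] [Algebra A R'']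
      (g : R' →ₐ[A] R'') (φ : R →ₐ[A] R') (z : R ⊗[A] B),
      Algebra.TensorProduct.map g (AlgHom.id A B) (m R' φ z) = m R'' (g.comp φ) z := fun g φ z => by
    induction z using TensorProduct.induction_on with
    | zero => simp
    | tmul t b => simp [m]
    | add a b ha hb => simp only [map_add, ha, hb]
  have hP : ∀ (R' : Type u) [CommRing R'] [Algebra A R'] [Algebra R R'] [IsScalarTower A R R'] (s : R') (i : Fin n),
      nv F R' (1 + (s - 1) • m R' (IsScalarTower.toAlgHom A R R') (E i)) = aeval s (P i) := by
    intro R' _ _ _ _ s i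
    show _ = ((aeval s).restrictScalars A) (P i)
    rw [nv_compat, map_add, map_one, hmsm, hcomp]
    congr 4
    · show s - 1 = aeval s (Polynomial.X - 1)
      simp
    · exact congrArg (fun ψ => Algebra.TensorProduct.map ψ (AlgHom.id A B)) (AlgHom.ext fun r => (Polynomial.aeval_C (A := R') s r).symm)
  have hone : ∀ (R' : Type u) [CommRing R'] [Algebra A R'] (φ : R →ₐ[A] R') (i : Fin n) (s t : R'),
      (1 + (s - 1) • m R' φ (E i)) * (1 + (t - 1) • m R' φ (E i)) = 1 + (s * t - 1) • m R' φ (E i) := by
    intro R' _ _ φ i s t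
    have h : m R' φ (E i) * m R' φ (E i) = m R' φ (E i) := by rw [← map_mul, hEi, if_pos rfl]
    simp only [Algebra.smul_def, map_sub, map_one, map_mul]
    linear_combination (algebraMap R' (R' ⊗[A] B) s - 1) * (algebraMap R' (R' ⊗[A] B) t - 1) * h
  have hk : ∀ i, ∃ k, P i = Polynomial.X ^ k := fun i => by
    haveI := connected_of_isLocalRing R
    refine Split.eq_X_pow (P i) ?_ ?_
    · rw [← coe_aeval_eq_eval, ← hP, sub_self, zero_smul, add_zero, nv_one]
    · have hC : aeval (Polynomial.C Polynomial.X : Polynomial (Polynomial R)) (P i) = Polynomial.C (P i) := by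
        generalize P i = Q
        induction Q using Polynomial.induction_on with
        | C a => simp
        | add p q hp hq => rw [map_add, map_add, hp, hq]
        | monomial n a _ => simp
      rw [← hC, ← hP, ← hP, ← hP, ← nv_mul, hone]
  choose k hk using hk
  have hval : ∀ (R' : Type u) [CommRing R'] [Algebra A R'] [Algebra R R'] [IsScalarTower A R R'] (s : R') (i : Fin n),
      nv F R' (1 + (s - 1) • m R' (IsScalarTower.toAlgHom A R R') (E i)) = s ^ k i := fun R' _ _ _ _ s i => by
    rw [hP, hk, map_pow, aeval_X]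
  have hksum : ∑ i, k i = d := by
    have h := nv_smul (F := F) (Polynomial.X : Polynomial R) (1 : Polynomial R ⊗[A] B)
    have hprod : (Polynomial.X : Polynomial R) • (1 : Polynomial R ⊗[A] B) =
        ∏ i, (1 + ((Polynomial.X : Polynomial R) - 1) • m _ (IsScalarTower.toAlgHom A R (Polynomial R)) (E i)) := by
      rw [← Algebra.algebraMap_eq_smul_one]
      simp only [Algebra.smul_def]
      rw [prod_one_add Finset.univ _ _ (fun i j hij => by rw [← map_mul, hEi, if_neg hij, map_zero]), ← map_sum,
        hsum, map_one, mul_one, map_sub, map_one, add_sub_cancel]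
    have hnv : ∀ (t : Finset (Fin n)) (g : Fin n → Polynomial R ⊗[A] B),
        nv F (Polynomial R) (∏ i ∈ t, g i) = ∏ i ∈ t, nv F (Polynomial R) (g i) := fun t g => by
      induction t using Finset.induction_on with
      | empty => simp [nv_one]
      | insert i s hi ih => rw [Finset.prod_insert hi, Finset.prod_insert hi, nv_mul, ih]
    rw [hprod, hnv, nv_one, mul_one, Finset.prod_congr rfl fun i _ => hval (Polynomial R) Polynomial.X i,
      Finset.prod_pow_eq_pow_sum] at h
    simpa using congrArg natDegree h
  have hpos : ∀ i, k i ≠ 0 := by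
    intro i hki
    have hmem : E i ∈ PolLaw.kerBC F.law R := by
      refine mem_kerBC_iff.2 fun R' _ _ _ _ y w => ?_
      set E' := m R' (IsScalarTower.toAlgHom A R R') (E i) with hE'
      have hEE : E' * E' = E' := by rw [hE', ← map_mul, hEi, if_pos rfl]
      have hline : ∀ z : R' ⊗[A] B, ∃ c : R', z * E' = c • E' := by
        intro z
        induction z using TensorProduct.induction_on with
        | zero => exact ⟨0, by simp⟩
        | add a b ha hb =>
          obtain ⟨c, hc⟩ := ha
          obtain ⟨c', hc'⟩ := hb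
          exact ⟨c + c', by rw [add_mul, hc, hc', add_smul]⟩
        | tmul r b =>
          refine ⟨r * algebraMap R R' (e ((1 : R) ⊗ₜ[A] b) i), ?_⟩
          have h1 : ((1 : R) ⊗ₜ[A] b) * E i = e ((1 : R) ⊗ₜ[A] b) i • E i := by
            refine e.injective ?_
            rw [map_mul, map_smul, AlgEquiv.apply_symm_apply]
            funext l
            by_cases hl : l = i
            · subst hl; simp
            · simp [hl]
          have h2 := congrArg (m R' (IsScalarTower.toAlgHom A R R')) h1
          rw [map_mul, hmsm, Algebra.TensorProduct.map_tmul, map_one, ← hE', IsScalarTower.coe_toAlgHom'] at h2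
          rw [show r ⊗ₜ[A] b = r • ((1 : R') ⊗ₜ[A] b) by rw [TensorProduct.smul_tmul', smul_eq_mul, mul_one],
            smul_mul_assoc, ← smul_smul]
          exact congrArg (r • ·) h2
      have key : ∀ z : R' ⊗[A] B, nv F R' z = nv F R' (z * (1 - E') + E') := fun z => by
        obtain ⟨c, hc⟩ := hline z
        have hz : z = (z * (1 - E') + E') * (1 + (c - 1) • E') := by
          rw [sub_smul, one_smul, ← hc]
          linear_combination ((z - 1) ^ 2) * hEE
        conv_lhs => rw [hz, nv_mul, hval R' c i, hki, pow_zero, mul_one]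
      rw [key, key y]
      congr 1
      show (y + w * E') * (1 - E') + E' = _
      linear_combination (-w) * hEE
    have h1 : E i ∈ ((PolLaw.ker F.law).map
        (Algebra.TensorProduct.includeRight : B →ₐ[A] R ⊗[A] B)).radical := by
      rw [← radical_kerBC]; exact Ideal.le_radical hmem
    have h2 : ((PolLaw.ker F.law).map
        (Algebra.TensorProduct.includeRight : B →ₐ[A] R ⊗[A] B)).radical ≤ nilradical _ := by
      refine Ideal.radical_le_radical_iff.2 (Ideal.map_le_iff_le_comap.2 fun b hb => ?_)
      rw [Ideal.mem_comap]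
      exact (mem_nilradical.1 (hker hb)).map _
    obtain ⟨N, hN⟩ := h2 h1
    have hid : IsIdempotentElem (E i) := by rw [IsIdempotentElem, hEi, if_pos rfl]
    have h0 : E i = 0 := by rw [← IsIdempotentElem.pow_succ_eq N hid, pow_succ, hN, zero_mul]
    have := congrFun (congrArg e h0) i
    simp [E, AlgEquiv.apply_symm_apply] at this
  have hk1 : ∀ i, k i = 1 := by
    intro i
    have hle : ∀ j ∈ (Finset.univ : Finset (Fin n)), 1 ≤ k j := fun j _ => Nat.one_le_iff_ne_zero.2 (hpos j)
    have := (Finset.sum_eq_sum_iff_of_le hle).1 (by simp [hksum, hnd]) i (Finset.mem_univ i)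
    exact this.symm
  have hx : x = ∏ i, (1 + (e x i - 1) • E i) := by
    refine e.injective ?_
    rw [map_prod]
    funext l
    rw [Finset.prod_apply, Finset.prod_eq_single l (fun j _ hj => by simp [E, AlgEquiv.apply_symm_apply, hj.symm])
      (fun h => absurd (Finset.mem_univ l) h)]
    simp [E, AlgEquiv.apply_symm_apply]
  have hnv : ∀ (t : Finset (Fin n)) (g : Fin n → R ⊗[A] B),
      nv F R (∏ i ∈ t, g i) = ∏ i ∈ t, nv F R (g i) := fun t g => by
    induction t using Finset.induction_on with
    | empty => simp [nv_one]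
    | insert i s hi ih => rw [Finset.prod_insert hi, Finset.prod_insert hi, nv_mul, ih]
  conv_lhs => rw [hx, hnv]
  rw [norm_split e x]
  refine Finset.prod_congr rfl fun i _ => ?_
  have h := hval R (e x i) i
  rw [show m R (IsScalarTower.toAlgHom A R R) = AlgHom.id A _ from
    AlgHom.ext fun z => by
      induction z using TensorProduct.induction_on with
      | zero => simp
      | tmul t b => simp [m]
      | add a b ha hb => simp only [map_add, ha, hb], AlgHom.id_apply, hk1, pow_one] at h
  exact h

variable [Module.Free A B] [Module.Finite A B] [Algebra.Etale A B]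

theorem main (d : ℕ) (hd : Module.finrank A B = d) (N : PolLaw.MulLaw A B A d)
    (hN : ∀ (S : Type u) [CommRing S] [Algebra A S] (x : S ⊗[A] B),
      N.law.toFun' S x = Algebra.norm S x ⊗ₜ[A] (1 : A)) :
    PolLaw.ker N.law = ⊥ ∧
      ∀ F : PolLaw.MulLaw A B A d, PolLaw.ker F.law ≤ nilradical B → F = N := by
  classical
  cases subsingleton_or_nontrivial A
  · haveI : Subsingleton B := Module.subsingleton A B
    exact ⟨Subsingleton.elim _ _, fun F _ => PolLaw.MulLaw.ext (DetProj.law_ext _ _ fun S _ _ _ x => by
      haveI : Subsingleton (S ⊗[A] A) := Module.subsingleton A _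
      exact Subsingleton.elim _ _)⟩
  have hrank : Module.rankAtStalk (R := A) B = d := by
    rw [Module.rankAtStalk_eq_finrank_of_free, hd]
  obtain ⟨T, _, _, _, _, _, hsplit⟩ := Algebra.IsFiniteSplit.exists_tensorProduct_of_etale hrank
  have hnat : ∀ {S : Type u} [CommRing S] [Algebra A S] (x : S ⊗[A] B), nv N S x = Algebra.norm S x := fun x => by
    rw [nv, hN, Algebra.TensorProduct.rid_tmul, one_smul]
  constructor
  · refine (Submodule.eq_bot_iff _).2 fun b hb => ?_
    obtain ⟨n, ⟨e⟩⟩ := hsplit.nonempty_algEquiv_fun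
    have h0 : (1 : T) ⊗ₜ[A] b = 0 := by
      refine e.injective ?_
      rw [map_zero]
      funext i
      have h := mem_ker_iff.1 hb T (1 - e.symm (Pi.single i 1)) (e.symm (Pi.single i 1))
      rw [hnat, hnat, norm_split e, norm_split e, Finset.prod_eq_single i (fun j _ hj => by simp [hj])
        (fun h => absurd (Finset.mem_univ i) h), Finset.prod_eq_zero (Finset.mem_univ i) (by simp)] at h
      simpa using h
    exact Module.FaithfullyFlat.tensorProduct_mk_injective (A := A) (B := T) B (h0.trans (by simp))
  · intro F hF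
    refine PolLaw.MulLaw.ext (DetProj.law_ext _ _ fun S _ _ _ x => (Algebra.TensorProduct.rid A S S).injective ?_)
    show nv F S x = nv N S x
    refine Module.FaithfullyFlat.tensorProduct_mk_injective (A := A) (B := T) S
      (DetProj.eq_of_local (A := A) fun R _ _ _ φ => ?_)
    show (φ.comp (Algebra.TensorProduct.includeRight : S →ₐ[A] T ⊗[A] S)) _ =
      (φ.comp (Algebra.TensorProduct.includeRight : S →ₐ[A] T ⊗[A] S)) _
    rw [nv_compat, nv_compat, hnat]
    letI : Algebra T R := (φ.comp (Algebra.TensorProduct.includeLeft : T →ₐ[A] T ⊗[A] S)).toRingHom.toAlgebra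
    haveI : IsScalarTower A T R := IsScalarTower.of_algebraMap_eq fun a =>
      ((φ.comp (Algebra.TensorProduct.includeLeft : T →ₐ[A] T ⊗[A] S)).commutes a).symm
    haveI : Algebra.IsFiniteSplit R (R ⊗[A] B) :=
      Algebra.IsFiniteSplit.of_algEquiv (Algebra.TensorProduct.cancelBaseChange A T R R B)
    obtain ⟨n, ⟨e⟩⟩ := Algebra.IsFiniteSplit.nonempty_algEquiv_fun R (R ⊗[A] B)
    refine split_eq F hF e ?_ _
    have := e.toLinearEquiv.finrank_eq
    rw [Module.finrank_baseChange, hd, Module.finrank_fin_fun] at this
    exact this.symm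

end Groth.Agent.GammaD.NormEtale
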