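import Groth.Agent.Lib.GammaD.Split26
import Groth.Agent.Lib.GammaD.DetProj26
import Groth.Agent.Lib.GammaD.NormEtale26
import Mathlib.FieldTheory.SeparableClosure
import Mathlib.FieldTheory.SeparableDegree
import Mathlib.FieldTheory.PrimitiveElement
import Mathlib.FieldTheory.PurelyInseparable.Exponent
import Mathlib.FieldTheory.IsAlgClosed.AlgebraicClosure
import Mathlib.FieldTheory.Minpoly.Field
import Mathlib.Algebra.CharP.Lemmas
import Mathlib.Tactic.LinearCombination

/-! # Multiplicative laws on a finite field extension -/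

universe u

open scoped TensorProduct
open Polynomial

namespace Groth.Agent.GammaD.FieldLaw

variable {k : Type u} [Field k] {B : Type u} [Field B] [Algebra k B] (θ : B)

/-- Evaluation at an embedding. -/
noncomputable def ev {L : Type u} [CommRing L] [Algebra k L] (σ : B →ₐ[k] L) {S : Type u} [CommRing S] [Algebra k S]
    (f : L →ₐ[k] S) : S ⊗[k] B →ₐ[S] S :=
  Algebra.TensorProduct.lift (AlgHom.id S S) (f.comp σ) fun _ _ => Commute.all _ _

theorem ev_tmul {L : Type u} [CommRing L] [Algebra k L] (σ : B →ₐ[k] L) {S : Type u} [CommRing S] [Algebra k S]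
    (f : L →ₐ[k] S) (s : S) (b : B) : ev σ f (s ⊗ₜ[k] b) = s * f (σ b) := by
  simp [ev]

variable (k) in
/-- The idempotent of an embedding. -/
noncomputable def E {L : Type u} [Field L] [Algebra k L] (σ : B →ₐ[k] L) : L ⊗[k] B :=
  let q := (minpoly k θ).map (algebraMap k L) /ₘ (X - C (σ θ))
  (q.eval (σ θ))⁻¹ • aeval ((1 : L) ⊗ₜ[k] θ) q

theorem one_add_smul_mul {R T : Type*} [CommRing R] [CommRing T] [Algebra R T] {e : T} (he : e * e = e) (a b : R) :
    (1 + (a - 1) • e) * (1 + (b - 1) • e) = 1 + (a * b - 1) • e := by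
  simp only [Algebra.smul_def, map_sub, map_one, map_mul]
  linear_combination (algebraMap R T a - 1) * (algebraMap R T b - 1) * he

variable {θ} [FiniteDimensional k B] [Algebra.IsSeparable k B]

theorem q_mul {L : Type u} [Field L] [Algebra k L] (σ : B →ₐ[k] L) :
    (X - C (σ θ)) * ((minpoly k θ).map (algebraMap k L) /ₘ (X - C (σ θ))) = (minpoly k θ).map (algebraMap k L) := by
  refine mul_divByMonic_eq_iff_isRoot.2 ?_
  show ((minpoly k θ).map (algebraMap k L)).eval (σ θ) = 0
  rw [eval_map, ← aeval_def, aeval_algHom_apply, minpoly.aeval, map_zero]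

theorem eval_q_ne_zero {L : Type u} [Field L] [Algebra k L] (σ : B →ₐ[k] L) :
    ((minpoly k θ).map (algebraMap k L) /ₘ (X - C (σ θ))).eval (σ θ) ≠ 0 := by
  intro h0
  have hsep : ((minpoly k θ).map (algebraMap k L)).Separable := Polynomial.Separable.map (p := minpoly k θ) (Algebra.IsSeparable.isSeparable k θ)
  rw [← q_mul σ] at hsep
  have hd : (X - C (σ θ)) ∣ (minpoly k θ).map (algebraMap k L) /ₘ (X - C (σ θ)) := dvd_iff_isRoot.2 h0
  have := hsep.squarefree (X - C (σ θ)) (mul_dvd_mul_left _ hd)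
  exact not_isUnit_X_sub_C _ this

theorem mul_E (hθ : Algebra.adjoin k {θ} = ⊤) {L : Type u} [Field L] [Algebra k L] (σ : B →ₐ[k] L) (b : B) :
    ((1 : L) ⊗ₜ[k] b) * E k θ σ = σ b • E k θ σ := by
  have hb : b ∈ Algebra.adjoin k {θ} := hθ ▸ Algebra.mem_top
  induction hb using Algebra.adjoin_induction with
  | mem x hx =>
    obtain rfl : x = θ := hx
    have h := congrArg (aeval ((1 : L) ⊗ₜ[k] x)) (q_mul (θ := x) σ)
    rw [map_mul, aeval_map_algebraMap, show aeval ((1 : L) ⊗ₜ[k] x) (minpoly k x) = 0 by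
      rw [← Algebra.TensorProduct.includeRight_apply, aeval_algHom_apply, minpoly.aeval, map_zero],
      map_sub, aeval_X, aeval_C, sub_mul, sub_eq_zero] at h
    simp only [E, mul_smul_comm]
    rw [h, ← Algebra.smul_def, smul_comm]
  | algebraMap r =>
    rw [AlgHom.commutes, algebraMap_smul, Algebra.smul_def, Algebra.TensorProduct.algebraMap_apply,
      Algebra.algebraMap_eq_smul_one r, TensorProduct.tmul_smul, TensorProduct.smul_tmul',
      Algebra.algebraMap_eq_smul_one r]
  | add x y _ _ hx hy => rw [TensorProduct.tmul_add, add_mul, hx, hy, map_add, add_smul]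
  | mul x y _ _ hx hy =>
    rw [show (1 : L) ⊗ₜ[k] (x * y) = ((1 : L) ⊗ₜ[k] x) * ((1 : L) ⊗ₜ[k] y) by simp, mul_assoc, hy,
      mul_smul_comm, hx, smul_smul, map_mul, mul_comm]

variable (k θ) in
/-- The idempotent over an algebra. -/
noncomputable def ES {L : Type u} [Field L] [Algebra k L] (σ : B →ₐ[k] L) {S : Type u} [CommRing S] [Algebra k S]
    (f : L →ₐ[k] S) : S ⊗[k] B :=
  Algebra.TensorProduct.map f (AlgHom.id k B) (E k θ σ)

theorem map_smul_eq {S S' : Type u} [CommRing S] [Algebra k S] [CommRing S'] [Algebra k S'] (f : S →ₐ[k] S')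
    (s : S) (z : S ⊗[k] B) :
    Algebra.TensorProduct.map f (AlgHom.id k B) (s • z) = f s • Algebra.TensorProduct.map f (AlgHom.id k B) z := by
  induction z using TensorProduct.induction_on with
  | zero => simp
  | tmul t b => simp [TensorProduct.smul_tmul']
  | add a b ha hb => simp only [smul_add, map_add, ha, hb]

theorem mul_ES (hθ : Algebra.adjoin k {θ} = ⊤) {L : Type u} [Field L] [Algebra k L] (σ : B →ₐ[k] L)
    {S : Type u} [CommRing S] [Algebra k S] (f : L →ₐ[k] S) (y : S ⊗[k] B) :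
    y * ES k θ σ f = ev σ f y • ES k θ σ f := by
  induction y using TensorProduct.induction_on with
  | zero => simp
  | add a b ha hb => rw [add_mul, ha, hb, map_add, add_smul]
  | tmul s b =>
    rw [ev_tmul, mul_smul, show s ⊗ₜ[k] b = s • ((1 : S) ⊗ₜ[k] b) by simp [TensorProduct.smul_tmul'], smul_mul_assoc]
    congr 1
    have h := congrArg (Algebra.TensorProduct.map f (AlgHom.id k B)) (mul_E hθ σ b)
    rw [map_mul, map_smul_eq, Algebra.TensorProduct.map_tmul, map_one, AlgHom.id_apply] at h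
    exact h

theorem ev_map {L : Type u} [CommRing L] [Algebra k L] (σ : B →ₐ[k] L) {S S' : Type u} [CommRing S] [Algebra k S]
    [CommRing S'] [Algebra k S'] (f : L →ₐ[k] S) (g : S →ₐ[k] S') (z : S ⊗[k] B) :
    ev σ (g.comp f) (Algebra.TensorProduct.map g (AlgHom.id k B) z) = g (ev σ f z) := by
  induction z using TensorProduct.induction_on with
  | zero => simp
  | tmul t b => simp [ev_tmul]
  | add a b ha hb => simp only [map_add, ha, hb]

theorem hom_ext_gen (hθ : Algebra.adjoin k {θ} = ⊤) {L : Type u} [CommRing L] [Algebra k L] {σ τ : B →ₐ[k] L}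
    (h : σ θ = τ θ) : σ = τ :=
  AlgHom.ext_of_adjoin_eq_top hθ fun x hx => by rw [Set.mem_singleton_iff.1 hx, h]

open scoped Classical in
theorem ev_ES (hθ : Algebra.adjoin k {θ} = ⊤) {L L' : Type u} [Field L] [Algebra k L] [Field L'] [Algebra k L']
    (σ : B →ₐ[k] L) (τ : B →ₐ[k] L') (ψ : L →ₐ[k] L') {S : Type u} [CommRing S] [Algebra k S] (f : L' →ₐ[k] S) :
    ev τ f (ES k θ σ (f.comp ψ)) = if τ = ψ.comp σ then 1 else 0 := by
  have hcomp : ES k θ σ (f.comp ψ) = Algebra.TensorProduct.map f (AlgHom.id k B) (ES k θ σ ψ) := by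
    rw [ES, ES, ← AlgHom.comp_apply, ← Algebra.TensorProduct.map_comp, AlgHom.id_comp]
  have hh := ev_map τ (AlgHom.id k L') f (ES k θ σ ψ)
  rw [AlgHom.comp_id] at hh
  rw [hcomp, hh]
  rw [show (if τ = ψ.comp σ then (1 : S) else 0) = f (if τ = ψ.comp σ then (1 : L') else 0) by
    split_ifs <;> simp]
  congr 1
  set q := (minpoly k θ).map (algebraMap k L) /ₘ (X - C (σ θ)) with hq
  have hmap : ev τ (AlgHom.id k L') (ES k θ σ ψ) = ψ (q.eval (σ θ))⁻¹ * (q.map ψ.toRingHom).eval (τ θ) := by
    rw [ES, E, map_smul_eq, map_smul, smul_eq_mul]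
    congr 1
    rw [eval_map]
    simp only [← hq]
    generalize q = Q
    induction Q using Polynomial.induction_on' with
    | add a b ha hb => rw [map_add, map_add, map_add, ha, hb, eval₂_add]
    | monomial n a =>
      rw [aeval_monomial, Algebra.TensorProduct.algebraMap_apply, Algebra.algebraMap_self, RingHom.id_apply,
        Algebra.TensorProduct.tmul_pow, one_pow, Algebra.TensorProduct.tmul_mul_tmul, mul_one, one_mul,
        Algebra.TensorProduct.map_tmul, ev_tmul, eval₂_monomial]
      simp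
  rw [hmap]
  by_cases h : τ = ψ.comp σ
  · rw [if_pos h, h]
    show ψ (q.eval (σ θ))⁻¹ * (q.map ψ.toRingHom).eval (ψ.toRingHom (σ θ)) = 1
    rw [eval_map, eval₂_at_apply]
    show ψ (q.eval (σ θ))⁻¹ * ψ (q.eval (σ θ)) = 1
    rw [← map_mul, inv_mul_cancel₀ (eval_q_ne_zero σ), map_one]
  · rw [if_neg h]
    refine mul_eq_zero_of_right _ ?_
    have h1 : (((minpoly k θ).map (algebraMap k L)).map ψ.toRingHom).eval (τ θ) = 0 := by
      rw [Polynomial.map_map, show ψ.toRingHom.comp (algebraMap k L) = algebraMap k L' from ψ.comp_algebraMap,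
        eval_map, ← aeval_def, aeval_algHom_apply, minpoly.aeval, map_zero]
    rw [← q_mul σ, Polynomial.map_mul, eval_mul, Polynomial.map_sub, map_X, map_C, eval_sub, eval_X, eval_C] at h1
    refine (mul_eq_zero.1 h1).resolve_left fun h2 => h (hom_ext_gen hθ ?_)
    exact sub_eq_zero.1 h2

theorem ES_idem (hθ : Algebra.adjoin k {θ} = ⊤) {L : Type u} [Field L] [Algebra k L] (σ : B →ₐ[k] L)
    {S : Type u} [CommRing S] [Algebra k S] (f : L →ₐ[k] S) : ES k θ σ f * ES k θ σ f = ES k θ σ f := by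
  classical
  have h := ev_ES hθ σ σ (AlgHom.id k L) f
  rw [AlgHom.comp_id, AlgHom.id_comp, if_pos rfl] at h
  rw [mul_ES hθ, h, one_smul]

theorem exists_exp (hθ : Algebra.adjoin k {θ} = ⊤) {d : ℕ} (G : PolLaw.MulLaw k B k d) {L : Type u} [Field L]
    [Algebra k L] (σ : B →ₐ[k] L) :
    ∃ m : ℕ, ∀ (S : Type u) [CommRing S] [Algebra k S] (f : L →ₐ[k] S) (s : S),
      nv G S (1 + (s - 1) • ES k θ σ f) = s ^ m := by
  let cC : L →ₐ[k] Polynomial L := IsScalarTower.toAlgHom k L (Polynomial L)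
  let P : Polynomial L := nv G (Polynomial L) (1 + ((X : Polynomial L) - 1) • ES k θ σ cC)
  have hP : ∀ (S : Type u) [CommRing S] [Algebra k S] (f : L →ₐ[k] S) (s : S),
      nv G S (1 + (s - 1) • ES k θ σ f) = P.eval₂ f.toRingHom s := by
    intro S _ _ f s
    letI : Algebra L S := f.toRingHom.toAlgebra
    haveI : IsScalarTower k L S := IsScalarTower.of_algebraMap_eq fun x => (f.commutes x).symm
    show _ = ((aeval s).restrictScalars k) P
    rw [nv_compat, map_add, map_one, map_smul_eq]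
    congr 3
    · show s - 1 = aeval s (X - 1 : Polynomial L)
      simp
    · rw [ES, ES, ← AlgHom.comp_apply, ← Algebra.TensorProduct.map_comp, AlgHom.id_comp]
      congr 2
      exact AlgHom.ext fun r => (Polynomial.aeval_C (A := S) s r).symm
  haveI : ConnectedSpace (PrimeSpectrum L) := NormEtale.connected_of_isLocalRing L
  obtain ⟨m, hm⟩ := Split.eq_X_pow P (by
      show P.eval₂ (AlgHom.id k L).toRingHom 1 = 1
      rw [← hP L (AlgHom.id k L) 1, sub_self, zero_smul, add_zero, nv_one]) (by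
      let cCC : L →ₐ[k] Polynomial (Polynomial L) := IsScalarTower.toAlgHom k L (Polynomial (Polynomial L))
      have h : ∀ s : Polynomial (Polynomial L), aeval s P =
          nv G (Polynomial (Polynomial L)) (1 + (s - 1) • ES k θ σ cCC) := fun s => (hP _ cCC s).symm
      have hC : aeval (C X : Polynomial (Polynomial L)) P = C P := by
        generalize P = Q
        induction Q using Polynomial.induction_on with
        | C a => simp
        | add p q hp hq => rw [map_add, map_add, hp, hq]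
        | monomial n a _ => simp
      rw [← hC, h, h, h, ← nv_mul]
      congr 1
      exact (one_add_smul_mul (ES_idem hθ σ cCC) _ _).symm)
  exact ⟨m, fun S _ _ f s => by rw [hP, hm, eval₂_X_pow]⟩

section closed

variable (Ω : Type u) [Field Ω] [Algebra k Ω] [IsAlgClosed Ω]

theorem card_emb : Fintype.card (B →ₐ[k] Ω) = Module.finrank k B := AlgHom.card k B Ω

theorem sum_ES (hθ : Algebra.adjoin k {θ} = ⊤) {S : Type u} [CommRing S] [Algebra k S] (f : Ω →ₐ[k] S) :
    ∑ σ : B →ₐ[k] Ω, ES k θ σ f = 1 := by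
  classical
  suffices h : ∑ σ : B →ₐ[k] Ω, ES k θ σ (AlgHom.id k Ω) = 1 by
    have := congrArg (Algebra.TensorProduct.map f (AlgHom.id k B)) h
    rw [map_sum, map_one] at this
    rw [← this]
    refine Finset.sum_congr rfl fun σ _ => ?_
    rw [ES, ES, ← AlgHom.comp_apply, ← Algebra.TensorProduct.map_comp, AlgHom.id_comp, AlgHom.comp_id]
  set D := ∑ σ : B →ₐ[k] Ω, ES k θ σ (AlgHom.id k Ω) - 1 with hD
  suffices D = 0 from sub_eq_zero.1 this
  have hev : ∀ τ : B →ₐ[k] Ω, ev τ (AlgHom.id k Ω) D = 0 := by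
    intro τ
    rw [map_sub, map_sum, map_one, Finset.sum_eq_single τ, sub_eq_zero]
    · have h := ev_ES hθ τ τ (AlgHom.id k Ω) (AlgHom.id k Ω)
      rwa [AlgHom.id_comp, AlgHom.id_comp, if_pos rfl] at h
    · intro σ _ hσ
      have h := ev_ES hθ σ τ (AlgHom.id k Ω) (AlgHom.id k Ω)
      rwa [AlgHom.id_comp, AlgHom.id_comp, if_neg (Ne.symm hσ)] at h
    · exact fun hn => absurd (Finset.mem_univ τ) hn
  have hint : IsIntegral k θ := IsIntegral.of_finite k θ
  obtain ⟨P, hPdeg, hP⟩ : ∃ P : Polynomial Ω, P.natDegree < (minpoly k θ).natDegree ∧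
      D = aeval ((1 : Ω) ⊗ₜ[k] θ) P := by
    have hex : ∀ z : Ω ⊗[k] B, ∃ P : Polynomial Ω, z = aeval ((1 : Ω) ⊗ₜ[k] θ) P := by
      intro z
      induction z using TensorProduct.induction_on with
      | zero => exact ⟨0, by simp⟩
      | add a b ha hb =>
        obtain ⟨P, rfl⟩ := ha; obtain ⟨Q, rfl⟩ := hb
        exact ⟨P + Q, by rw [map_add]⟩
      | tmul c b =>
        have hb : b ∈ Algebra.adjoin k {θ} := hθ ▸ Algebra.mem_top
        rw [Algebra.adjoin_singleton_eq_range_aeval] at hb
        obtain ⟨Q, rfl⟩ := hb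
        refine ⟨C c * Q.map (algebraMap k Ω), ?_⟩
        rw [map_mul, aeval_C, aeval_map_algebraMap, ← Algebra.TensorProduct.includeRight_apply, aeval_algHom_apply,
          Algebra.TensorProduct.includeRight_apply, Algebra.TensorProduct.algebraMap_apply,
          Algebra.TensorProduct.tmul_mul_tmul, mul_one, one_mul]
        rfl
    obtain ⟨P0, hP0⟩ := hex D
    have hm : ((minpoly k θ).map (algebraMap k Ω)).Monic := (minpoly.monic hint).map _
    refine ⟨P0 %ₘ (minpoly k θ).map (algebraMap k Ω), ?_, ?_⟩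
    · have := natDegree_modByMonic_lt P0 hm (fun h1 => by
        have := congrArg natDegree h1
        rw [natDegree_map, natDegree_one] at this
        exact (minpoly.natDegree_pos hint).ne' this)
      rwa [natDegree_map] at this
    · conv_lhs => rw [hP0, ← modByMonic_add_div P0 ((minpoly k θ).map (algebraMap k Ω))]
      rw [map_add, map_mul, aeval_map_algebraMap, show aeval ((1 : Ω) ⊗ₜ[k] θ) (minpoly k θ) = 0 by
        rw [← Algebra.TensorProduct.includeRight_apply, aeval_algHom_apply, minpoly.aeval, map_zero], zero_mul, add_zero]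
  suffices P = 0 by rw [hP, this, map_zero]
  refine eq_zero_of_natDegree_lt_card_of_eval_eq_zero P (f := fun τ : B →ₐ[k] Ω => τ θ)
    (fun σ τ h => hom_ext_gen hθ h) (fun τ => ?_) ?_
  · have h := hev τ
    rw [hP, ← aeval_algHom_apply, ev_tmul, one_mul] at h
    simpa [aeval_def, eval₂_eq_eval_map, Polynomial.map_id] using h
  · rw [card_emb]
    refine hPdeg.trans_le ?_
    exact minpoly.natDegree_le θ

theorem nv_prod {d : ℕ} {B' : Type u} [CommRing B'] [Algebra k B'] (G : PolLaw.MulLaw k B' k d) {S : Type u}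
    [CommRing S] [Algebra k S] {ι : Type*} (t : Finset ι) (g : ι → S ⊗[k] B') :
    nv G S (∏ i ∈ t, g i) = ∏ i ∈ t, nv G S (g i) := by
  classical
  induction t using Finset.induction_on with
  | empty => simp [nv_one]
  | insert i s hi ih => rw [Finset.prod_insert hi, Finset.prod_insert hi, nv_mul, ih]

theorem law_formula (hθ : Algebra.adjoin k {θ} = ⊤) {d : ℕ} (G : PolLaw.MulLaw k B k d) :
    ∃ m : ℕ, Module.finrank k B * m = d ∧
      ∀ (S : Type u) [CommRing S] [Algebra k S] (f : Ω →ₐ[k] S) (x : S ⊗[k] B),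
        nv G S x = ∏ σ : B →ₐ[k] Ω, ev σ f x ^ m := by
  classical
  choose kk hkk using fun σ : B →ₐ[k] Ω => exists_exp hθ G σ
  have hform : ∀ (S : Type u) [CommRing S] [Algebra k S] (f : Ω →ₐ[k] S) (x : S ⊗[k] B),
      nv G S x = ∏ σ : B →ₐ[k] Ω, ev σ f x ^ kk σ := by
    intro S _ _ f x
    have horth : ∀ σ τ : B →ₐ[k] Ω, σ ≠ τ → ES k θ σ f * ES k θ τ f = 0 := by
      intro σ τ hne
      rw [mul_ES hθ]
      have h := ev_ES hθ σ τ (AlgHom.id k Ω) f
      rw [AlgHom.comp_id, AlgHom.id_comp, if_neg (Ne.symm hne)] at h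
      rw [h, zero_smul]
    have hprod : ∀ t : Finset (B →ₐ[k] Ω), ∏ σ ∈ t, (1 + (ev σ f x - 1) • ES k θ σ f) =
        1 + ∑ σ ∈ t, (ev σ f x - 1) • ES k θ σ f := by
      intro t
      induction t using Finset.induction_on with
      | empty => simp
      | @insert i s hi ih =>
        rw [Finset.prod_insert hi, Finset.sum_insert hi, ih, add_mul, one_mul, mul_add, mul_one, Finset.mul_sum,
          Finset.sum_eq_zero (f := fun j => (ev i f x - 1) • ES k θ i f * (ev j f x - 1) • ES k θ j f) fun j hj => by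
            rw [smul_mul_smul_comm, horth i j (fun h => hi (h ▸ hj)), smul_zero]]
        abel
    have hx : x = ∏ σ : B →ₐ[k] Ω, (1 + (ev σ f x - 1) • ES k θ σ f) := by
      rw [hprod]
      simp only [sub_smul, one_smul, ← mul_ES hθ, Finset.sum_sub_distrib, ← Finset.mul_sum, sum_ES Ω hθ, mul_one]
      abel
    conv_lhs => rw [hx]
    rw [nv_prod]
    exact Finset.prod_congr rfl fun σ _ => hkk σ S f _
  -- read the exponents on `X - θ`
  let cC : Ω →ₐ[k] Polynomial Ω := IsScalarTower.toAlgHom k Ω (Polynomial Ω)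
  let χ : Polynomial k := nv G (Polynomial k) ((X : Polynomial k) ⊗ₜ[k] (1 : B) - (1 : Polynomial k) ⊗ₜ[k] θ)
  let mp : Polynomial k →ₐ[k] Polynomial Ω := Polynomial.mapAlgHom (IsScalarTower.toAlgHom k k Ω)
  have hχ : χ.map (algebraMap k Ω) = ∏ σ : B →ₐ[k] Ω, (X - C (σ θ)) ^ kk σ := by
    show mp χ = _
    rw [nv_compat, hform _ cC]
    refine Finset.prod_congr rfl fun σ _ => ?_
    congr 1
    rw [map_sub, Algebra.TensorProduct.map_tmul, Algebra.TensorProduct.map_tmul]
    simp only [map_one, AlgHom.id_apply, map_sub, ev_tmul, mul_one, one_mul]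
    simp [mp, cC]
  have hconst : ∀ σ τ, kk σ = kk τ := by
    intro σ₀ τ₀
    have hint : IsIntegral k θ := IsIntegral.of_finite k θ
    have hirr := minpoly.irreducible hint
    have hroot : ∀ σ : B →ₐ[k] Ω, rootMultiplicity (σ θ) (χ.map (algebraMap k Ω)) = kk σ := by
      intro σ
      rw [hχ, ← Finset.mul_prod_erase _ _ (Finset.mem_univ σ)]
      have hne : ((X - C (σ θ)) ^ kk σ * ∏ τ ∈ Finset.univ.erase σ, (X - C (τ θ)) ^ kk τ : Polynomial Ω) ≠ 0 :=
        mul_ne_zero (pow_ne_zero _ (X_sub_C_ne_zero _))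
          (Finset.prod_ne_zero_iff.2 fun τ _ => pow_ne_zero _ (X_sub_C_ne_zero _))
      rw [rootMultiplicity_mul hne, rootMultiplicity_X_sub_C_pow, rootMultiplicity_eq_zero, add_zero]
      rw [IsRoot, eval_prod, Finset.prod_eq_zero_iff]
      rintro ⟨τ, hτ, h0⟩
      rw [eval_pow, eval_sub, eval_X, eval_C] at h0
      exact Finset.ne_of_mem_erase hτ (hom_ext_gen hθ (sub_eq_zero.1 (pow_eq_zero_iff'.1 h0).1)).symm
    have hχ0 : χ ≠ 0 := fun h0 => by
      rw [h0, Polynomial.map_zero, eq_comm, Finset.prod_eq_zero_iff] at hχ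
      obtain ⟨τ, -, hτ⟩ := hχ
      exact X_sub_C_ne_zero _ (pow_eq_zero_iff'.1 hτ).1
    obtain ⟨n, χ', hn, hndvd⟩ : ∃ (n : ℕ) (χ' : Polynomial k), χ = minpoly k θ ^ n * χ' ∧ ¬ minpoly k θ ∣ χ' := by
      obtain ⟨χ', heq, hnd⟩ := (FiniteMultiplicity.of_prime_left hirr.prime hχ0).exists_eq_pow_mul_and_not_dvd
      exact ⟨_, χ', heq, hnd⟩
    have hall : ∀ σ : B →ₐ[k] Ω, kk σ = n := by
      intro σ
      have h2 : ¬ (χ'.map (algebraMap k Ω)).IsRoot (σ θ) := by
        intro hr
        refine hndvd ?_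
        rw [IsRoot, eval_map, ← aeval_def] at hr
        rw [show minpoly k θ = minpoly k (σ θ) from (minpoly.algHom_eq σ σ.injective θ).symm]
        exact minpoly.dvd k _ hr
      have hsep : ((minpoly k θ).map (algebraMap k Ω)).Separable := Polynomial.Separable.map (p := minpoly k θ) (Algebra.IsSeparable.isSeparable k θ)
      have hm0 : (minpoly k θ).map (algebraMap k Ω) ≠ 0 := hsep.ne_zero
      have h1 : rootMultiplicity (σ θ) ((minpoly k θ).map (algebraMap k Ω)) = 1 := by
        refine le_antisymm (rootMultiplicity_le_one_of_separable hsep _) ?_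
        refine (rootMultiplicity_pos hm0).2 ?_
        show ((minpoly k θ).map (algebraMap k Ω)).eval (σ θ) = 0
        rw [eval_map, ← aeval_def, aeval_algHom_apply, minpoly.aeval, map_zero]
      rw [← hroot σ, hn, Polynomial.map_mul, Polynomial.map_pow,
        rootMultiplicity_mul (mul_ne_zero (pow_ne_zero _ hm0) fun h0 => h2 (by rw [h0]; exact eval_zero)),
        rootMultiplicity_eq_zero h2, add_zero]
      have hp : ∀ j, rootMultiplicity (σ θ) ((minpoly k θ).map (algebraMap k Ω) ^ j) = j := by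
        intro j
        induction j with
        | zero => simp
        | succ j ih => rw [pow_succ, rootMultiplicity_mul (mul_ne_zero (pow_ne_zero _ hm0) hm0), ih, h1]
      exact hp n
    rw [hall, hall]
  obtain ⟨σ₀⟩ : Nonempty (B →ₐ[k] Ω) := ⟨IsAlgClosed.lift⟩
  refine ⟨kk σ₀, ?_, fun S _ _ f x => by rw [hform S f x]; exact Finset.prod_congr rfl fun σ _ => by rw [hconst σ σ₀]⟩
  have h := hform (Polynomial Ω) cC ((X : Polynomial Ω) • (1 : Polynomial Ω ⊗[k] B))
  rw [nv_smul, nv_one, mul_one] at h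
  simp only [map_smul, map_one, smul_eq_mul, mul_one, Finset.prod_pow_eq_pow_sum] at h
  have := congrArg natDegree h
  simp only [natDegree_X_pow, Finset.sum_congr rfl fun σ _ => hconst σ σ₀, Finset.sum_const, Finset.card_univ,
    card_emb, smul_eq_mul] at this
  exact this.symm

end closed

end Groth.Agent.GammaD.FieldLaw
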