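import Groth.Agent.Lib.GammaD.FieldLaw26
import Mathlib.FieldTheory.PurelyInseparable.Basic

/-! # Multiplicative laws on a finite field extension: the main theorem -/

universe u

open scoped TensorProduct
open Polynomial

namespace Groth.Agent.GammaD.FieldLaw

variable {k : Type u} [Field k] {K : Type u} [Field K] [Algebra k K]

theorem add_pow_q {R : Type*} [CommSemiring R] (p : ℕ) (hp : p.Prime ∧ (p : R) = 0 ∨ p = 1) (j : ℕ) (x y : R) :
    (x + y) ^ p ^ j = x ^ p ^ j + y ^ p ^ j := by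
  rcases hp with ⟨hp, h0⟩ | rfl
  · obtain ⟨r, hr⟩ := exists_add_pow_prime_pow_eq hp x y j
    rw [hr, h0, zero_mul, zero_mul, zero_mul, add_zero]
  · simp

theorem idem_pow_q {R : Type*} [CommRing R] (p : ℕ) (hp : p.Prime ∧ (p : R) = 0 ∨ p = 1) (j : ℕ) (y e : R)
    (he : e * e = e) : (1 + (y - 1) * e) ^ p ^ j = 1 + (y ^ p ^ j - 1) * e := by
  have hpos : 0 < p ^ j := by
    rcases hp with ⟨hp, -⟩ | rfl
    · exact pow_pos hp.pos j
    · simp
  have hn : ∀ n : ℕ, 0 < n → e ^ n = e := by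
    intro n hn
    induction n with
    | zero => omega
    | succ n ih =>
      rcases Nat.eq_zero_or_pos n with rfl | h
      · simp
      · rw [pow_succ, ih h, he]
  have h2 := add_pow_q p hp j (y - 1) 1
  rw [sub_add_cancel, one_pow] at h2
  rw [add_pow_q p hp, one_pow, mul_pow, hn _ hpos, h2, add_sub_cancel_right]

theorem one_add_map {R R' : Type*} [CommRing R] [CommRing R'] (f : R →+* R') (u e : R) :
    1 + (f u - 1) * f e = f (1 + (u - 1) * e) := by
  rw [map_add, map_mul, map_sub, map_one]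

theorem char_cases (p : ℕ) [ExpChar k p] (R : Type*) [CommSemiring R] [Algebra k R] :
    p.Prime ∧ (p : R) = 0 ∨ p = 1 := by
  rcases ‹ExpChar k p› with _ | ⟨hp⟩
  · exact Or.inr rfl
  · refine Or.inl ⟨hp, ?_⟩
    rw [← map_natCast (algebraMap k R), CharP.cast_eq_zero k p, map_zero]

theorem eq_of_pow_eq {R : Type*} [CommRing R] [IsDomain R] [Algebra k R] (p : ℕ) [ExpChar k p] (j : ℕ) {a b : R}
    (h : a ^ p ^ j = b ^ p ^ j) : a = b := by
  have h2 := add_pow_q p (char_cases (k := k) p R) j (a - b) b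
  rw [sub_add_cancel, h] at h2
  have h3 : (a - b) ^ p ^ j = 0 := by simpa using h2.symm
  exact sub_eq_zero.1 (pow_eq_zero_iff'.1 h3).1

variable [FiniteDimensional k K]

theorem exists_pow_mem (p : ℕ) [ExpChar k p] : ∃ s, ∀ x : K, x ^ p ^ s ∈ separableClosure k K := by
  haveI : ExpChar (separableClosure k K) p :=
    expChar_of_injective_algebraMap (algebraMap k (separableClosure k K)).injective p
  haveI : IsPurelyInseparable (separableClosure k K) K := separableClosure.isPurelyInseparable k K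
  haveI : IsPurelyInseparable.HasExponent (separableClosure k K) K := inferInstance
  refine ⟨IsPurelyInseparable.exponent (separableClosure k K) K, fun x => ?_⟩
  obtain ⟨y, hy⟩ := IsPurelyInseparable.exponent_def' (separableClosure k K) p x
  rw [← hy]
  exact y.2

theorem exists_eq_pow (p : ℕ) [ExpChar k p] (e : ℕ) (he : 0 < e) (hexp : ∀ x : K, x ^ e ∈ separableClosure k K)
    (hmin : ∀ n : ℕ, 0 < n → (∀ x : K, x ^ n ∈ separableClosure k K) → e ≤ n) :
    ∃ j, e = p ^ j := by
  obtain ⟨s, hs⟩ := exists_pow_mem (k := k) (K := K) p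
  have hg : e = Nat.gcd e (p ^ s) := by
    refine le_antisymm (hmin _ (Nat.gcd_pos_of_pos_left _ he) fun x => ?_) (Nat.le_of_dvd he (Nat.gcd_dvd_left _ _))
    by_cases hx : x = 0
    · rw [hx, zero_pow (Nat.gcd_pos_of_pos_left _ he).ne']
      exact zero_mem _
    · rw [← zpow_natCast, Nat.gcd_eq_gcd_ab, zpow_add₀ hx, zpow_mul, zpow_mul, zpow_natCast, zpow_natCast]
      exact mul_mem (zpow_mem (hexp x) _) (zpow_mem (hs x) _)
  have hdvd : e ∣ p ^ s := hg ▸ Nat.gcd_dvd_right _ _
  rcases char_cases (k := k) p k with ⟨hp, -⟩ | rfl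
  · obtain ⟨j, -, hj⟩ := (Nat.dvd_prime_pow hp).1 hdvd
    exact ⟨j, hj⟩
  · exact ⟨0, by simpa using hdvd⟩

section frob

variable (p j : ℕ) [ExpChar k p] (hexp : ∀ x : K, x ^ p ^ j ∈ separableClosure k K)

include hexp in
theorem exists_w (S : Type u) [CommSemiring S] [Algebra k S] (x : S ⊗[k] K) :
    ∃ w : S ⊗[k] separableClosure k K, (separableClosure k K).val.toLinearMap.lTensor S w = x ^ p ^ j := by
  induction x using TensorProduct.induction_on with
  | zero =>
    refine ⟨0, ?_⟩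
    rw [map_zero, zero_pow]
    rcases char_cases (k := k) p k with ⟨hp, -⟩ | rfl
    · exact (pow_pos hp.pos j).ne'
    · simp
  | tmul s b =>
    refine ⟨(s ^ p ^ j) ⊗ₜ[k] ⟨b ^ p ^ j, hexp b⟩, ?_⟩
    rw [Algebra.TensorProduct.tmul_pow, LinearMap.lTensor_tmul]
    rfl
  | add a b ha hb =>
    obtain ⟨u, hu⟩ := ha; obtain ⟨v, hv⟩ := hb
    exact ⟨u + v, by rw [map_add, hu, hv, add_pow_q p (char_cases (k := k) p _)]⟩

theorem lTensor_val_injective (S : Type u) [CommSemiring S] [Algebra k S] :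
    Function.Injective ((separableClosure k K).val.toLinearMap.lTensor S) := by
  letI : CommRing S := { Algebra.semiringToRing k with mul_comm := mul_comm }
  exact Module.Flat.lTensor_preserves_injective_linearMap _ Subtype.val_injective

end frob

theorem nv_precomp {B : Type u} [CommRing B] [Algebra k B] {B' : Type u} [CommRing B'] [Algebra k B'] {d : ℕ}
    (F : PolLaw.MulLaw k B k d) (f : B' →ₐ[k] B) (S : Type u) [CommSemiring S] [Algebra k S] (w : S ⊗[k] B') :
    nv (F.precomp f) S w = nv F S (f.toLinearMap.lTensor S w) := rfl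

theorem nv_pow {B : Type u} [CommRing B] [Algebra k B] {d : ℕ} (F : PolLaw.MulLaw k B k d) (S : Type u) [CommSemiring S]
    [Algebra k S] (x : S ⊗[k] B) : ∀ n : ℕ, nv F S (x ^ n) = nv F S x ^ n
  | 0 => by rw [pow_zero, pow_zero, nv_one]
  | n + 1 => by rw [pow_succ, pow_succ, nv_mul, nv_pow F S x n]

theorem nv_pow_eq {p j : ℕ} [ExpChar k p] (hexp : ∀ x : K, x ^ p ^ j ∈ separableClosure k K) {d : ℕ}
    (F : PolLaw.MulLaw k K k d) (S : Type u) [CommSemiring S] [Algebra k S] (x : S ⊗[k] K) :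
    nv F S x ^ p ^ j = nv (F.precomp (separableClosure k K).val) S (exists_w p j hexp S x).choose := by
  rw [nv_precomp, (exists_w p j hexp S x).choose_spec, nv_pow]

theorem map_step {B' : Type u} [CommRing B'] [Algebra k B'] {C : Type u} [CommRing C] [Algebra k C] {d : ℕ}
    (F : PolLaw.MulLaw k C k d) (f : B' →ₐ[k] C) (S : Type u) [CommRing S] [Algebra k S] (u e : S ⊗[k] B') :
    nv F S (1 + (Algebra.TensorProduct.map (AlgHom.id S S) f u - 1) * Algebra.TensorProduct.map (AlgHom.id S S) f e) =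
      nv (F.precomp f) S (1 + (u - 1) * e) := by
  rw [nv_precomp, PolLaw.lTensor_algHom_apply, map_add, map_mul, map_sub, map_one]

theorem idem_map {B' : Type u} [CommRing B'] [Algebra k B'] {C : Type u} [CommRing C] [Algebra k C]
    (f : B' →ₐ[k] C) (S : Type u) [CommRing S] [Algebra k S] (e : S ⊗[k] B') (he : e * e = e) :
    Algebra.TensorProduct.map (AlgHom.id S S) f e * Algebra.TensorProduct.map (AlgHom.id S S) f e =
      Algebra.TensorProduct.map (AlgHom.id S S) f e := by
  rw [← map_mul, he]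

theorem law_unique {p j : ℕ} [ExpChar k p] (hexp : ∀ x : K, x ^ p ^ j ∈ separableClosure k K) {d : ℕ}
    (F F' : PolLaw.MulLaw k K k d) : F.law = F'.law := by
  classical
  obtain ⟨θ, hθ⟩ := Field.exists_primitive_element k (separableClosure k K)
  have hθ' : Algebra.adjoin k {θ} = ⊤ := by
    rw [← IntermediateField.adjoin_simple_toSubalgebra_of_isAlgebraic (Algebra.IsAlgebraic.isAlgebraic θ), hθ,
      IntermediateField.top_toSubalgebra]
  let Ω := AlgebraicClosure k
  obtain ⟨m, hm, hG⟩ := law_formula Ω hθ' (F.precomp (separableClosure k K).val)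
  obtain ⟨m', hm', hG'⟩ := law_formula Ω hθ' (F'.precomp (separableClosure k K).val)
  have hmm : m = m' := Nat.eq_of_mul_eq_mul_left Module.finrank_pos (hm.trans hm'.symm)
  have hgen : ∀ (T : Type u) (x : MvPolynomial T Ω ⊗[k] K), nv F _ x = nv F' _ x := by
    intro T x
    refine eq_of_pow_eq (k := k) p j ?_
    rw [nv_pow_eq hexp, nv_pow_eq hexp, hG _ (IsScalarTower.toAlgHom k Ω _), hG' _ (IsScalarTower.toAlgHom k Ω _), hmm]
  refine PolynomialLaw.ext (funext fun S => funext fun _ => funext fun _ => funext fun x => ?_)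
  rw [Split.law_eq, Split.law_eq]
  congr 1
  obtain ⟨T, rfl⟩ := TensorProduct.exists_finset x
  let φ : MvPolynomial T k →ₐ[k] S := MvPolynomial.aeval fun i : T => i.1.1
  let x₀ : MvPolynomial T k ⊗[k] K := ∑ i : T, MvPolynomial.X i ⊗ₜ[k] i.1.2
  have hx : Algebra.TensorProduct.map φ (AlgHom.id k K) x₀ = ∑ q ∈ T, q.1 ⊗ₜ[k] q.2 := by
    simp only [x₀, map_sum, Algebra.TensorProduct.map_tmul, AlgHom.id_apply, φ, MvPolynomial.aeval_X]
    exact Finset.sum_coe_sort T fun q => q.1 ⊗ₜ[k] q.2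
  rw [← hx, ← nv_compat, ← nv_compat]
  congr 1
  let ψ : MvPolynomial T k →ₐ[k] MvPolynomial T Ω := MvPolynomial.mapAlgHom (Algebra.ofId k Ω)
  refine (show Function.Injective ψ from MvPolynomial.map_injective _ (Algebra.ofId k Ω).toRingHom.injective) ?_
  rw [nv_compat, nv_compat, hgen]

theorem dvd_of_law {p j : ℕ} [ExpChar k p] (hexp : ∀ x : K, x ^ p ^ j ∈ separableClosure k K)
    (hmin : ∀ n : ℕ, 0 < n → (∀ x : K, x ^ n ∈ separableClosure k K) → p ^ j ≤ n) {d : ℕ}
    (F : PolLaw.MulLaw k K k d) : Module.finrank k (separableClosure k K) * p ^ j ∣ d := by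
  classical
  let B := separableClosure k K
  obtain ⟨θ, hθ⟩ := Field.exists_primitive_element k B
  have hθ' : Algebra.adjoin k {θ} = ⊤ := by
    rw [← IntermediateField.adjoin_simple_toSubalgebra_of_isAlgebraic (Algebra.IsAlgebraic.isAlgebraic θ), hθ,
      IntermediateField.top_toSubalgebra]
  let Ω := AlgebraicClosure k
  obtain ⟨m, hm, hG⟩ := law_formula Ω hθ' (F.precomp B.val)
  obtain ⟨k', hk'⟩ := exists_exp hθ' (F.precomp B.val) (AlgHom.id k B)
  suffices hd : p ^ j ∣ m from hm ▸ Nat.mul_dvd_mul_left _ hd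
  -- the exponent at the diagonal is `m`
  obtain ⟨σ₀⟩ : Nonempty (B →ₐ[k] Ω) := ⟨IsAlgClosed.lift⟩
  have hkm : k' = m := by
    let cC : Ω →ₐ[k] Polynomial Ω := IsScalarTower.toAlgHom k Ω (Polynomial Ω)
    have h := hk' (Polynomial Ω) (cC.comp σ₀) X
    rw [hG _ cC, Finset.prod_eq_single σ₀ (fun τ _ hτ => by
      rw [map_add, map_one, map_smul, ev_ES hθ' (AlgHom.id k B) τ σ₀ cC, if_neg (by simpa using hτ), smul_zero,
        add_zero, one_pow]) (fun hn => absurd (Finset.mem_univ _) hn), map_add, map_one, map_smul,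
      ev_ES hθ' (AlgHom.id k B) σ₀ σ₀ cC, if_pos (AlgHom.comp_id σ₀).symm, smul_eq_mul, mul_one, add_sub_cancel] at h
    simpa using (congrArg natDegree h).symm
  subst hkm
  by_contra hnd
  rcases char_cases (k := k) p k with ⟨hp, -⟩ | hp1
  swap
  · exact hnd (by rw [hp1, one_pow]; exact one_dvd _)
  have hm0 : k' ≠ 0 := fun h0 => hnd (h0 ▸ dvd_zero _)
  obtain ⟨a, m', hpm', hkeq⟩ := Nat.exists_eq_pow_mul_and_not_dvd hm0 p hp.ne_one
  have haj : a < j := by
    by_contra hc
    push Not at hc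
    exact hnd (hkeq ▸ Dvd.dvd.mul_right (pow_dvd_pow p hc) m')
  obtain ⟨j', rfl⟩ : ∃ t, j = t + 1 := ⟨j - 1, by omega⟩
  obtain ⟨b, hb⟩ : ∃ b : K, b ^ p ^ j' ∉ B := by
    by_contra hall
    push Not at hall
    have := hmin (p ^ j') (pow_pos hp.pos _) hall
    exact absurd this (not_le.2 (Nat.pow_lt_pow_right hp.one_lt (Nat.lt_succ_self _)))
  refine hb ?_
  -- `χ`
  let cB : B →ₐ[k] Polynomial B := IsScalarTower.toAlgHom k B (Polynomial B)
  let ι : Polynomial B ⊗[k] B →ₐ[Polynomial B] Polynomial B ⊗[k] K := Algebra.TensorProduct.map (AlgHom.id _ _) B.val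
  let E' := ι (ES k θ (AlgHom.id k B) cB)
  let y : Polynomial B ⊗[k] K := (X : Polynomial B) ⊗ₜ[k] (1 : K) - (1 : Polynomial B) ⊗ₜ[k] b
  let c : B := ⟨b ^ p ^ (j' + 1), hexp b⟩
  have hchar := char_cases (k := k) p (Polynomial B ⊗[k] K)
  have hchi : nv F (Polynomial B) (1 + (y - 1) * E') ^ p ^ (j' + 1) = (X ^ p ^ (j' + 1) - C c) ^ k' := by
    rw [← nv_pow, idem_pow_q p hchar (j' + 1) y E' (idem_map B.val _ _ (ES_idem hθ' (AlgHom.id k B) cB))]
    have hsub : ∀ u v : Polynomial B ⊗[k] K, (u - v) ^ p ^ (j' + 1) = u ^ p ^ (j' + 1) - v ^ p ^ (j' + 1) := by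
      intro u v
      have h2 := add_pow_q p hchar (j' + 1) (u - v) v
      rw [sub_add_cancel] at h2
      rw [h2, add_sub_cancel_right]
    have hy : y ^ p ^ (j' + 1) =
        ι ((X ^ p ^ (j' + 1) : Polynomial B) ⊗ₜ[k] (1 : B) - (1 : Polynomial B) ⊗ₜ[k] c) := by
      simp only [y, hsub, Algebra.TensorProduct.tmul_pow, one_pow, map_sub, ι, Algebra.TensorProduct.map_tmul,
        map_one, AlgHom.id_apply]
      rfl
    rw [hy, map_step, mul_comm, mul_comm (ES k θ (AlgHom.id k B) cB) _, sub_mul, one_mul, mul_ES hθ', map_sub, ev_tmul,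
      ev_tmul, map_one]
    rw [show ∀ (v : Polynomial B), v • ES k θ (AlgHom.id k B) cB - ES k θ (AlgHom.id k B) cB =
      (v - 1) • ES k θ (AlgHom.id k B) cB from fun v => by rw [sub_smul, one_smul], hk']
    simp [cB]
  have hK : (nv F (Polynomial B) (1 + (y - 1) * E')).map B.val.toRingHom = (X - C b) ^ k' := by
    haveI : ExpChar K p := expChar_of_injective_algebraMap (algebraMap k K).injective p
    refine eq_of_pow_eq (k := k) p (j' + 1) ?_
    rw [← Polynomial.map_pow, hchi, Polynomial.map_pow, Polynomial.map_sub, Polynomial.map_pow, map_X, map_C,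
      ← pow_mul, mul_comm, pow_mul, sub_pow_expChar_pow, ← C_pow]
    rfl
  rw [hkeq, pow_mul] at hK
  haveI : ExpChar K p := expChar_of_injective_algebraMap (algebraMap k K).injective p
  rw [sub_pow_expChar_pow, ← C_pow, show (X ^ p ^ a - C (b ^ p ^ a) : Polynomial K) =
    expand K (p ^ a) (X - C (b ^ p ^ a)) by simp, ← map_pow] at hK
  obtain ⟨m'', rfl⟩ : ∃ t, m' = t + 1 := ⟨m' - 1, by
    rcases Nat.eq_zero_or_pos m' with h0 | h0
    · exact absurd (h0 ▸ dvd_zero p) hpm'
    · omega⟩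
  have hco := congrArg (fun P => P.coeff (m'' * p ^ a)) hK
  simp only [coeff_map, coeff_expand_mul (pow_pos hp.pos a), sub_eq_add_neg, ← map_neg C, coeff_X_add_C_pow,
    show m'' + 1 - m'' = 1 by omega, pow_one, Nat.choose_succ_self_right] at hco
  have hne : ((m'' + 1 : ℕ) : K) ≠ 0 := by
    haveI : CharP K p := by
      rcases ‹ExpChar K p› with _ | ⟨hq⟩
      · exact absurd rfl hp.ne_one
      · assumption
    rw [Ne, CharP.cast_eq_zero_iff K p]
    exact hpm'
  have hmem : -b ^ p ^ a * ((m'' + 1 : ℕ) : K) ∈ B := by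
    rw [← hco]
    exact Subtype.mem _
  have hba : b ^ p ^ a ∈ B := by
    have := B.div_mem hmem (B.natCast_mem (m'' + 1))
    rw [mul_div_cancel_right₀ _ hne] at this
    exact neg_mem_iff.1 this
  have : (b ^ p ^ a) ^ p ^ (j' - a) ∈ B := pow_mem hba _
  rwa [← pow_mul, ← pow_add, show a + (j' - a) = j' by omega] at this

theorem exists_law {p j : ℕ} [ExpChar k p] (hexp : ∀ x : K, x ^ p ^ j ∈ separableClosure k K) (r : ℕ) :
    Nonempty (PolLaw.MulLaw k K k (Module.finrank k (separableClosure k K) * p ^ j * r)) := by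
  let B := separableClosure k K
  obtain ⟨N, -, -⟩ := DetProj.existsUnique_mulLaw (A := k) (B := B) (M := B) (Module.finrank k B) fun q => by
    rw [Module.rankAtStalk_eq_finrank_of_free]; simp
  refine ⟨Split.mkLaw (fun S _ _ x => nv N S (exists_w p j hexp S x).choose ^ r) ?_ ?_ ?_ ?_⟩
  · intro S S' _ _ _ _ φ x
    rw [map_pow, nv_compat]
    congr 2
    refine lTensor_val_injective S' ?_
    rw [(exists_w p j hexp S' _).choose_spec, ← PolLaw.rTensor_algHom_apply, ← rTensor_lTensor,
      (exists_w p j hexp S x).choose_spec, PolLaw.rTensor_algHom_apply, map_pow, ← PolLaw.rTensor_algHom_apply]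
  · intro S _ _
    have h1 : (exists_w p j hexp S 1).choose = 1 := lTensor_val_injective S (by
      rw [(exists_w p j hexp S 1).choose_spec, one_pow, PolLaw.lTensor_algHom_apply, map_one])
    show nv N S (exists_w p j hexp S 1).choose ^ r = 1
    rw [h1, nv_one, one_pow]
  · intro S _ _ x y
    have h1 : (exists_w p j hexp S (x * y)).choose = (exists_w p j hexp S x).choose * (exists_w p j hexp S y).choose :=
      lTensor_val_injective S (by
        rw [(exists_w p j hexp S _).choose_spec, mul_pow, lTensor_algHom_mul, (exists_w p j hexp S x).choose_spec,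
          (exists_w p j hexp S y).choose_spec])
    show nv N S (exists_w p j hexp S (x * y)).choose ^ r = _
    rw [h1, nv_mul, mul_pow]
  · intro S _ _ s x
    have h1 : (exists_w p j hexp S (s • x)).choose = s ^ p ^ j • (exists_w p j hexp S x).choose :=
      lTensor_val_injective S (by
        rw [(exists_w p j hexp S _).choose_spec, smul_pow, lTensor_smul', (exists_w p j hexp S x).choose_spec])
    show nv N S (exists_w p j hexp S (s • x)).choose ^ r = _
    rw [h1, nv_smul, mul_pow, ← pow_mul, ← pow_mul]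
    congr 2
    ring

theorem main (d e : ℕ) (he : 0 < e) (hexp : ∀ x : K, x ^ e ∈ separableClosure k K)
    (hmin : ∀ n : ℕ, 0 < n → (∀ x : K, x ^ n ∈ separableClosure k K) → e ≤ n) :
    (∀ F F' : PolLaw.MulLaw k K k d, F.law = F'.law) ∧
      (Nonempty (PolLaw.MulLaw k K k d) ↔ Field.finSepDegree k K * e ∣ d) := by
  let p := ringExpChar k
  haveI : ExpChar k p := inferInstance
  obtain ⟨j, rfl⟩ := exists_eq_pow p e he hexp hmin
  have hdeg : Field.finSepDegree k K = Module.finrank k (separableClosure k K) := by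
    rw [Field.finSepDegree_eq]; rfl
  refine ⟨fun F F' => law_unique hexp F F', fun ⟨F⟩ => hdeg ▸ dvd_of_law hexp hmin F, fun ⟨r, hr⟩ => ?_⟩
  rw [hr, hdeg]
  exact exists_law hexp r

end Groth.Agent.GammaD.FieldLaw
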