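import Groth.Agent.Lib.GammaD.Functorial
import Mathlib.RingTheory.Adjoin.Tower
import Mathlib.RingTheory.FiniteType
import Mathlib.RingTheory.FinitePresentation
import Mathlib.RingTheory.FiniteStability
import Mathlib.RingTheory.Polynomial.Basic
import Mathlib.RingTheory.IntegralClosure.IsIntegralClosure.Basic
import Mathlib.RingTheory.Int.Basic
import Mathlib.RingTheory.TensorProduct.MonoidAlgebra

/-! # Divided powers of a finitely presented algebra are finitely presented -/

universe u

open scoped TensorProduct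

namespace Groth.Agent.GammaD.FP

section inv

variable (R : Type u) [CommRing R] (σ : Type u) (d : ℕ)

/-- The polynomial ring in `d` blocks of variables. -/
abbrev U := MvPolynomial (Fin d × σ) R

/-- Permutation of the blocks. -/
noncomputable def act (τ : Equiv.Perm (Fin d)) : U R σ d →ₐ[R] U R σ d :=
  MvPolynomial.rename fun q => (τ q.1, q.2)

/-- The invariants. -/
noncomputable def Fx : Subalgebra R (U R σ d) := ⨅ τ, AlgHom.equalizer (act R σ d τ) (AlgHom.id R _)

theorem mem_Fx {x : U R σ d} : x ∈ Fx R σ d ↔ ∀ τ, act R σ d τ x = x := by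
  simp [Fx, Algebra.mem_iInf]

theorem isIntegral_X (q : Fin d × σ) : IsIntegral (Fx R σ d) (MvPolynomial.X q : U R σ d) := by
  classical
  set p : Polynomial (U R σ d) := ∏ j : Fin d, (Polynomial.X - Polynomial.C (MvPolynomial.X (j, q.2))) with hp
  have hmon : p.Monic := Polynomial.monic_prod_of_monic _ _ fun j _ => Polynomial.monic_X_sub_C _
  have hco : p ∈ Polynomial.lifts (algebraMap (Fx R σ d) (U R σ d)) := by
    refine (Polynomial.lifts_iff_coeff_lifts _).2 fun k => ⟨⟨p.coeff k, (mem_Fx R σ d).2 fun τ => ?_⟩, rfl⟩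
    have : p.map (act R σ d τ).toRingHom = p := by
      rw [hp, Polynomial.map_prod]
      refine Fintype.prod_equiv τ _ _ fun j => ?_
      simp [act]
    conv_rhs => rw [← this, Polynomial.coeff_map]
    rfl
  rcases subsingleton_or_nontrivial (U R σ d) with h | h
  · rw [Subsingleton.elim (MvPolynomial.X q : U R σ d) 0]; exact isIntegral_zero
  obtain ⟨p', hp', -, hp'm⟩ := Polynomial.lifts_and_degree_eq_and_monic hco hmon
  refine ⟨p', hp'm, ?_⟩
  rw [← Polynomial.eval_map, hp', hp, Polynomial.eval_prod]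
  exact Finset.prod_eq_zero (Finset.mem_univ q.1) (by simp)

theorem finiteType_Fx [IsNoetherianRing R] [Finite σ] : Algebra.FiniteType R (Fx R σ d) := by
  refine ⟨fg_of_fg_of_fg R (Fx R σ d) (U R σ d) Algebra.FiniteType.out ?_ Subtype.val_injective⟩
  haveI : Algebra.IsIntegral (Fx R σ d) (U R σ d) := ⟨fun x => by
    induction x using MvPolynomial.induction_on with
    | C n =>
      rw [show (MvPolynomial.C n : U R σ d) = algebraMap (Fx R σ d) (U R σ d) (algebraMap R _ n) from rfl]
      exact isIntegral_algebraMap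
    | add a b ha hb => exact ha.add hb
    | mul_X a q ha => exact ha.mul (isIntegral_X R σ d q)⟩
  haveI : Algebra.FiniteType (Fx R σ d) (U R σ d) :=
    Algebra.FiniteType.of_restrictScalars_finiteType R (Fx R σ d) (U R σ d)
  exact (Algebra.IsIntegral.finite : Module.Finite (Fx R σ d) (U R σ d)).fg_top

end inv

section orb

variable (A : Type u) [CommRing A] {P : Type u} [CommRing P] [Algebra A P] {d : ℕ} {ι : Type u}

/-- The sum of the words of shape `o` in the family `q`. -/
noncomputable def orb (q : ι → P) (o : ι →₀ ℕ) : Tpow A P d :=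
  coefT o (tl A P d _ (∑ x ∈ o.support, (MvPolynomial.X x : MvPolynomial ι A) ⊗ₜ[A] q x))

/-- The words of shape `o`. -/
noncomputable def words (d : ℕ) {ι : Type u} (o : ι →₀ ℕ) : Finset (Fin d → ι) :=
  letI := Classical.decEq ι
  (Fintype.piFinset fun _ : Fin d => o.support).filter fun c => cnt c = o

theorem mem_words {o : ι →₀ ℕ} {c : Fin d → ι} : c ∈ words d o ↔ cnt c = o := by
  classical
  simp only [words, Finset.mem_filter, Fintype.mem_piFinset]
  exact ⟨fun h => h.2, fun h => ⟨fun i => h ▸ mem_support_cnt c i, h⟩⟩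

theorem orb_eq (q : ι → P) (o : ι →₀ ℕ) :
    orb A q o = ∑ c ∈ words d o, PiTensorProduct.tprod A (fun i => q (c i)) := by
  classical
  rw [orb, tl_sum, map_sum, words, Finset.sum_filter]
  refine Finset.sum_congr rfl fun c _ => ?_
  rw [coefT_tmul, show (∏ i, MvPolynomial.X (R := A) (c i)) = MvPolynomial.monomial (cnt c) 1 by
      rw [cnt, MvPolynomial.monomial_sum_one]; rfl, MvPolynomial.coeff_monomial]
  split <;> simp

theorem orb_mem (q : ι → P) (o : ι →₀ ℕ) : orb A q o ∈ SymTen.TS A P d := fun σ => by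
  rw [← SymTen.perm_apply]
  show (SymTen.perm A P d σ).toLinearMap _ = _
  rw [orb, ← coefT_lTensor]
  exact congrArg (coefT o) (perm_tl σ _ _)

theorem exists_finsupp {ι' : Type u} {V : Type u} [AddCommGroup V] [Module A V] (q : ι' → V)
    (hq : ⊤ ≤ Submodule.span A (Set.range q)) {S : Type u} [CommSemiring S] [Algebra A S] (z : S ⊗[A] V) :
    ∃ a : ι' →₀ S, z = a.sum fun x s => s ⊗ₜ[A] q x := by
  classical
  induction z using TensorProduct.induction_on with
  | zero => exact ⟨0, by simp⟩
  | tmul s v =>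
    obtain ⟨c, rfl⟩ := Finsupp.mem_span_range_iff_exists_finsupp.1 (hq (x := v) trivial)
    refine ⟨c.mapRange (fun e => e • s) (zero_smul A s), ?_⟩
    rw [Finsupp.sum_mapRange_index (by simp), Finsupp.sum, Finsupp.sum, TensorProduct.tmul_sum]
    exact Finset.sum_congr rfl fun x _ => by rw [TensorProduct.smul_tmul]
  | add u v hu hv =>
    obtain ⟨a, rfl⟩ := hu
    obtain ⟨b, rfl⟩ := hv
    exact ⟨a + b, (Finsupp.sum_add_index (by simp) (by simp [TensorProduct.add_tmul])).symm⟩

end orb

section lift

variable (R : Type u) [CommRing R] (A : Type u) [CommRing A] [Algebra R A] (σ : Type u) (d : ℕ)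

/-- The map to the tensor power. -/
noncomputable def E : U R σ d →ₐ[R] Tpow A (MvPolynomial σ A) d :=
  MvPolynomial.aeval fun q =>
    PiTensorProduct.singleAlgHom (R := A) (A := fun _ : Fin d => MvPolynomial σ A) q.1 (MvPolynomial.X q.2)

theorem E_rename (i : Fin d) (p : MvPolynomial σ R) :
    E R A σ d (MvPolynomial.rename (fun s => (i, s)) p) =
      PiTensorProduct.singleAlgHom (R := A) (A := fun _ : Fin d => MvPolynomial σ A) i
        (MvPolynomial.map (algebraMap R A) p) := by
  induction p using MvPolynomial.induction_on with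
  | C r =>
    rw [MvPolynomial.rename_C, MvPolynomial.map_C, ← MvPolynomial.algebraMap_eq, AlgHom.commutes,
      ← MvPolynomial.algebraMap_eq, AlgHom.commutes, ← IsScalarTower.algebraMap_apply]
  | add a b ha hb => simp only [map_add, ha, hb]
  | mul_X a s ha =>
    rw [map_mul, map_mul, ha, map_mul, map_mul]
    congr 1
    simp [E]

theorem act_E (τ : Equiv.Perm (Fin d)) (x : U R σ d) :
    E R A σ d (act R σ d τ x) = SymTen.perm A (MvPolynomial σ A) d τ (E R A σ d x) := by
  classical
  induction x using MvPolynomial.induction_on with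
  | C r =>
    rw [← MvPolynomial.algebraMap_eq, AlgHom.commutes, AlgHom.commutes,
      IsScalarTower.algebraMap_apply R A (Tpow A (MvPolynomial σ A) d), AlgHom.commutes]
  | add a b ha hb => simp only [map_add, ha, hb]
  | mul_X a q ha =>
    rw [map_mul, map_mul, ha, map_mul, map_mul]
    congr 1
    simp only [act, MvPolynomial.rename_X, E, MvPolynomial.aeval_X]
    show PiTensorProduct.tprod A (MonoidHom.mulSingle (fun _ : Fin d => MvPolynomial σ A) (τ q.1) _) =
      SymTen.perm A _ d τ (PiTensorProduct.tprod A (MonoidHom.mulSingle (fun _ : Fin d => MvPolynomial σ A) q.1 _))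
    rw [SymTen.perm_tprod]
    congr 1
    funext l
    simp only [MonoidHom.mulSingle_apply, Pi.mulSingle_apply, Equiv.symm_apply_eq]

/-- The map of invariants. -/
noncomputable def Phi : Fx R σ d →ₐ[R] SymTen.TS A (MvPolynomial σ A) d where
  toFun x := ⟨E R A σ d x, fun τ => by
    rw [← SymTen.perm_apply, ← act_E, (mem_Fx R σ d).1 x.2 τ]⟩
  map_one' := Subtype.ext (map_one _)
  map_mul' x y := Subtype.ext (map_mul _ _ _)
  map_zero' := Subtype.ext (map_zero _)
  map_add' x y := Subtype.ext (map_add _ _ _)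
  commutes' r := Subtype.ext ((E R A σ d).commutes r)

variable {σ d} {ι : Type u}

/-- The invariant lift of a sum of words. -/
noncomputable def W (q : ι → MvPolynomial σ R) (o : ι →₀ ℕ) : Fx R σ d :=
  ⟨∑ c ∈ words d o, ∏ i, MvPolynomial.rename (fun s => (i, s)) (q (c i)), (mem_Fx R σ d).2 fun τ => by
    rw [map_sum]
    refine Finset.sum_nbij' (fun c => c ∘ τ.symm) (fun c => c ∘ τ) (fun c hc => ?_) (fun c hc => ?_)
      (fun c _ => by funext i; simp) (fun c _ => by funext i; simp) fun c _ => ?_
    · rw [mem_words] at hc ⊢; rw [← hc]; exact cnt_perm c τ.symm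
    · rw [mem_words] at hc ⊢; rw [← hc]; exact cnt_perm c τ
    · rw [map_prod]
      refine Fintype.prod_equiv τ _ _ fun i => ?_
      simp only [act, MvPolynomial.rename_rename, Function.comp_apply, Equiv.symm_apply_apply]
      rfl⟩

theorem Phi_W (q : ι → MvPolynomial σ R) (o : ι →₀ ℕ) :
    (Phi R A σ d (W R q o) : Tpow A (MvPolynomial σ A) d) =
      orb A (fun x => MvPolynomial.map (algebraMap R A) (q x)) o := by
  rw [orb_eq]
  show E R A σ d (∑ c ∈ words d o, _) = _
  rw [map_sum]
  refine Finset.sum_congr rfl fun c _ => ?_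
  rw [map_prod, ← prod_single]
  exact Finset.prod_congr rfl fun i _ => E_rename R A σ d i _

/-- The monomials. -/
noncomputable def mono (m : σ →₀ ℕ) : MvPolynomial σ R := MvPolynomial.monomial m 1

theorem gam_eq (o : (σ →₀ ℕ) →₀ ℕ) :
    gam (MvPolynomial.basisMonomials σ A) (tlLaw A (MvPolynomial σ A) d).law o =
      (Phi R A σ d (W R (mono R) o) : Tpow A (MvPolynomial σ A) d) := by
  rw [Phi_W, show (fun x => MvPolynomial.map (algebraMap R A) (mono (σ := σ) R x)) =
    ⇑(MvPolynomial.basisMonomials σ A) from funext fun x => by simp [mono]]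
  rfl

theorem exists_decomp (v : SymTen.TS A (MvPolynomial σ A) d) :
    ∃ (O : Finset ((σ →₀ ℕ) →₀ ℕ)) (a : ((σ →₀ ℕ) →₀ ℕ) → A), (∀ o ∈ O, o.degree = d) ∧
      v = ∑ o ∈ O, a o • Phi R A σ d (W R (mono R) o) := by
  classical
  let b := Basis.piTensorProduct fun _ : Fin d => MvPolynomial.basisMonomials σ A
  refine ⟨(b.repr v.1).support.image cnt, fun o => b.repr v.1 (rep o),
    fun o ho => by obtain ⟨c, -, rfl⟩ := Finset.mem_image.1 ho; exact cnt_degree c, Subtype.ext ?_⟩
  refine (orbit_decomp (MvPolynomial.basisMonomials σ A) v.2 _ (fun c hc => Finset.mem_image_of_mem cnt hc)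
    (fun o ho => by obtain ⟨c, -, rfl⟩ := Finset.mem_image.1 ho; exact cnt_degree c)).trans ?_
  rw [AddSubmonoidClass.coe_finsetSum]
  refine Finset.sum_congr rfl fun o _ => ?_
  rw [SetLike.val_smul, gam_eq R A]

theorem E_injective : Function.Injective (E R R σ d) := by
  classical
  let F : Tpow R (MvPolynomial σ R) d →ₐ[R] U R σ d :=
    PiTensorProduct.liftAlgHom ((MultilinearMap.mkPiAlgebra R (Fin d) (U R σ d)).compLinearMap fun i =>
      (MvPolynomial.rename (R := R) fun s => (i, s)).toLinearMap)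
      (by simp [MultilinearMap.compLinearMap_apply])
      (fun x y => by simp [MultilinearMap.compLinearMap_apply, Finset.prod_mul_distrib])
  have h : F.comp (E R R σ d) = AlgHom.id R _ := by
    refine MvPolynomial.algHom_ext fun q => ?_
    simp only [AlgHom.comp_apply, E, MvPolynomial.aeval_X, AlgHom.id_apply]
    show PiTensorProduct.lift _ (PiTensorProduct.tprod R (MonoidHom.mulSingle (fun _ : Fin d => MvPolynomial σ R) q.1 _)) = _
    rw [PiTensorProduct.lift.tprod, MultilinearMap.compLinearMap_apply, MultilinearMap.mkPiAlgebra_apply,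
      Finset.prod_eq_single q.1 (fun j _ hj => by simp [Pi.mulSingle_eq_of_ne hj]) (fun h => absurd (Finset.mem_univ _) h)]
    simp
  exact fun x y hxy => by simpa using congrArg F hxy |>.symm.trans (AlgHom.congr_fun h x) |>.symm.trans (AlgHom.congr_fun h y)

theorem Fx_decomp (w : Fx R σ d) :
    ∃ (O : Finset ((σ →₀ ℕ) →₀ ℕ)) (a : ((σ →₀ ℕ) →₀ ℕ) → R), (∀ o ∈ O, o.degree = d) ∧
      w = ∑ o ∈ O, a o • W R (mono R) o := by
  obtain ⟨O, a, hO, h⟩ := exists_decomp R R (Phi R R σ d w)
  refine ⟨O, a, hO, Subtype.ext (E_injective R ?_)⟩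
  have h' := congrArg Subtype.val h
  simp only [← map_smul, ← map_sum] at h'
  exact h'

variable (σ d)

/-- Invariants after base change. -/
noncomputable def Theta : A ⊗[R] Fx R σ d →ₐ[A] SymTen.TS A (MvPolynomial σ A) d :=
  Algebra.TensorProduct.lift (Algebra.ofId A _) (Phi R A σ d) fun _ _ => Commute.all _ _

theorem Theta_tmul (a : A) (w : Fx R σ d) : Theta R A σ d (a ⊗ₜ[R] w) = a • Phi R A σ d w := by
  rw [Theta, Algebra.TensorProduct.lift_tmul, Algebra.smul_def]
  rfl

theorem Theta_surjective : Function.Surjective (Theta R A σ d) := by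
  intro v
  obtain ⟨O, a, -, rfl⟩ := exists_decomp R A v
  exact ⟨∑ o ∈ O, a o ⊗ₜ[R] W R (mono R) o, by simp [map_sum, Theta_tmul]⟩

theorem Theta_injective : Function.Injective (Theta R A σ d) := by
  classical
  refine (injective_iff_map_eq_zero _).2 fun z hz => ?_
  have hspan : ⊤ ≤ Submodule.span R (Set.range fun o : {o : (σ →₀ ℕ) →₀ ℕ // o.degree = d} => W (d := d) R (mono R) o.1) := by
    intro w _
    obtain ⟨O, a, hO, rfl⟩ := Fx_decomp R w
    exact sum_mem fun o ho => Submodule.smul_mem _ _ (Submodule.subset_span ⟨⟨o, hO o ho⟩, rfl⟩)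
  obtain ⟨a, rfl⟩ := exists_finsupp R (V := Fx R σ d) _ hspan z
  suffices a = 0 by simp [this]
  refine Finsupp.ext fun o => ?_
  have h := congrArg (fun v : SymTen.TS A (MvPolynomial σ A) d =>
    (Basis.piTensorProduct fun _ : Fin d => MvPolynomial.basisMonomials σ A).repr v.1 (rep (d := d) o.1)) hz
  simp only [Finsupp.sum, map_sum, Theta_tmul, AddSubmonoidClass.coe_finsetSum, SetLike.val_smul, map_smul,
    Finsupp.finsetSum_apply, Finsupp.smul_apply, ← gam_eq, repr_orbit_coef, cnt_rep o.2, smul_eq_mul, mul_ite,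
    mul_one, mul_zero, ZeroMemClass.coe_zero, map_zero, Finsupp.coe_zero, Pi.zero_apply] at h
  rw [Finset.sum_eq_single o (fun b _ hb => if_neg fun e => hb (Subtype.ext e.symm))
    (fun hn => by simp [Finsupp.notMem_support_iff.1 hn]), if_pos rfl] at h
  exact h

end lift

theorem finitePresentation_TS (A : Type u) [CommRing A] (σ : Type u) [Finite σ] (d : ℕ) :
    Algebra.FinitePresentation A (SymTen.TS A (MvPolynomial σ A) d) := by
  let R := ULift.{u} ℤ
  letI : Algebra R A := ((Int.castRingHom A).comp (ULift.ringEquiv : R ≃+* ℤ).toRingHom).toAlgebra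
  haveI : IsNoetherianRing R := isNoetherianRing_of_ringEquiv ℤ (ULift.ringEquiv : R ≃+* ℤ).symm
  haveI := finiteType_Fx R σ d
  haveI : Algebra.FinitePresentation R (Fx R σ d) := Algebra.FinitePresentation.of_finiteType.1 inferInstance
  exact Algebra.FinitePresentation.equiv
    (AlgEquiv.ofBijective (Theta R A σ d) ⟨Theta_injective R A σ d, Theta_surjective R A σ d⟩)

end Groth.Agent.GammaD.FP
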