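import Groth.Agent.Lib.GammaD.FinPres26

/-! # Divided powers of a finitely presented algebra: the main theorem -/

universe u

open scoped TensorProduct

namespace Groth.Agent.GammaD.FP

theorem exists_descent {A : Type u} [CommRing A] {P B N : Type u} [CommRing P] [Algebra A P] [CommRing B]
    [Algebra A B] [CommRing N] [Algebra A N] {d : ℕ} (L : PolLaw.MulLaw A P N d) (π : P →ₐ[A] B)
    (hπ : Function.Surjective π)
    (indep : ∀ (S : Type u) [CommSemiring S] [Algebra A S] (y y' : S ⊗[A] P),
      π.toLinearMap.lTensor S y = π.toLinearMap.lTensor S y' → L.law.toFun' S y = L.law.toFun' S y') :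
    ∃ G : PolLaw.MulLaw A B N d, ∀ (S : Type u) [CommSemiring S] [Algebra A S] (y : S ⊗[A] P),
      G.law.toFun' S (π.toLinearMap.lTensor S y) = L.law.toFun' S y := by
  choose lft hlft using fun (S : Type u) [CommSemiring S] [Algebra A S] (x : S ⊗[A] B) =>
    LinearMap.lTensor_surjective S (g := π.toLinearMap) hπ x
  refine ⟨{ law := { toFun' := fun S _ _ x => L.law.toFun' S (lft S x)
                     isCompat' := fun {S} _ _ {S'} _ _ ψ => funext fun x => ?_ }
            homog := fun S _ _ r x => ?_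
            mult := fun S _ _ => ⟨?_, fun x y => ?_⟩ }, fun S _ _ y => indep S _ _ (hlft S _)⟩
  · simp only [Function.comp_apply]
    rw [law_compat]
    refine indep S' _ _ ?_
    rw [← rTensor_lTensor, hlft S x, hlft S']
  · show L.law.toFun' S _ = r ^ d • L.law.toFun' S _
    rw [← L.homog]
    refine indep S _ _ ?_
    rw [lTensor_smul', hlft, hlft]
  · show L.law.toFun' S _ = 1
    rw [← (L.mult S).1]
    refine indep S _ _ ?_
    rw [hlft, PolLaw.lTensor_algHom_apply, map_one]
  · show L.law.toFun' S _ = L.law.toFun' S _ * L.law.toFun' S _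
    rw [← (L.mult S).2]
    refine indep S _ _ ?_
    rw [lTensor_algHom_mul π, hlft, hlft, hlft]

theorem map_eq_zero_of_map_eq_zero {A : Type u} [CommRing A] {P B C D N : Type u} [CommRing P] [Algebra A P]
    [CommRing B] [Algebra A B] [CommRing C] [Algebra A C] [CommRing D] [Algebra A D] [CommRing N] [Algebra A N]
    {d : ℕ} (γ : PolLaw.MulLaw A B C d) (hγ : PolLaw.IsGammaD γ) (τ : PolLaw.MulLaw A P D d)
    (hτ : PolLaw.IsGammaD τ) (π : P →ₐ[A] B) (hπ : Function.Surjective π) (φ : D →ₐ[A] C)
    (hφ : ∀ (S : Type u) [CommSemiring S] [Algebra A S] (y : S ⊗[A] P),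
      φ.toLinearMap.lTensor S (τ.law.toFun' S y) = γ.law.toFun' S (π.toLinearMap.lTensor S y))
    (m : D →ₐ[A] N)
    (indep : ∀ (S : Type u) [CommSemiring S] [Algebra A S] (y y' : S ⊗[A] P),
      π.toLinearMap.lTensor S y = π.toLinearMap.lTensor S y' →
        m.toLinearMap.lTensor S (τ.law.toFun' S y) = m.toLinearMap.lTensor S (τ.law.toFun' S y'))
    (z : D) (hz : φ z = 0) : m z = 0 := by
  obtain ⟨G, hG⟩ := exists_descent (τ.postcomp m) π hπ (fun S _ _ y y' => indep S y y')
  obtain ⟨f, hf, -⟩ := hγ N G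
  obtain ⟨g, -, huniq⟩ := hτ N (G.precomp π)
  have e1 : f.comp φ = g := huniq _ (PolynomialLaw.ext (funext fun S => funext fun _ => funext fun _ => funext fun y => by
    show (f.comp φ).toLinearMap.lTensor S (τ.law.toFun' S y) = G.law.toFun' S (π.toLinearMap.lTensor S y)
    rw [AlgHom.comp_toLinearMap, ← lTensor_comp', hφ]
    exact congrFun (congrFun (congrFun (congrFun (congrArg PolynomialLaw.toFun' hf) S) _) _) _))
  have e2 : m = g := huniq _ (PolynomialLaw.ext (funext fun S => funext fun _ => funext fun _ => funext fun y => by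
    show m.toLinearMap.lTensor S (τ.law.toFun' S y) = G.law.toFun' S (π.toLinearMap.lTensor S y)
    exact (hG S y).symm))
  rw [e2, ← e1, AlgHom.comp_apply, hz, map_zero]

theorem exists_quot {A D : Type u} [CommRing A] [CommRing D] [Algebra A D] (I : Ideal D) :
    ∃ (N : Type u) (_ : CommRing N) (_ : Algebra A N) (m : D →ₐ[A] N), ∀ x, m x = 0 ↔ x ∈ I :=
  ⟨D ⧸ I, inferInstance, inferInstance, Ideal.Quotient.mkₐ A I, fun _ => Ideal.Quotient.eq_zero_iff_mem⟩

section main

variable {A B C : Type u} [CommRing A] [CommRing B] [Algebra A B] [CommRing C] [Algebra A C]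

theorem finitePresentation {d : ℕ} (γ : PolLaw.MulLaw A B C d) (hγ : PolLaw.IsGammaD γ)
    [h : Algebra.FinitePresentation A B] : Algebra.FinitePresentation A C := by
  classical
  obtain ⟨n, π₀, hπ₀, hker⟩ := h.out
  let σ := ULift.{u} (Fin n)
  let π : MvPolynomial σ A →ₐ[A] B := π₀.comp (MvPolynomial.renameEquiv A Equiv.ulift).toAlgHom
  have hπ : Function.Surjective π := hπ₀.comp (AlgEquiv.surjective _)
  obtain ⟨s, hs⟩ : (RingHom.ker π.toRingHom).FG := by
    obtain ⟨t, ht⟩ := hker
    refine ⟨t.image (MvPolynomial.renameEquiv A Equiv.ulift).symm, ?_⟩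
    rw [Finset.coe_image]
    refine le_antisymm (Ideal.span_le.2 ?_) fun z hz => ?_
    · rintro _ ⟨r, hr, rfl⟩
      have : r ∈ RingHom.ker π₀.toRingHom := ht ▸ Ideal.subset_span hr
      show π₀ (MvPolynomial.renameEquiv A Equiv.ulift ((MvPolynomial.renameEquiv A (Equiv.ulift : σ ≃ Fin n)).symm r)) = 0
      rw [AlgEquiv.apply_symm_apply]
      exact this
    · have hmem : MvPolynomial.renameEquiv A Equiv.ulift z ∈ Ideal.span (t : Set (MvPolynomial (Fin n) A)) := by
        rw [show Ideal.span (t : Set (MvPolynomial (Fin n) A)) = RingHom.ker π₀.toRingHom from ht]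
        simpa [π, RingHom.mem_ker] using hz
      have := Ideal.mem_map_of_mem (MvPolynomial.renameEquiv A (Equiv.ulift : σ ≃ Fin n)).symm.toRingEquiv.toRingHom hmem
      rw [Ideal.map_span] at this
      rw [show (MvPolynomial.renameEquiv A (Equiv.ulift : σ ≃ Fin n)).symm.toRingEquiv.toRingHom
        (MvPolynomial.renameEquiv A Equiv.ulift z) = z from AlgEquiv.symm_apply_apply _ z] at this
      exact this
  obtain ⟨φ, hφ, -⟩ := isGammaD_tau_of_flat A (MvPolynomial σ A) d C (γ.precomp π)
  have hsurj := surjective_of_surjective hγ π hπ φ hφ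
  haveI := finitePresentation_TS A σ d
  refine Algebra.FinitePresentation.of_surjective (f := φ) hsurj ?_
  -- the coefficient ring
  let J := ↥s
  let Co := Σ j : J, ↥(j.1.support)
  let R := MvPolynomial Co (ULift.{u} ℤ)
  letI : Algebra R A := (MvPolynomial.eval₂Hom ((Int.castRingHom A).comp (ULift.ringEquiv : ULift.{u} ℤ ≃+* ℤ).toRingHom)
    fun x : Co => x.1.1.coeff x.2.1).toAlgebra
  haveI : IsNoetherianRing (ULift.{u} ℤ) := isNoetherianRing_of_ringEquiv ℤ (ULift.ringEquiv : ULift.{u} ℤ ≃+* ℤ).symm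
  let M := σ →₀ ℕ
  let rhat : J → MvPolynomial σ R := fun j => ∑ m : ↥(j.1.support), MvPolynomial.monomial m.1 (MvPolynomial.X ⟨j, m⟩)
  have hrhat : ∀ j, MvPolynomial.map (algebraMap R A) (rhat j) = j.1 := fun j => by
    conv_rhs => rw [j.1.as_sum, ← Finset.sum_coe_sort]
    simp only [rhat, map_sum, MvPolynomial.map_monomial]
    refine Finset.sum_congr rfl fun m _ => ?_
    congr 1
    exact MvPolynomial.eval₂Hom_X' _ _ _
  let qh : M ⊕ (J × M) → MvPolynomial σ R := Sum.elim (mono R) fun x => rhat x.1 * mono R x.2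
  let q : M ⊕ (J × M) → MvPolynomial σ A := fun x => MvPolynomial.map (algebraMap R A) (qh x)
  have hql : ∀ m, q (Sum.inl m) = MvPolynomial.monomial m 1 := fun m => by simp [q, qh, mono]
  have hqr : ∀ x : J × M, q (Sum.inr x) = x.1.1 * MvPolynomial.monomial x.2 1 := fun x => by
    simp [q, qh, mono, hrhat]
  haveI := finiteType_Fx R σ d
  haveI : IsNoetherianRing (Fx R σ d) := Algebra.FiniteType.isNoetherianRing R _
  let Wset : Set (Fx R σ d) :=
    {w | ∃ o : (M ⊕ (J × M)) →₀ ℕ, (∃ x, Sum.inr x ∈ o.support) ∧ w = W R qh o}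
  let I : Ideal (SymTen.TS A (MvPolynomial σ A) d) := (Ideal.span Wset).map (Phi R A σ d)
  have hIfg : I.FG := Ideal.FG.map (IsNoetherian.noetherian _) _
  suffices hker : RingHom.ker φ.toRingHom = I by rw [hker]; exact hIfg
  let D := SymTen.TS A (MvPolynomial σ A) d
  let bM := MvPolynomial.basisMonomials σ A
  let p : Tpow A (MvPolynomial σ A) d →ₗ[A] D := (orbP d bM).codRestrict (Subalgebra.toSubmodule D) (orbP_mem_TS bM)
  have hp : ∀ x : D, p x.1 = x := fun x => Subtype.ext (orbP_eq_self bM x.2)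
  let τ := tau A (MvPolynomial σ A) d
  have hpτ : ∀ (S : Type u) [CommSemiring S] [Algebra A S] (y : S ⊗[A] MvPolynomial σ A),
      p.lTensor S (tl A _ d S y) = τ.law.toFun' S y := by
    intro S _ _ y
    rw [← tau_val, lTensor_comp', show p ∘ₗ D.val.toLinearMap = LinearMap.id from LinearMap.ext hp,
      LinearMap.lTensor_id, LinearMap.id_apply]
  have hφτ : ∀ (S : Type u) [CommSemiring S] [Algebra A S] (y : S ⊗[A] MvPolynomial σ A),
      φ.toLinearMap.lTensor S (τ.law.toFun' S y) = γ.law.toFun' S (π.toLinearMap.lTensor S y) :=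
    fun S _ _ y => congrFun (congrFun (congrFun (congrFun (congrArg PolynomialLaw.toFun' hφ) S) _) _) y
  have hPhiW : ∀ o : (M ⊕ (J × M)) →₀ ℕ, Phi R A σ d (W R qh o) = p (orb A q o) := fun o => by
    rw [← hp (Phi R A σ d (W R qh o)), Phi_W]
  refine le_antisymm ?_ ?_
  · -- descend the quotient law
    have hI : ∀ o : (M ⊕ (J × M)) →₀ ℕ, (∃ x, Sum.inr x ∈ o.support) → p (orb A q o) ∈ I := fun o ho =>
      hPhiW o ▸ Ideal.mem_map_of_mem _ (Ideal.subset_span ⟨o, ho, rfl⟩)
    obtain ⟨N₀, _, _, mk, hmk⟩ := exists_quot (A := A) I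
    let K : Submodule A (MvPolynomial σ A) := LinearMap.ker π.toLinearMap
    have hK : ⊤ ≤ Submodule.span A (Set.range fun x : J × M => (⟨q (Sum.inr x), by
        rw [hqr]
        have : x.1.1 ∈ RingHom.ker π.toRingHom := hs ▸ Ideal.subset_span x.1.2
        exact (RingHom.ker π.toRingHom).mul_mem_right _ this⟩ : K)) := by
      rintro ⟨z, hz⟩ -
      suffices hz' : z ∈ Submodule.span A (Set.range fun x : J × M => q (Sum.inr x)) by
        obtain ⟨c, hc⟩ := Finsupp.mem_span_range_iff_exists_finsupp.1 hz'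
        refine Finsupp.mem_span_range_iff_exists_finsupp.2 ⟨c, Subtype.ext ?_⟩
        simp only [Finsupp.sum, AddSubmonoidClass.coe_finsetSum, SetLike.val_smul]
        exact hc
      have hzI : z ∈ Ideal.span (s : Set (MvPolynomial σ A)) := hs ▸ (show z ∈ RingHom.ker π.toRingHom from hz)
      suffices hall : ∀ w : MvPolynomial σ A, w * z ∈ Submodule.span A (Set.range fun x : J × M => q (Sum.inr x)) by
        simpa using hall 1
      clear hz
      induction hzI using Submodule.span_induction with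
      | mem r hr =>
        intro w
        induction w using MvPolynomial.induction_on' with
        | monomial m c =>
          rw [show MvPolynomial.monomial m c * r = c • q (Sum.inr (⟨r, hr⟩, m)) by
            rw [hqr, mul_comm, ← mul_smul_comm, MvPolynomial.smul_monomial, smul_eq_mul, mul_one]]
          exact Submodule.smul_mem _ _ (Submodule.subset_span ⟨_, rfl⟩)
        | add u v hu hv => rw [add_mul]; exact add_mem hu hv
      | zero => intro w; rw [mul_zero]; exact zero_mem _
      | add u v _ _ hu hv => intro w; rw [mul_add]; exact add_mem (hu w) (hv w)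
      | smul c u _ hu => intro w; rw [smul_eq_mul, ← mul_assoc]; exact hu _
    have indep : ∀ (N : Type u) [CommRing N] [Algebra A N] (m : D →ₐ[A] N),
        (∀ o : (M ⊕ (J × M)) →₀ ℕ, (∃ x, Sum.inr x ∈ o.support) → m (p (orb A q o)) = 0) →
        ∀ (S : Type u) [CommSemiring S] [Algebra A S] (y y' : S ⊗[A] MvPolynomial σ A),
        π.toLinearMap.lTensor S y = π.toLinearMap.lTensor S y' →
        m.toLinearMap.lTensor S (τ.law.toFun' S y) = m.toLinearMap.lTensor S (τ.law.toFun' S y') := by
      intro N _ _ m hm S _ _ y y' hyy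
      letI : CommRing S := { Algebra.semiringToRing A with mul_comm := mul_comm }
      obtain ⟨k, hk⟩ := (lTensor_exact S (LinearMap.exact_subtype_ker_map π.toLinearMap) hπ (y' - y)).1
        (by rw [map_sub, hyy, sub_self])
      obtain ⟨a, ha⟩ := exists_finsupp A (fun m => MvPolynomial.monomial m (1 : A))
        (by rw [← (MvPolynomial.basisMonomials σ A).span_eq, MvPolynomial.coe_basisMonomials]) y
      obtain ⟨b, hb⟩ := exists_finsupp A _ hK k
      let T : Finset (M ⊕ (J × M)) := a.support.disjSum b.support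
      let T₀ : Finset (M ⊕ (J × M)) := a.support.map Function.Embedding.inl
      let c0 : M ⊕ (J × M) → S := Sum.elim a b
      have hy : y = ∑ x ∈ T₀, c0 x ⊗ₜ[A] q x := by
        rw [ha, Finset.sum_map]
        simp [c0, hql, Finsupp.sum]
        rfl
      have hy' : y' = ∑ x ∈ T, c0 x ⊗ₜ[A] q x := by
        rw [Finset.sum_disjSum, show y' = y + (y' - y) by abel, ← hk, ha, hb]
        simp [c0, hql, Finsupp.sum, map_sum]
      rw [← hpτ, ← hpτ, hy, hy', tl_sum, tl_sum, lTensor_comp', lTensor_comp', map_sum, map_sum]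
      symm
      rw [← Finset.sum_sdiff (s₁ := Fintype.piFinset fun _ : Fin d => T₀) (s₂ := Fintype.piFinset fun _ : Fin d => T)
        (Fintype.piFinset_subset _ _ fun _ x hx => by
          obtain ⟨m, hm, rfl⟩ := Finset.mem_map.1 hx
          exact Finset.inl_mem_disjSum.2 hm), add_eq_right]
      rw [← Finset.sum_fiberwise_of_maps_to (g := cnt)
        (fun x hx => Finset.mem_image_of_mem cnt hx)]
      refine Finset.sum_eq_zero fun o ho => ?_
      obtain ⟨c₁, hc₁, hco⟩ := Finset.mem_image.1 ho
      rw [Finset.mem_sdiff] at hc₁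
      obtain ⟨i, hi⟩ : ∃ i, c₁ i ∉ T₀ := by
        by_contra hall
        push Not at hall
        exact hc₁.2 (Fintype.mem_piFinset.2 hall)
      have hinr : ∃ x, Sum.inr x ∈ o.support := by
        have hT := Fintype.mem_piFinset.1 hc₁.1 i
        rcases hci : c₁ i with m | x
        · rw [hci, Finset.inl_mem_disjSum] at hT
          exact absurd (hci ▸ Finset.mem_map.2 ⟨m, hT, rfl⟩) hi
        · exact ⟨x, hci ▸ hco ▸ mem_support_cnt c₁ i⟩
      have hfilter : ((Fintype.piFinset fun _ : Fin d => T) \ Fintype.piFinset fun _ : Fin d => T₀).filter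
          (fun c => cnt c = o) = words d o := by
        ext c
        simp only [Finset.mem_filter, Finset.mem_sdiff, mem_words]
        refine ⟨fun h => h.2, fun h => ⟨⟨Fintype.mem_piFinset.2 fun j => ?_, fun hc => ?_⟩, h⟩⟩
        · have hcnt := mem_support_cnt c j
          rw [h, ← hco] at hcnt
          exact support_cnt_subset (Fintype.mem_piFinset.1 hc₁.1) hcnt
        · obtain ⟨x, hx⟩ := hinr
          rw [← h] at hx
          obtain ⟨m, -, hm⟩ := Finset.mem_map.1 (support_cnt_subset (Fintype.mem_piFinset.1 hc) hx)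
          exact Sum.inl_ne_inr hm
      rw [hfilter]
      have hconst : ∀ c ∈ words d o, ∏ j, c0 (c j) = ∏ j, c0 (c₁ j) := fun c hc => by
        obtain ⟨e, he⟩ := exists_perm_of_cnt_eq ((mem_words.1 hc).trans hco.symm)
        rw [← he]
        exact Equiv.prod_comp e (fun j => c0 (c₁ j))
      rw [Finset.sum_congr rfl fun c hc => by rw [LinearMap.lTensor_tmul, hconst c hc], ← TensorProduct.tmul_sum,
        ← map_sum, ← orb_eq, LinearMap.comp_apply, AlgHom.toLinearMap_apply]
      rw [hm o hinr, TensorProduct.tmul_zero]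
    intro z hz
    have hzero' : ∀ o : (M ⊕ (J × M)) →₀ ℕ, (∃ x, Sum.inr x ∈ o.support) → mk (p (orb A q o)) = 0 := fun o ho =>
      (hmk _).2 (hI o ho)
    have hindep := indep N₀ mk hzero'
    have hzero := map_eq_zero_of_map_eq_zero γ hγ τ (isGammaD_tau_of_flat A (MvPolynomial σ A) d) π hπ φ hφτ mk
      hindep z hz
    exact (hmk z).1 hzero
  · rw [Ideal.map_le_iff_le_comap, Ideal.span_le]
    rintro _ ⟨o, ⟨x₁, hx₁⟩, rfl⟩
    show φ (Phi R A σ d (W R qh o)) = 0
    rw [hPhiW]
    have key : ∀ q' : M ⊕ (J × M) → MvPolynomial σ A, φ (p (orb A q' o)) = coefT o (γ.law.toFun' _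
        (π.toLinearMap.lTensor _ (∑ x ∈ o.support, (MvPolynomial.X x : MvPolynomial _ A) ⊗ₜ[A] q' x))) := fun q' => by
      rw [← hφτ, ← hpτ, coefT_lTensor, coefT_lTensor]
      rfl
    let q0 : M ⊕ (J × M) → MvPolynomial σ A := fun x => if x = Sum.inr x₁ then 0 else q x
    have hq0 : φ (p (orb A q o)) = φ (p (orb A q0 o)) := by
      rw [key, key]
      congr 2
      simp only [map_sum, LinearMap.lTensor_tmul, AlgHom.toLinearMap_apply]
      refine Finset.sum_congr rfl fun x _ => ?_
      simp only [q0]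
      split_ifs with hx
      · subst hx
        have : x₁.1.1 ∈ RingHom.ker π.toRingHom := hs ▸ Ideal.subset_span x₁.1.2
        rw [hqr, map_mul, show π x₁.1.1 = 0 from this, zero_mul, map_zero]
      · rfl
    rw [hq0, orb_eq, Finset.sum_eq_zero fun c hc => ?_, map_zero, map_zero]
    have hmem : Sum.inr x₁ ∈ (cnt c).support := (mem_words.1 hc).symm ▸ hx₁
    obtain ⟨i, -, hi⟩ : ∃ i ∈ Finset.univ, c i = Sum.inr x₁ := by
      by_contra hall
      push Not at hall
      rw [Finsupp.mem_support_iff, cnt_apply] at hmem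
      exact hmem (Finset.card_eq_zero.2 (Finset.filter_eq_empty_iff.2 fun i hi => hall i hi))
    exact MultilinearMap.map_coord_zero _ i (by simp [q0, hi])

end main

end Groth.Agent.GammaD.FP
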