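import Groth.Agent.Lib.GammaD.Functorial
import Mathlib.RingTheory.Adjoin.Tower
import Mathlib.RingTheory.IntegralClosure.IsIntegralClosure.Basic
import Mathlib.RingTheory.FiniteType
import Mathlib.RingTheory.Polynomial.Basic
import Mathlib.RingTheory.Int.Basic

/-! # Divided powers of an algebra of finite type are of finite type -/

universe u

open scoped TensorProduct

namespace Groth.Agent.GammaD.FT

variable (σ : Type u) (d : ℕ)

/-- The universal polynomial ring. -/
abbrev U := MvPolynomial (Fin d × σ) ℤ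

/-- Permutation of the factors. -/
noncomputable def act (τ : Equiv.Perm (Fin d)) : U σ d →ₐ[ℤ] U σ d :=
  MvPolynomial.rename fun q => (τ q.1, q.2)

/-- The invariants. -/
noncomputable def Fx : Subalgebra ℤ (U σ d) := ⨅ τ, AlgHom.equalizer (act σ d τ) (AlgHom.id ℤ _)

theorem mem_Fx {x : U σ d} : x ∈ Fx σ d ↔ ∀ τ, act σ d τ x = x := by
  simp [Fx, Algebra.mem_iInf]

open Polynomial in
theorem isIntegral_X (q : Fin d × σ) : IsIntegral (Fx σ d) (MvPolynomial.X q : U σ d) := by
  classical
  set p : Polynomial (U σ d) := ∏ j : Fin d, (Polynomial.X - Polynomial.C (MvPolynomial.X (j, q.2))) with hp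
  have hmon : p.Monic := monic_prod_of_monic _ _ fun j _ => monic_X_sub_C _
  have hco : p ∈ Polynomial.lifts (algebraMap (Fx σ d) (U σ d)) := by
    refine (Polynomial.lifts_iff_coeff_lifts _).2 fun k => ⟨⟨p.coeff k, (mem_Fx σ d).2 fun τ => ?_⟩, rfl⟩
    have : p.map (act σ d τ).toRingHom = p := by
      rw [hp, Polynomial.map_prod]
      refine Fintype.prod_equiv τ _ _ fun j => ?_
      simp [act]
    conv_rhs => rw [← this, coeff_map]
    rfl
  obtain ⟨p', hp', -, hp'm⟩ := Polynomial.lifts_and_degree_eq_and_monic hco hmon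
  refine ⟨p', hp'm, ?_⟩
  rw [← Polynomial.eval_map, hp', hp, Polynomial.eval_prod]
  exact Finset.prod_eq_zero (Finset.mem_univ q.1) (by simp)

theorem fg_Fx [Finite σ] : (⊤ : Subalgebra ℤ (Fx σ d)).FG := by
  refine fg_of_fg_of_fg ℤ (Fx σ d) (U σ d) Algebra.FiniteType.out ?_ Subtype.val_injective
  haveI : Algebra.IsIntegral (Fx σ d) (U σ d) := ⟨fun x => by
    induction x using MvPolynomial.induction_on with
    | C n => rw [show (MvPolynomial.C n : U σ d) = algebraMap (Fx σ d) (U σ d) (n : Fx σ d) by simp]; exact isIntegral_algebraMap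
    | add a b ha hb => exact ha.add hb
    | mul_X a q ha => exact ha.mul (isIntegral_X σ d q)⟩
  haveI : Algebra.FiniteType (Fx σ d) (U σ d) :=
    Algebra.FiniteType.of_restrictScalars_finiteType ℤ (Fx σ d) (U σ d)
  exact (Algebra.IsIntegral.finite : Module.Finite (Fx σ d) (U σ d)).fg_top

variable (A : Type u) [CommRing A]

/-- The map to the tensor power of a polynomial ring. -/
noncomputable def toT : U σ d →+* Tpow A (MvPolynomial σ A) d :=
  MvPolynomial.eval₂Hom (Int.castRingHom _) fun q =>
    PiTensorProduct.singleAlgHom (R := A) (A := fun _ : Fin d => MvPolynomial σ A) q.1 (MvPolynomial.X q.2)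

theorem toT_act (τ : Equiv.Perm (Fin d)) (x : U σ d) :
    toT σ d A (act σ d τ x) = SymTen.perm A (MvPolynomial σ A) d τ (toT σ d A x) := by
  classical
  have : (toT σ d A).comp (act σ d τ).toRingHom =
      ((SymTen.perm A (MvPolynomial σ A) d τ) : Tpow A (MvPolynomial σ A) d →+* _).comp (toT σ d A) := by
    refine MvPolynomial.ringHom_ext (fun n => by simp) fun q => ?_
    simp only [RingHom.comp_apply, AlgHom.toRingHom_eq_coe, RingHom.coe_coe, act, MvPolynomial.rename_X, toT,
      MvPolynomial.eval₂Hom_X']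
    show PiTensorProduct.tprod A (MonoidHom.mulSingle (fun _ : Fin d => MvPolynomial σ A) (τ q.1) _) =
      SymTen.perm A (MvPolynomial σ A) d τ
        (PiTensorProduct.tprod A (MonoidHom.mulSingle (fun _ : Fin d => MvPolynomial σ A) q.1 _))
    rw [SymTen.perm_tprod]
    congr 1
    funext l
    by_cases h : l = τ q.1
    · subst h; simp
    · have h' : τ.symm l ≠ q.1 := fun e => h (by rw [← e, Equiv.apply_symm_apply])
      simp [h, h']
  exact RingHom.congr_fun this x

theorem toT_mem (x : Fx σ d) : toT σ d A x ∈ SymTen.TS A (MvPolynomial σ A) d := fun τ => by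
  have := toT_act σ d A τ x
  rw [(mem_Fx σ d).1 x.2 τ, SymTen.perm_apply] at this
  exact this.symm

/-- The invariant lift of an orbit sum. -/
theorem exists_lift_gam (o : (σ →₀ ℕ) →₀ ℕ) :
    ∃ w : Fx σ d, toT σ d A w =
      gam (MvPolynomial.basisMonomials σ A) (tlLaw A (MvPolynomial σ A) d).law o := by
  classical
  set O := (Fintype.piFinset fun _ : Fin d => o.support).filter fun c => cnt c = o with hO
  let term : (Fin d → σ →₀ ℕ) → U σ d := fun c => ∏ i, (c i).prod fun s k => MvPolynomial.X (i, s) ^ k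
  have hmem : ∀ c : Fin d → σ →₀ ℕ, c ∈ O ↔ cnt c = o := fun c => by
    simp only [hO, Finset.mem_filter, Fintype.mem_piFinset]
    exact ⟨fun h => h.2, fun h => ⟨fun i => h ▸ mem_support_cnt c i, h⟩⟩
  have hinv : ∑ c ∈ O, term c ∈ Fx σ d := (mem_Fx σ d).2 fun τ => by
    rw [map_sum]
    refine Finset.sum_nbij' (fun c => c ∘ τ.symm) (fun c => c ∘ τ) (fun c hc => ?_) (fun c hc => ?_)
      (fun c _ => by funext i; simp) (fun c _ => by funext i; simp) fun c _ => ?_
    · rw [hmem] at hc ⊢; rw [← hc]; exact cnt_perm c τ.symm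
    · rw [hmem] at hc ⊢; rw [← hc]; exact cnt_perm c τ
    · simp only [term, map_prod, Finsupp.prod, map_pow, act, MvPolynomial.rename_X]
      exact Fintype.prod_equiv τ _ _ fun i => by simp
  refine ⟨⟨_, hinv⟩, ?_⟩
  set b := Basis.piTensorProduct fun _ : Fin d => MvPolynomial.basisMonomials σ A
  have hterm : ∀ c, toT σ d A (term c) = b c := fun c => by
    rw [Basis.piTensorProduct_apply, ← prod_single, map_prod]
    refine Finset.prod_congr rfl fun i _ => ?_
    simp only [Finsupp.prod, map_prod, map_pow, toT, MvPolynomial.eval₂Hom_X']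
    simp only [← map_pow, ← map_prod]
    congr 1
    rw [MvPolynomial.coe_basisMonomials]
    exact MvPolynomial.prod_X_pow_eq_monomial
  refine b.ext_elem fun c => ?_
  rw [repr_orbit_coef, map_sum, map_sum, Finsupp.finsetSum_apply]
  simp only [hterm, Module.Basis.repr_self, Finsupp.single_apply]
  rw [Finset.sum_ite_eq']
  exact if_congr (hmem c) rfl rfl

theorem finiteType_TS [Finite σ] : Algebra.FiniteType A (SymTen.TS A (MvPolynomial σ A) d) := by
  classical
  obtain ⟨s, hs⟩ := fg_Fx σ d
  let f : Fx σ d →+* SymTen.TS A (MvPolynomial σ A) d :=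
    ((toT σ d A).comp (Fx σ d).val.toRingHom).codRestrict _ fun x => toT_mem σ d A x
  refine ⟨⟨s.image f, eq_top_iff.2 fun v _ => ?_⟩⟩
  set R := Algebra.adjoin A ((s.image f : Finset _) : Set (SymTen.TS A (MvPolynomial σ A) d))
  have hf : ∀ x, f x ∈ R := fun x => by
    have hx : x ∈ Algebra.adjoin ℤ (s : Set (Fx σ d)) := hs ▸ trivial
    induction hx using Algebra.adjoin_induction with
    | mem y hy => exact Algebra.subset_adjoin (Finset.mem_image_of_mem f hy)
    | algebraMap n => rw [eq_intCast, map_intCast]; exact intCast_mem _ n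
    | add a b _ _ ha hb => rw [map_add]; exact add_mem ha hb
    | mul a b _ _ ha hb => rw [map_mul]; exact mul_mem ha hb
  let bM := MvPolynomial.basisMonomials σ A
  let b := Basis.piTensorProduct fun _ : Fin d => bM
  have hv := orbit_decomp bM v.2 ((b.repr v.1).support.image cnt)
    (fun c hc => Finset.mem_image_of_mem cnt hc)
    (fun o ho => by obtain ⟨c, -, rfl⟩ := Finset.mem_image.1 ho; exact cnt_degree c)
  have : v = ∑ o ∈ (b.repr v.1).support.image cnt,
      b.repr v.1 (rep o) • f (exists_lift_gam σ d A o).choose := by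
    refine Subtype.ext (hv.trans ?_)
    rw [AddSubmonoidClass.coe_finsetSum]
    refine Finset.sum_congr rfl fun o _ => ?_
    rw [SetLike.val_smul]
    congr 1
    exact (exists_lift_gam σ d A o).choose_spec.symm
  rw [this]
  exact sum_mem fun o _ => R.smul_mem (hf _) _

theorem finiteType {B C : Type u} [CommRing B] [Algebra A B] [CommRing C] [Algebra A C] {d : ℕ}
    (γ : PolLaw.MulLaw A B C d) (hγ : PolLaw.IsGammaD γ) [h : Algebra.FiniteType A B] :
    Algebra.FiniteType A C := by
  obtain ⟨n, π, hπ⟩ := Algebra.FiniteType.iff_quotient_mvPolynomial''.1 h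
  let π' : MvPolynomial (ULift.{u} (Fin n)) A →ₐ[A] B :=
    π.comp (MvPolynomial.rename ULift.down)
  have hπ' : Function.Surjective π' :=
    hπ.comp (MvPolynomial.rename_surjective _ fun i => ⟨⟨i⟩, rfl⟩)
  obtain ⟨φ, hφ, -⟩ := isGammaD_tau_of_flat A (MvPolynomial (ULift.{u} (Fin n)) A) d C (γ.precomp π')
  haveI := finiteType_TS (ULift.{u} (Fin n)) d A
  exact Algebra.FiniteType.of_surjective φ (surjective_of_surjective hγ π' hπ' φ hφ)

end Groth.Agent.GammaD.FT
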