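import Mathlib.RingTheory.Flat.EquationalCriterion
import Mathlib.LinearAlgebra.TensorPower.Basic
import Mathlib.LinearAlgebra.TensorProduct.Vanishing
import Mathlib.LinearAlgebra.FreeModule.StrongRankCondition

/-! # An element of a tensor power killed in a flat module is killed at a finite free stage -/

universe u

open scoped TensorProduct

namespace Groth.Agent.GammaD

variable {A : Type u} [CommRing A]

/-- The functorial tensor power. -/
noncomputable abbrev pmap (d : ℕ) {X Y : Type u} [AddCommGroup X] [Module A X] [AddCommGroup Y] [Module A Y]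
    (f : X →ₗ[A] Y) : (⨂[A] _ : Fin d, X) →ₗ[A] (⨂[A] _ : Fin d, Y) :=
  PiTensorProduct.map fun _ => f

theorem pmap_comp (d : ℕ) {X Y Z : Type u} [AddCommGroup X] [Module A X] [AddCommGroup Y] [Module A Y]
    [AddCommGroup Z] [Module A Z] (g : Y →ₗ[A] Z) (f : X →ₗ[A] Y) (t : ⨂[A] _ : Fin d, X) :
    pmap d (g ∘ₗ f) t = pmap d g (pmap d f t) := by
  induction t using PiTensorProduct.induction_on with
  | smul_tprod r x => simp [pmap]
  | add x y hx hy => simp only [map_add, hx, hy]

/-- Peeling off the last factor. -/
noncomputable def peel (d : ℕ) (X : Type u) [AddCommGroup X] [Module A X] :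
    ((⨂[A] _ : Fin d, X) ⊗[A] X) ≃ₗ[A] (⨂[A] _ : Fin (d + 1), X) :=
  TensorProduct.congr (LinearEquiv.refl A _)
    (PiTensorProduct.subsingletonEquiv (R := A) (s := fun _ : Fin 1 => X) 0).symm ≪≫ₗ
    TensorPower.mulEquiv

theorem peel_natural (d : ℕ) {X Y : Type u} [AddCommGroup X] [Module A X] [AddCommGroup Y] [Module A Y]
    (f : X →ₗ[A] Y) (w : (⨂[A] _ : Fin d, X) ⊗[A] X) :
    pmap (d + 1) f (peel d X w) = peel d Y (TensorProduct.map (pmap d f) f w) := by
  induction w using TensorProduct.induction_on with
  | zero => simp
  | add a b ha hb => simp only [map_add, ha, hb]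
  | tmul t x =>
    induction t using PiTensorProduct.induction_on with
    | add a b ha hb => simp only [TensorProduct.add_tmul, map_add, ha, hb]
    | smul_tprod r g =>
      simp only [← TensorProduct.smul_tmul', map_smul, TensorProduct.map_tmul]
      congr 1
      simp only [pmap, PiTensorProduct.map_tprod, peel, LinearEquiv.trans_apply,
        TensorProduct.congr_tmul, LinearEquiv.refl_apply, TensorPower.mulEquiv,
        PiTensorProduct.tmulEquiv_apply, PiTensorProduct.subsingletonEquiv_symm_apply,
        PiTensorProduct.reindex_tprod]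
      congr 1
      funext i
      rcases finSumFinEquiv.symm i with a | a
      · simp
      · obtain rfl := Subsingleton.elim a 0
        simp

variable {B : Type u} [AddCommGroup B] [Module A B]

theorem exists_kill_one [Module.Flat A B] {N F : Type u} [AddCommGroup N] [Module A N] [AddCommGroup F]
    [Module A F] [Module.Free A F] [Module.Finite A F] (a : F →ₗ[A] B) (w : N ⊗[A] F)
    (hw : a.lTensor N w = 0) :
    ∃ (F' : Type u) (_ : AddCommGroup F') (_ : Module A F') (_ : Module.Free A F') (_ : Module.Finite A F')
      (a₁ : F →ₗ[A] F') (a₂ : F' →ₗ[A] B), a = a₂ ∘ₗ a₁ ∧ a₁.lTensor N w = 0 := by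
  classical
  let e := Module.Free.chooseBasis A F
  let m : Module.Free.ChooseBasisIndex A F → N := fun i => TensorProduct.equivFinsuppOfBasisRight e w i
  have hw' : w = ∑ i, m i ⊗ₜ[A] e i := by
    conv_lhs => rw [← (TensorProduct.equivFinsuppOfBasisRight e).symm_apply_apply w,
      TensorProduct.equivFinsuppOfBasisRight_symm_apply]
    exact Finsupp.sum_fintype _ _ fun i => TensorProduct.zero_tmul _ _
  have hzero : ∑ i, m i ⊗ₜ[A] a (e i) = (0 : N ⊗[A] B) := by
    rw [hw', map_sum] at hw
    simpa using hw
  obtain ⟨κ, c, y, hy, hc⟩ :=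
    TensorProduct.vanishesTrivially_of_sum_tmul_eq_zero_of_rTensor_injective A
      (Module.Flat.rTensor_preserves_injective_linearMap _ (Submodule.injective_subtype _)) hzero
  refine ⟨Fin κ → A, inferInstance, inferInstance, inferInstance, inferInstance, e.constr A fun i => c i,
    Fintype.linearCombination A y, e.ext fun i => ?_, ?_⟩
  · rw [LinearMap.comp_apply, Module.Basis.constr_basis, Fintype.linearCombination_apply, ← hy i]
  · rw [hw', map_sum]
    simp only [LinearMap.lTensor_tmul, Module.Basis.constr_basis]
    have : ∀ i, m i ⊗ₜ[A] c i = ∑ j, (c i j • m i) ⊗ₜ[A] (Pi.single j (1 : A) : Fin κ → A) := fun i => by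
      conv_lhs => rw [pi_eq_sum_univ' (c i)]
      rw [TensorProduct.tmul_sum]
      exact Finset.sum_congr rfl fun j _ => by rw [TensorProduct.tmul_smul, TensorProduct.smul_tmul']
    simp only [this]
    rw [Finset.sum_comm]
    exact Finset.sum_eq_zero fun j _ => by rw [← TensorProduct.sum_tmul, hc j, TensorProduct.zero_tmul]

theorem exists_kill [Module.Flat A B] : ∀ (d : ℕ) {N F : Type u} [AddCommGroup N] [Module A N]
    [AddCommGroup F] [Module A F] [Module.Free A F] [Module.Finite A F] (a : F →ₗ[A] B)
    (w : N ⊗[A] (⨂[A] _ : Fin d, F)), (pmap d a).lTensor N w = 0 →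
    ∃ (F' : Type u) (_ : AddCommGroup F') (_ : Module A F') (_ : Module.Free A F') (_ : Module.Finite A F')
      (a₁ : F →ₗ[A] F') (a₂ : F' →ₗ[A] B), a = a₂ ∘ₗ a₁ ∧ (pmap d a₁).lTensor N w = 0 := by
  intro d
  induction d with
  | zero =>
    intro N F _ _ _ _ _ _ a w hw
    refine ⟨F, inferInstance, inferInstance, inferInstance, inferInstance, LinearMap.id, a, rfl, ?_⟩
    let e : (⨂[A] _ : Fin 0, F) ≃ₗ[A] A := PiTensorProduct.isEmptyEquiv (Fin 0)
    let e' : (⨂[A] _ : Fin 0, B) ≃ₗ[A] A := PiTensorProduct.isEmptyEquiv (Fin 0)
    have hcomp : pmap 0 a = e'.symm.toLinearMap ∘ₗ e.toLinearMap := by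
      refine PiTensorProduct.ext (MultilinearMap.ext fun x => ?_)
      simp [pmap, e, e']
      congr 1
      exact Subsingleton.elim _ _
    rw [hcomp, LinearMap.lTensor_comp, LinearMap.comp_apply] at hw
    have h1 : e.toLinearMap.lTensor N w = 0 :=
      (LinearEquiv.lTensor N e'.symm).injective (hw.trans (map_zero _).symm)
    have h2 : w = 0 := (LinearEquiv.lTensor N e).injective (h1.trans (map_zero _).symm)
    rw [h2, map_zero]
  | succ d ih =>
    intro N F _ _ _ _ _ _ a w hw
    let w' : (N ⊗[A] (⨂[A] _ : Fin d, F)) ⊗[A] F :=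
      (TensorProduct.assoc A N _ F).symm ((peel d F).symm.toLinearMap.lTensor N w)
    have hnat : ∀ {X Y : Type u} [AddCommGroup X] [Module A X] [AddCommGroup Y] [Module A Y]
        (f : X →ₗ[A] Y) (z : (N ⊗[A] (⨂[A] _ : Fin d, X)) ⊗[A] X),
        (pmap (d + 1) f).lTensor N ((peel d X).toLinearMap.lTensor N (TensorProduct.assoc A N _ X z)) =
          (peel d Y).toLinearMap.lTensor N (TensorProduct.assoc A N _ Y
            (TensorProduct.map ((pmap d f).lTensor N) f z)) := by
      intro X Y _ _ _ _ f z
      induction z using TensorProduct.induction_on with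
      | zero => simp
      | add p q hp hq => simp only [map_add, hp, hq]
      | tmul p x =>
        induction p using TensorProduct.induction_on with
        | zero => simp
        | add p q hp hq => simp only [TensorProduct.add_tmul, map_add, hp, hq]
        | tmul n t =>
          simp only [TensorProduct.assoc_tmul, LinearMap.lTensor_tmul, LinearEquiv.coe_coe,
            TensorProduct.map_tmul]
          rw [peel_natural, TensorProduct.map_tmul]
    have hw' : w = (peel d F).toLinearMap.lTensor N (TensorProduct.assoc A N _ F w') := by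
      simp only [w', LinearEquiv.apply_symm_apply, ← LinearMap.comp_apply, ← LinearMap.lTensor_comp,
        LinearEquiv.comp_symm, LinearMap.lTensor_id, LinearMap.id_apply]
    rw [hw', hnat] at hw
    have h1 : TensorProduct.map ((pmap d a).lTensor N) a w' = 0 := by
      have := (LinearEquiv.lTensor N (peel d B)).injective (hw.trans (map_zero _).symm)
      exact (TensorProduct.assoc A N _ B).injective (this.trans (map_zero _).symm)
    have h2 : a.lTensor _ (((pmap d a).lTensor N).rTensor F w') = 0 := by
      rw [← LinearMap.comp_apply, LinearMap.lTensor_comp_rTensor]; exact h1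
    obtain ⟨F₁, _, _, _, _, a₁, a₂, ha, hk⟩ := exists_kill_one a _ h2
    subst ha
    let u : (N ⊗[A] (⨂[A] _ : Fin d, F₁)) ⊗[A] F₁ := TensorProduct.map ((pmap d a₁).lTensor N) a₁ w'
    have h3 : ((pmap d a₂).lTensor N).rTensor F₁ u = 0 := by
      rw [← hk]
      simp only [u]
      generalize w' = z
      induction z using TensorProduct.induction_on with
      | zero => simp
      | add p q hp hq => simp only [map_add, hp, hq]
      | tmul p x =>
        simp only [TensorProduct.map_tmul, LinearMap.rTensor_tmul, LinearMap.lTensor_tmul]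
        congr 1
        induction p using TensorProduct.induction_on with
        | zero => simp
        | add p q hp hq => simp only [map_add, hp, hq]
        | tmul n t => simp [pmap_comp]
    let sw : ∀ X : Type u, [AddCommGroup X] → [Module A X] →
        (N ⊗[A] X) ⊗[A] F₁ ≃ₗ[A] (N ⊗[A] F₁) ⊗[A] X := fun X _ _ => TensorProduct.rightComm A N X F₁
    have h4 : (pmap d a₂).lTensor (N ⊗[A] F₁) (sw _ u) = 0 := by
      have hsw : ∀ z : (N ⊗[A] (⨂[A] _ : Fin d, F₁)) ⊗[A] F₁,
          (pmap d a₂).lTensor (N ⊗[A] F₁) (sw _ z) = sw _ (((pmap d a₂).lTensor N).rTensor F₁ z) := by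
        intro z
        induction z using TensorProduct.induction_on with
        | zero => simp
        | add p q hp hq => simp only [map_add, hp, hq]
        | tmul p x =>
          induction p using TensorProduct.induction_on with
          | zero => simp
          | add p q hp hq => simp only [TensorProduct.add_tmul, map_add, hp, hq]
          | tmul n t => simp [sw]
      rw [hsw, h3, map_zero]
    obtain ⟨F₂, i₁, i₂, i₃, i₄, a₃, a₄, ha', hk'⟩ := ih a₂ (sw _ u) h4
    refine ⟨F₂, i₁, i₂, i₃, i₄, a₃ ∘ₗ a₁, a₄, by rw [ha', LinearMap.comp_assoc], ?_⟩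
    have h5 : ((pmap d a₃).lTensor N).rTensor F₁ u = 0 := by
      refine (sw (⨂[A] _ : Fin d, F₂)).injective ?_
      rw [map_zero, ← hk']
      generalize u = z
      induction z using TensorProduct.induction_on with
      | zero => simp
      | add p q hp hq => simp only [map_add, hp, hq]
      | tmul p x =>
        induction p using TensorProduct.induction_on with
        | zero => simp
        | add p q hp hq => simp only [TensorProduct.add_tmul, map_add, hp, hq]
        | tmul n t => simp [sw]
    have h6 : TensorProduct.map ((pmap d (a₃ ∘ₗ a₁)).lTensor N) (a₃ ∘ₗ a₁) w' =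
        a₃.lTensor _ (((pmap d a₃).lTensor N).rTensor F₁ u) := by
      simp only [u]
      generalize w' = z
      induction z using TensorProduct.induction_on with
      | zero => simp
      | add p q hp hq => simp only [map_add, hp, hq]
      | tmul p x =>
        simp only [TensorProduct.map_tmul, LinearMap.rTensor_tmul, LinearMap.lTensor_tmul, LinearMap.comp_apply]
        congr 1
        induction p using TensorProduct.induction_on with
        | zero => simp
        | add p q hp hq => simp only [map_add, hp, hq]
        | tmul n t => simp [pmap_comp]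
    rw [hw', hnat, h6, h5]
    simp

end Groth.Agent.GammaD
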