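import Groth.Agent.Lib.GammaD.Tau
import Mathlib.RingTheory.Finiteness.Basic
import Mathlib.RingTheory.Finiteness.Prod
import Mathlib.RingTheory.IntegralClosure.IsIntegralClosure.Basic
import Mathlib.RingTheory.Nilpotent.Basic

/-! # Functorial properties of divided powers of an algebra -/

universe u

open scoped TensorProduct

namespace Groth.Agent.GammaD

variable {A : Type u} [CommRing A] {d : ℕ}

theorem pmap_lTensor_tl {P Q : Type u} [CommRing P] [Algebra A P] [CommRing Q] [Algebra A Q]
    (f : P →ₗ[A] Q) (S : Type u) [CommSemiring S] [Algebra A S] (y : S ⊗[A] P) :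
    (pmap d f).lTensor S (tl A P d S y) = tl A Q d S (f.lTensor S y) := by
  classical
  obtain ⟨T, rfl⟩ := TensorProduct.exists_finset y
  rw [tl_sum, map_sum, map_sum]
  simp only [LinearMap.lTensor_tmul]
  rw [tl_sum]
  exact Finset.sum_congr rfl fun c _ => by simp [pmap]

section transport

variable {B B' C C' : Type u} [CommRing B] [Algebra A B] [CommRing B'] [Algebra A B']
  [CommRing C] [Algebra A C] [CommRing C'] [Algebra A C']

/-- Transport of the representing forms along a linear map of presentations. -/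
theorem G_transport (γ : PolLaw.MulLaw A B C d) (γ' : PolLaw.MulLaw A B' C' d) (φ : C →ₗ[A] C')
    (ℓ : Pres A B' →ₗ[A] Pres A B)
    (h : ∀ (S : Type u) [CommSemiring S] [Algebra A S] (y : S ⊗[A] Pres A B'),
      φ.lTensor S (γ.law.toFun' S ((piP A B).toLinearMap.lTensor S (ℓ.lTensor S y))) =
        γ'.law.toFun' S ((piP A B').toLinearMap.lTensor S y))
    (t : Tpow A (Pres A B') d) : φ (G γ (pmap d ℓ (R t))) = G γ' t := by
  have key := eq_on_orbit (bP A B') (φ ∘ₗ G γ ∘ₗ pmap d ℓ) (G γ') fun T => by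
    rw [LinearMap.lTensor_comp, LinearMap.lTensor_comp, LinearMap.comp_apply, LinearMap.comp_apply,
      pmap_lTensor_tl, G_tl, h, G_tl]
  have := LinearMap.congr_fun key t
  simp only [LinearMap.comp_apply] at this
  rw [this]
  exact G_R γ' t

/-- A surjection of algebras gives a surjection of divided powers. -/
theorem surjective_of_surjective {γ : PolLaw.MulLaw A B C d} {γ' : PolLaw.MulLaw A B' C' d}
    (hγ' : PolLaw.IsGammaD γ') (π : B →ₐ[A] B') (hπ : Function.Surjective π) (φ : C →ₐ[A] C')
    (hφ : PolLaw.postcomp φ.toLinearMap γ.law = (γ'.precomp π).law) : Function.Surjective φ := by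
  let ℓ : Pres A B' →ₗ[A] Pres A B :=
    (bP A B').constr A fun m => secP (Function.surjInv hπ (piP A B' (bP A B' m)))
  have hℓ : π.toLinearMap ∘ₗ (piP A B).toLinearMap ∘ₗ ℓ = (piP A B').toLinearMap := by
    refine (bP A B').ext fun m => ?_
    simp [ℓ, piP_secP, Function.surjInv_eq hπ]
  have h : ∀ (S : Type u) [CommSemiring S] [Algebra A S] (y : S ⊗[A] Pres A B'),
      φ.toLinearMap.lTensor S (γ.law.toFun' S ((piP A B).toLinearMap.lTensor S (ℓ.lTensor S y))) =
        γ'.law.toFun' S ((piP A B').toLinearMap.lTensor S y) := by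
    intro S _ _ y
    have e := congrFun (congrFun (congrFun (congrFun (congrArg PolynomialLaw.toFun' hφ) S) _) _)
      ((piP A B).toLinearMap.lTensor S (ℓ.lTensor S y))
    refine e.trans ?_
    show γ'.law.toFun' S (π.toLinearMap.lTensor S _) = _
    rw [lTensor_comp', lTensor_comp', LinearMap.comp_assoc, hℓ]
  intro x
  obtain ⟨t, rfl⟩ := G_surjective γ' hγ' x
  exact ⟨_, G_transport γ γ' φ.toLinearMap ℓ h t⟩

theorem moduleFinite {γ : PolLaw.MulLaw A B C d} (hγ : PolLaw.IsGammaD γ) [Module.Finite A B] :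
    Module.Finite A C := by
  obtain ⟨n, s, hs⟩ := Module.Finite.exists_fin (R := A) (M := B)
  have hsurj : Function.Surjective (Fintype.linearCombination A s) := by
    rw [← LinearMap.range_eq_top, Fintype.range_linearCombination, hs]
  haveI : Module.Projective A (Pres A B) := Module.Projective.of_free
  obtain ⟨p, hp⟩ := Module.projective_lifting_property (Fintype.linearCombination A s)
    (piP A B).toLinearMap hsurj
  let ι : (Fin n → A) →ₗ[A] Pres A B := Fintype.linearCombination A fun j => secP (s j)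
  have hι : (piP A B).toLinearMap ∘ₗ ι = Fintype.linearCombination A s := by
    refine LinearMap.ext fun v => ?_
    simp [ι, Fintype.linearCombination_apply, piP_secP]
  have h : ∀ (S : Type u) [CommSemiring S] [Algebra A S] (y : S ⊗[A] Pres A B),
      (LinearMap.id : C →ₗ[A] C).lTensor S
        (γ.law.toFun' S ((piP A B).toLinearMap.lTensor S ((ι ∘ₗ p).lTensor S y))) =
        γ.law.toFun' S ((piP A B).toLinearMap.lTensor S y) := by
    intro S _ _ y
    rw [LinearMap.lTensor_id, LinearMap.id_apply, lTensor_comp', ← LinearMap.comp_assoc, hι, hp]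
  haveI : Module.Finite A (⨂[A] _ : Fin d, (Fin n → A)) :=
    Module.Finite.of_basis (Basis.piTensorProduct fun _ : Fin d => Pi.basisFun A (Fin n))
  refine Module.Finite.of_surjective (G γ ∘ₗ pmap d ι) fun x => ?_
  obtain ⟨t, rfl⟩ := G_surjective γ hγ x
  refine ⟨pmap d p (R t), ?_⟩
  rw [LinearMap.comp_apply, ← pmap_comp]
  exact G_transport γ γ LinearMap.id (ι ∘ₗ p) h t

theorem exists_compare {γ : PolLaw.MulLaw A B C d} (hγ : PolLaw.IsGammaD γ) :
    ∃ φ : C →ₐ[A] SymTen.TS A B d, IsCompare γ φ := by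
  obtain ⟨φ, hφ, -⟩ := hγ _ (tau A B d)
  refine ⟨φ, fun S _ _ x => ?_⟩
  have e : φ.toLinearMap.lTensor S (γ.law.toFun' S x) = (tau A B d).law.toFun' S x :=
    congrFun (congrFun (congrFun (congrFun (congrArg PolynomialLaw.toFun' hφ) S) _) _) x
  rw [AlgHom.comp_toLinearMap, ← lTensor_comp', e, tau_val]

theorem isIntegral_tpow [Algebra.IsIntegral A B] (t : Tpow A B d) : IsIntegral A t := by
  induction t using PiTensorProduct.induction_on with
  | smul_tprod r g =>
    refine IsIntegral.smul r ?_
    rw [← prod_single g]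
    exact IsIntegral.prod _ fun l _ =>
      (Algebra.IsIntegral.isIntegral (R := A) (g l)).map
        (PiTensorProduct.singleAlgHom (R := A) (A := fun _ : Fin d => B) l)
  | add x y hx hy => exact hx.add hy

theorem isIntegral {γ : PolLaw.MulLaw A B C d} (hγ : PolLaw.IsGammaD γ) [Algebra.IsIntegral A B] :
    Algebra.IsIntegral A C := by
  obtain ⟨φ, hc⟩ := exists_compare hγ
  refine ⟨fun x => ?_⟩
  obtain ⟨p, hp, he⟩ := (isIntegral_algHom_iff (SymTen.TS A B d).val Subtype.val_injective).1
    (isIntegral_tpow ((φ x : SymTen.TS A B d) : Tpow A B d))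
  refine ⟨p ^ d.factorial, hp.pow _, ?_⟩
  show Polynomial.aeval x (p ^ d.factorial) = 0
  rw [map_pow]
  refine (pow_factorial hγ hc).1 _ ?_
  rw [← Polynomial.aeval_algHom_apply]
  exact he

/-- Two divided power algebras are isomorphic. -/
theorem nonempty_equiv {γ : PolLaw.MulLaw A B C d} (hγ : PolLaw.IsGammaD γ)
    {γ' : PolLaw.MulLaw A B C' d} (hγ' : PolLaw.IsGammaD γ') :
    ∃ e : C ≃ₐ[A] C', PolLaw.postcomp e.toAlgHom.toLinearMap γ.law = γ'.law := by
  obtain ⟨f, hf, -⟩ := hγ C' γ'
  obtain ⟨g, hg, -⟩ := hγ' C γ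
  have key : ∀ {D D' : Type u} [CommRing D] [Algebra A D] [CommRing D'] [Algebra A D']
      {δ : PolLaw.MulLaw A B D d} {δ' : PolLaw.MulLaw A B D' d} (_ : PolLaw.IsGammaD δ)
      {f : D →ₐ[A] D'} (_ : PolLaw.postcomp f.toLinearMap δ.law = δ'.law)
      {g : D' →ₐ[A] D} (_ : PolLaw.postcomp g.toLinearMap δ'.law = δ.law), g.comp f = AlgHom.id A D := by
    intro D D' _ _ _ _ δ δ' hδ f hf g hg
    obtain ⟨u, -, huniq⟩ := hδ D δ
    refine (huniq _ ?_).trans (huniq _ ?_).symm
    · refine PolynomialLaw.ext (funext fun S => funext fun _ => funext fun _ => funext fun x => ?_)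
      show (g.comp f).toLinearMap.lTensor S (δ.law.toFun' S x) = δ.law.toFun' S x
      rw [AlgHom.comp_toLinearMap, ← lTensor_comp']
      have e1 : f.toLinearMap.lTensor S (δ.law.toFun' S x) = δ'.law.toFun' S x :=
        congrFun (congrFun (congrFun (congrFun (congrArg PolynomialLaw.toFun' hf) S) _) _) x
      rw [e1]
      exact congrFun (congrFun (congrFun (congrFun (congrArg PolynomialLaw.toFun' hg) S) _) _) x
    · refine PolynomialLaw.ext (funext fun S => funext fun _ => funext fun _ => funext fun x => ?_)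
      show (AlgHom.id A D).toLinearMap.lTensor S (δ.law.toFun' S x) = δ.law.toFun' S x
      rw [AlgHom.toLinearMap_id, LinearMap.lTensor_id, LinearMap.id_apply]
  exact ⟨AlgEquiv.ofAlgHom f g (key hγ' hg hf) (key hγ hf hg), hf⟩

end transport

section decomp

variable {P : Type u} [CommRing P] [Algebra A P] {M : Type u} [Nonempty M] (bP' : Module.Basis M A P)

theorem rep_eq_self {o : M →₀ ℕ} (ho : o.degree = d) : rep (d := d) (cnt (rep (d := d) o)) = rep (d := d) o := by
  rw [cnt_rep ho]

/-- Invariants of a free algebra are combinations of orbit sums, with coordinates as coefficients. -/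
theorem orbit_decomp {v : Tpow A P d} (hv : v ∈ SymTen.TS A P d) (O : Finset (M →₀ ℕ))
    (hO : ∀ c ∈ ((Basis.piTensorProduct fun _ : Fin d => bP').repr v).support, cnt c ∈ O)
    (hdeg : ∀ o ∈ O, o.degree = d) :
    v = ∑ o ∈ O, (Basis.piTensorProduct fun _ : Fin d => bP').repr v (rep o) •
      gam bP' (tlLaw A P d).law o := by
  classical
  refine (Basis.piTensorProduct fun _ : Fin d => bP').ext_elem fun c => ?_
  rw [map_sum, Finsupp.finsetSum_apply]
  simp only [map_smul, Finsupp.smul_apply, repr_orbit_coef, smul_eq_mul, mul_ite, mul_one, mul_zero]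
  rw [Finset.sum_ite_eq]
  set b := Basis.piTensorProduct fun _ : Fin d => bP' with hb
  obtain ⟨σ, hσ⟩ := exists_perm_of_cnt_eq (cnt_rep (d := d) (cnt_degree c))
  have hinv : b.repr v (rep (cnt c)) = b.repr v c := by
    have key : ∀ (u : Tpow A P d) (e : Fin d → M),
        b.repr (SymTen.perm A P d σ⁻¹ u) e = b.repr u (fun i => e (σ.symm i)) := by
      intro u e
      induction u using PiTensorProduct.induction_on with
      | smul_tprod r f =>
        rw [map_smul, SymTen.perm_tprod, map_smul, map_smul, Finsupp.smul_apply, Finsupp.smul_apply,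
          hb, Basis.piTensorProduct_repr_tprod_apply, Basis.piTensorProduct_repr_tprod_apply]
        congr 1
        exact Fintype.prod_equiv σ _ _ fun i => by simp [Equiv.Perm.inv_def]
      | add x y hx hy => simp only [map_add, Finsupp.add_apply, hx, hy]
    have h2 := key v (rep (d := d) (cnt c))
    rw [SymTen.perm_apply, (SymTen.mem_TS_iff A P d v).1 hv σ⁻¹] at h2
    rw [h2]
    congr 1
    funext i
    have := congrFun hσ (σ.symm i)
    simp only [Function.comp_apply, Equiv.apply_symm_apply] at this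
    exact this.symm
  split
  · exact hinv.symm
  · rename_i hn
    by_contra h
    exact hn (hO c (Finsupp.mem_support_iff.2 h))

theorem gam_mem_TS (o : M →₀ ℕ) : gam bP' (tlLaw A P d).law o ∈ SymTen.TS A P d := gam_orbit_mem_TS bP' o

end decomp

section flat

variable {B : Type u} [CommRing B] [Algebra A B]

theorem exists_invariant_stage_family [Module.Flat A B] :
    ∀ {k : ℕ} (y : Fin k → Tpow A B d), (∀ i, y i ∈ SymTen.TS A B d) →
    ∃ (F : Type u) (_ : AddCommGroup F) (_ : Module A F) (_ : Module.Free A F) (_ : Module.Finite A F)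
      (a : F →ₗ[A] B) (w : Fin k → ⨂[A] _ : Fin d, F), ∀ i, pmap d a (w i) = y i ∧
        ∀ σ : Equiv.Perm (Fin d), PiTensorProduct.reindex A (fun _ : Fin d => F) σ (w i) = w i := by
  intro k
  induction k with
  | zero =>
    intro y _
    exact ⟨Fin 0 → A, inferInstance, inferInstance, inferInstance, inferInstance, 0, Fin.elim0,
      fun i => i.elim0⟩
  | succ k ih =>
    intro y hy
    obtain ⟨F, _, _, _, _, a, w, hw⟩ := ih (fun i => y i.succ) fun i => hy i.succ
    obtain ⟨F', _, _, _, _, a', w', hw', hinv'⟩ := exists_invariant_stage A B d (hy 0)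
    refine ⟨F × F', inferInstance, inferInstance, inferInstance, inferInstance, a.coprod a',
      Fin.cons (pmap d (LinearMap.inr A F F') w') fun i => pmap d (LinearMap.inl A F F') (w i), ?_⟩
    refine Fin.cases ⟨?_, fun σ => ?_⟩ fun i => ⟨?_, fun σ => ?_⟩
    · rw [Fin.cons_zero, ← pmap_comp, LinearMap.coprod_inr, hw']
    · rw [Fin.cons_zero, ← pmap_reindex, hinv' σ]
    · rw [Fin.cons_succ, ← pmap_comp, LinearMap.coprod_inl, (hw i).1]
    · rw [Fin.cons_succ, ← pmap_reindex, (hw i).2 σ]

theorem flat_TS [Module.Flat A B] : Module.Flat A (SymTen.TS A B d) := by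
  classical
  refine Module.Flat.of_forall_isTrivialRelation fun {l f x} hfx => ?_
  obtain ⟨F, _, _, _, _, a, w, hw⟩ := exists_invariant_stage_family (fun i => (x i : Tpow A B d)) fun i => (x i).2
  have hz : pmap d a (∑ i, f i • w i) = 0 := by
    simp only [map_sum, map_smul, fun i => (hw i).1]
    simpa using congrArg Subtype.val hfx
  obtain ⟨F', _, _, _, _, a₁, a₂, rfl, hk⟩ := exists_kill_zero A B d a _ hz
  let e := Module.Free.chooseBasis A F'
  let J := Module.Free.ChooseBasisIndex A F'
  let ι : F' →ₗ[A] MvPolynomial J A := e.constr A MvPolynomial.X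
  let ρ : MvPolynomial J A →ₗ[A] F' :=
    (MvPolynomial.basisMonomials J A).constr A fun m =>
      if h : ∃ j, m = Finsupp.single j 1 then e h.choose else 0
  have hρι : ρ ∘ₗ ι = LinearMap.id := by
    refine e.ext fun j => ?_
    have hX : (MvPolynomial.X j : MvPolynomial J A) = MvPolynomial.basisMonomials J A (Finsupp.single j 1) := by
      simp [MvPolynomial.X]
    rw [LinearMap.comp_apply, LinearMap.id_apply, Module.Basis.constr_basis, hX, Module.Basis.constr_basis]
    have h : ∃ j', (Finsupp.single j 1 : J →₀ ℕ) = Finsupp.single j' 1 := ⟨j, rfl⟩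
    rw [dif_pos h]
    congr 1
    exact ((Finsupp.single_left_inj one_ne_zero).1 h.choose_spec).symm
  let v : Fin l → Tpow A (MvPolynomial J A) d := fun i => pmap d ι (pmap d a₁ (w i))
  let bM := MvPolynomial.basisMonomials J A
  let b := Basis.piTensorProduct fun _ : Fin d => bM
  have hv : ∀ i, v i ∈ SymTen.TS A (MvPolynomial J A) d := fun i σ => by
    simp only [v]
    rw [← pmap_reindex, ← pmap_reindex, (hw i).2 σ]
  let O : Finset ((J →₀ ℕ) →₀ ℕ) := Finset.univ.biUnion fun i => (b.repr (v i)).support.image cnt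
  have hdeg : ∀ o ∈ O, o.degree = d := fun o ho => by
    obtain ⟨i, -, hi⟩ := Finset.mem_biUnion.1 ho
    obtain ⟨c, -, rfl⟩ := Finset.mem_image.1 hi
    exact cnt_degree c
  have hdec : ∀ i, v i = ∑ o ∈ O, b.repr (v i) (rep o) • gam bM (tlLaw A _ d).law o := fun i =>
    orbit_decomp bM (hv i) O (fun c hc =>
      Finset.mem_biUnion.2 ⟨i, Finset.mem_univ i, Finset.mem_image_of_mem cnt hc⟩) hdeg
  let e' := O.equivFin.symm
  refine ⟨O.card, fun i q => b.repr (v i) (rep (e' q).1), fun q =>
    ⟨pmap d (a₂ ∘ₗ ρ) (gam bM (tlLaw A _ d).law (e' q).1), fun σ => ?_⟩, fun i => Subtype.ext ?_, fun q => ?_⟩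
  · rw [← pmap_reindex, gam_orbit_mem_TS bM _ σ]
  · rw [← (hw i).1]
    have : pmap d (a₂ ∘ₗ a₁) (w i) = pmap d (a₂ ∘ₗ ρ) (v i) := by
      simp only [v, ← pmap_comp]
      congr 2
      rw [LinearMap.comp_assoc, show ρ ∘ₗ ι ∘ₗ a₁ = a₁ by rw [← LinearMap.comp_assoc, hρι, LinearMap.id_comp]]
    rw [this]
    conv_lhs => rw [hdec i]
    simp only [map_sum, map_smul, AddSubmonoidClass.coe_finsetSum, SetLike.val_smul]
    rw [← Finset.sum_coe_sort O]
    exact (Equiv.sum_comp e' fun o : O => b.repr (v i) (rep o.1) • pmap d (a₂ ∘ₗ ρ) (gam bM (tlLaw A _ d).law o.1)).symm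
  · have h0 : ∑ i, f i • v i = 0 := by
      simp only [v, ← map_smul, ← map_sum, hk, map_zero]
    have := congrArg (fun z => b.repr z (rep (e' q).1)) h0
    simpa [map_sum, Finsupp.finsetSum_apply] using this

theorem moduleFlat {C : Type u} [CommRing C] [Algebra A C] {γ : PolLaw.MulLaw A B C d}
    (hγ : PolLaw.IsGammaD γ) [Module.Flat A B] : Module.Flat A C := by
  obtain ⟨e, -⟩ := nonempty_equiv hγ (isGammaD_tau_of_flat A B d)
  haveI := flat_TS (A := A) (B := B) (d := d)
  exact Module.Flat.of_linearEquiv e.toLinearEquiv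

end flat

end Groth.Agent.GammaD
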