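import Groth.Agent.Lib.GammaD.Descend
import Mathlib.Data.Fintype.Perm

/-! # The comparison of `Γ^d` with symmetric tensors: spanning, symmetrisation -/

universe u

open scoped TensorProduct

namespace Groth.Agent.GammaD

variable {A : Type u} [CommRing A] {B C : Type u} [CommRing B] [Algebra A B] [CommRing C] [Algebra A C]
  {d : ℕ}

theorem lTensor_comp' {S U V W : Type u} [AddCommMonoid S] [Module A S] [AddCommGroup U] [Module A U]
    [AddCommGroup V] [Module A V] [AddCommGroup W] [Module A W] (g : V →ₗ[A] W) (f : U →ₗ[A] V)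
    (z : S ⊗[A] U) : g.lTensor S (f.lTensor S z) = (g ∘ₗ f).lTensor S z := by
  rw [LinearMap.lTensor_comp, LinearMap.comp_apply]

theorem tmap_tl {P Q : Type u} [CommRing P] [Algebra A P] [CommRing Q] [Algebra A Q] (f : P →ₐ[A] Q)
    (S : Type u) [CommSemiring S] [Algebra A S] (y : S ⊗[A] P) :
    (SymTen.tmap A d f).toLinearMap.lTensor S (tl A P d S y) =
      tl A Q d S (f.toLinearMap.lTensor S y) := by
  classical
  simp only [PolLaw.lTensor_algHom_apply, tl, map_prod]
  refine Finset.prod_congr rfl fun i _ => ?_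
  induction y using TensorProduct.induction_on with
  | zero => simp
  | tmul s b =>
    simp only [Algebra.TensorProduct.map_tmul, AlgHom.id_apply]
    congr 1
    show SymTen.tmap A d f (PiTensorProduct.tprod A (MonoidHom.mulSingle (fun _ : Fin d => P) i b)) =
      PiTensorProduct.tprod A (MonoidHom.mulSingle (fun _ : Fin d => Q) i (f b))
    rw [SymTen.tmap_tprod]
    congr 1
    funext l
    rcases eq_or_ne l i with rfl | hl <;> simp [*]
  | add a b ha hb => simp only [map_add, ha, hb]

theorem tmap_perm {P Q : Type u} [CommRing P] [Algebra A P] [CommRing Q] [Algebra A Q] (f : P →ₐ[A] Q)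
    (σ : Equiv.Perm (Fin d)) (t : Tpow A P d) :
    SymTen.tmap A d f (SymTen.perm A P d σ t) = SymTen.perm A Q d σ (SymTen.tmap A d f t) := by
  rw [SymTen.perm_apply, SymTen.perm_apply, SymTen.tmap_reindex]

theorem piT_surjective :
    Function.Surjective (SymTen.tmap A d (piP A B) : Tpow A (Pres A B) d → Tpow A B d) := by
  intro w
  induction w using PiTensorProduct.induction_on with
  | smul_tprod r b =>
    exact ⟨r • PiTensorProduct.tprod A fun i => secP (b i), by simp [piP_secP]⟩
  | add x y hx hy =>
    obtain ⟨a, rfl⟩ := hx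
    obtain ⟨b, rfl⟩ := hy
    exact ⟨a + b, map_add _ _ _⟩

/-- The sum of all permutations. -/
noncomputable def symL (A P : Type u) [CommRing A] [CommRing P] [Algebra A P] (d : ℕ) :
    Tpow A P d →ₗ[A] Tpow A P d :=
  ∑ σ : Equiv.Perm (Fin d), (SymTen.perm A P d σ).toLinearMap

theorem symL_apply {P : Type u} [CommRing P] [Algebra A P] (t : Tpow A P d) :
    symL A P d t = ∑ σ : Equiv.Perm (Fin d), SymTen.perm A P d σ t := by
  simp [symL]

theorem symL_eq_smul {P : Type u} [CommRing P] [Algebra A P] {t : Tpow A P d}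
    (ht : t ∈ SymTen.TS A P d) : symL A P d t = d.factorial • t := by
  rw [symL_apply, Finset.sum_congr rfl fun σ _ => by rw [SymTen.perm_apply, (SymTen.mem_TS_iff A P d t).1 ht σ],
    Finset.sum_const, Finset.card_univ, Fintype.card_perm, Fintype.card_fin]

theorem perm_perm {P : Type u} [CommRing P] [Algebra A P] (σ τ : Equiv.Perm (Fin d)) (t : Tpow A P d) :
    SymTen.perm A P d σ (SymTen.perm A P d τ t) = SymTen.perm A P d (σ * τ) t := by
  induction t using PiTensorProduct.induction_on with
  | smul_tprod r f => simp [Equiv.Perm.mul_def]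
  | add x y hx hy => simp only [map_add, hx, hy]

theorem symL_mem_TS {P : Type u} [CommRing P] [Algebra A P] (t : Tpow A P d) :
    symL A P d t ∈ SymTen.TS A P d := fun τ => by
  rw [← SymTen.perm_apply, symL_apply, map_sum]
  simp only [perm_perm]
  exact Equiv.sum_comp (Equiv.mulLeft τ) fun σ => SymTen.perm A P d σ t

variable (γ : PolLaw.MulLaw A B C d)

/-- The law on the free algebra. -/
noncomputable def Lp : PolLaw.MulLaw A (Pres A B) C d := γ.precomp (piP A B)

/-- The linear form representing `γ`. -/
noncomputable def G : Tpow A (Pres A B) d →ₗ[A] C := ghat (bP A B) d (Lp γ).law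

/-- The projection to orbit sums. -/
noncomputable abbrev R : Tpow A (Pres A B) d →ₗ[A] Tpow A (Pres A B) d := orbP d (bP A B)

theorem G_tl (S : Type u) [CommSemiring S] [Algebra A S] (y : S ⊗[A] Pres A B) :
    (G γ).lTensor S (tl A _ d S y) = γ.law.toFun' S ((piP A B).toLinearMap.lTensor S y) :=
  key (bP A B) (Lp γ).homog S y

theorem G_R (t : Tpow A (Pres A B) d) : G γ (R t) = G γ t := ghat_orbP (bP A B) (Lp γ).homog t

theorem G_mul {u v : Tpow A (Pres A B) d} (hu : u ∈ SymTen.TS A _ d) (hv : v ∈ SymTen.TS A _ d) :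
    G γ (u * v) = G γ u * G γ v := ghat_mul (bP A B) (Lp γ) hu hv

theorem G_one : G γ 1 = 1 := by
  have := G_tl γ A 1
  have hp : (piP A B).toLinearMap.lTensor A (1 : A ⊗[A] Pres A B) = 1 := by
    rw [PolLaw.lTensor_algHom_apply]; exact map_one _
  rw [tl_one, hp, (γ.mult A).1, Algebra.TensorProduct.one_def, LinearMap.lTensor_tmul,
    Algebra.TensorProduct.one_def] at this
  have := congrArg (TensorProduct.lid A C) this
  simpa only [TensorProduct.lid_tmul, one_smul] using this

/-- The range of `G`, as a subalgebra. -/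
noncomputable def rangeG : Subalgebra A C :=
  (LinearMap.range (G γ)).toSubalgebra ⟨1, G_one γ⟩ (by
    rintro _ _ ⟨a, rfl⟩ ⟨b, rfl⟩
    exact ⟨R a * R b, by
      rw [G_mul γ (orbP_mem_TS (bP A B) a) (orbP_mem_TS (bP A B) b), G_R, G_R]⟩)

theorem G_surjective (hγ : PolLaw.IsGammaD γ) : Function.Surjective (G γ) := by
  let h := (G γ).codRestrict (Subalgebra.toSubmodule (rangeG γ)) fun t => ⟨t, rfl⟩
  have D : Datum (A := A) (B := B) d (N := rangeG γ) h (rangeG γ).val.toLinearMap γ.law :=
    { inj := Subtype.val_injective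
      spec := fun S _ _ y => by
        rw [lTensor_comp']
        exact G_tl γ S y }
  obtain ⟨f, hf, -⟩ := hγ (rangeG γ) (D.mulLaw γ.mult)
  obtain ⟨g, -, hg⟩ := hγ C γ
  have h1 : (rangeG γ).val.comp f = AlgHom.id A C := by
    refine (hg _ ?_).trans (hg _ ?_).symm
    · refine PolynomialLaw.ext (funext fun S => funext fun _ => funext fun _ => funext fun x => ?_)
      show ((rangeG γ).val.comp f).toLinearMap.lTensor S (γ.law.toFun' S x) = γ.law.toFun' S x
      have e := congrFun (congrFun (congrFun (congrFun (congrArg PolynomialLaw.toFun' hf) S) _) _) x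
      rw [AlgHom.comp_toLinearMap, ← lTensor_comp']
      refine Eq.trans (congrArg _ ?_) (D.val_law S x)
      exact e
    · refine PolynomialLaw.ext (funext fun S => funext fun _ => funext fun _ => funext fun x => ?_)
      show (AlgHom.id A C).toLinearMap.lTensor S (γ.law.toFun' S x) = γ.law.toFun' S x
      rw [AlgHom.toLinearMap_id, LinearMap.lTensor_id, LinearMap.id_apply]
  intro x
  obtain ⟨t, ht⟩ := (f x).2
  exact ⟨t, ht.trans (AlgHom.congr_fun h1 x)⟩

section phi

variable (φ : C →ₐ[A] SymTen.TS A B d)

/-- The defining property of the comparison map, on all elements. -/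
def IsCompare : Prop :=
  ∀ (S : Type u) [CommSemiring S] [Algebra A S] (x : S ⊗[A] B),
    ((SymTen.TS A B d).val.comp φ).toLinearMap.lTensor S (γ.law.toFun' S x) = tl A B d S x

variable {γ φ}

theorem isCompare_of (hφ : ∀ (S : Type u) [CommSemiring S] [Algebra A S] (n : ℕ) (s : Fin n → S) (b : Fin n → B),
      ((SymTen.TS A B d).val.comp φ).toLinearMap.lTensor S (γ.law.toFun' S (∑ j, s j ⊗ₜ[A] b j)) =
        ∑ c : Fin d → Fin n, (∏ i, s (c i)) ⊗ₜ[A] PiTensorProduct.tprod A (fun i => b (c i))) :
    IsCompare γ φ := by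
  intro S _ _ x
  classical
  obtain ⟨T, rfl⟩ := TensorProduct.exists_finset x
  rw [← Finset.sum_coe_sort T, ← Equiv.sum_comp T.equivFin.symm, hφ S]
  rw [tl_sum, Fintype.piFinset_univ]

theorem IsCompare.phi_G (hc : IsCompare γ φ) {t : Tpow A (Pres A B) d} (ht : t ∈ SymTen.TS A _ d) :
    (φ (G γ t) : Tpow A B d) = SymTen.tmap A d (piP A B) t := by
  have := eq_on_orbit (bP A B) (((SymTen.TS A B d).val.comp φ).toLinearMap ∘ₗ G γ)
    (SymTen.tmap A d (piP A B)).toLinearMap fun T => by
      rw [← lTensor_comp', G_tl, hc, tmap_tl]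
  have h2 := LinearMap.congr_fun this t
  rw [LinearMap.comp_apply, LinearMap.comp_apply, LinearMap.comp_apply, orbP_eq_self (bP A B) ht] at h2
  exact h2

end phi

/-- The sum over permutations, as a coefficient. -/
theorem G_sym_congr (p p' : Fin d → Pres A B) (hp : ∀ i, piP A B (p i) = piP A B (p' i)) :
    G γ (symL A _ d (PiTensorProduct.tprod A p)) = G γ (symL A _ d (PiTensorProduct.tprod A p')) := by
  classical
  let o1 : ULift.{u} (Fin d) →₀ ℕ := cnt fun i => ULift.up i
  have key : ∀ q : Fin d → Pres A B,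
      coefT o1 ((G γ).lTensor _ (tl A (Pres A B) d (MvPolynomial (ULift.{u} (Fin d)) A)
        (∑ i : ULift.{u} (Fin d), MvPolynomial.X i ⊗ₜ[A] q i.down))) =
      G γ (symL A _ d (PiTensorProduct.tprod A q)) := by
    intro q
    rw [coefT_lTensor, tl_sum, Fintype.piFinset_univ, map_sum, symL_apply]
    congr 1
    simp only [SymTen.perm_tprod]
    rw [← Finset.sum_filter_add_sum_filter_not Finset.univ (fun c : Fin d → ULift.{u} (Fin d) => cnt c = o1)]
    have hz : ∀ c : Fin d → ULift.{u} (Fin d),
        coefT o1 ((∏ i, MvPolynomial.X (R := A) (c i)) ⊗ₜ[A] PiTensorProduct.tprod A fun i => q (c i).down) =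
          if cnt c = o1 then PiTensorProduct.tprod A (fun i => q (c i).down) else 0 := fun c => by
      rw [coefT_tmul, show (∏ i, MvPolynomial.X (R := A) (c i)) = MvPolynomial.monomial (cnt c) 1 by
        rw [cnt, MvPolynomial.monomial_sum_one]; rfl, MvPolynomial.coeff_monomial]
      split <;> simp
    rw [Finset.sum_eq_zero (s := Finset.univ.filter fun c => ¬ cnt c = o1) fun c hc => by
      rw [hz, if_neg (Finset.mem_filter.1 hc).2], add_zero]
    refine (Finset.sum_bij (fun σ _ i => ULift.up ((σ : Equiv.Perm (Fin d)).symm i)) ?_ ?_ ?_ ?_).symm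
    · intro σ _
      simp only [Finset.mem_filter, Finset.mem_univ, true_and, o1]
      exact cnt_perm (fun i => ULift.up i) σ.symm
    · intro σ _ τ _ h
      exact inv_injective (Equiv.ext fun i => congrArg ULift.down (congrFun h i))
    · intro c hc
      obtain ⟨σ, hσ⟩ := exists_perm_of_cnt_eq (Finset.mem_filter.1 hc).2
      refine ⟨σ.symm, Finset.mem_univ _, funext fun i => ?_⟩
      have := congrFun hσ i
      simpa using this
    · intro σ hσ
      rw [hz, if_pos]
      simp only [o1]
      exact cnt_perm (fun i => ULift.up i) σ.symm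
  rw [← key p, ← key p', G_tl, G_tl]
  congr 2
  simp only [map_sum, LinearMap.lTensor_tmul]
  exact Finset.sum_congr rfl fun i _ => by rw [AlgHom.toLinearMap_apply, AlgHom.toLinearMap_apply, hp]

/-- The symmetrisation `⊗^d B → C`. -/
noncomputable def sT : Tpow A B d →ₗ[A] C :=
  PiTensorProduct.lift
    { toFun := fun b => G γ (symL A _ d (PiTensorProduct.tprod A fun i => secP (b i)))
      map_update_add' := fun b i x y => by
        classical
        rw [← map_add, ← map_add]
        rw [G_sym_congr γ _ (Function.update (fun l => secP (b l)) i (secP x + secP y)) (fun l => by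
          rcases eq_or_ne l i with rfl | hl <;> simp [*, piP_secP])]
        congr 2
        rw [MultilinearMap.map_update_add]
        congr 1 <;> · congr 1; funext l; rcases eq_or_ne l i with rfl | hl <;> simp [*]
      map_update_smul' := fun b i c x => by
        classical
        rw [← map_smul, ← map_smul]
        rw [G_sym_congr γ _ (Function.update (fun l => secP (b l)) i (c • secP x)) (fun l => by
          rcases eq_or_ne l i with rfl | hl <;> simp [*, piP_secP])]
        congr 2
        rw [MultilinearMap.map_update_smul]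
        congr 1; congr 1; funext l; rcases eq_or_ne l i with rfl | hl <;> simp [*] }

theorem sT_piT (t : Tpow A (Pres A B) d) :
    sT γ (SymTen.tmap A d (piP A B) t) = G γ (symL A _ d t) := by
  induction t using PiTensorProduct.induction_on with
  | smul_tprod r p =>
    rw [map_smul, map_smul, map_smul, map_smul, SymTen.tmap_tprod, sT, PiTensorProduct.lift.tprod]
    exact congrArg _ (G_sym_congr γ _ _ fun i => piP_secP _)
  | add x y hx hy => simp only [map_add, hx, hy]

theorem factorial_smul_eq_zero (hγ : PolLaw.IsGammaD γ) {φ : C →ₐ[A] SymTen.TS A B d}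
    (hc : IsCompare γ φ) :
    (∀ x : C, φ x = 0 → d.factorial • x = 0) ∧
      (∀ y : SymTen.TS A B d, d.factorial • y ∈ φ.range) := by
  constructor
  · intro x hx
    obtain ⟨t, rfl⟩ := G_surjective γ hγ x
    have hu := orbP_mem_TS (bP A B) (d := d) t
    rw [← G_R γ t] at hx ⊢
    have h1 : SymTen.tmap A d (piP A B) (R t) = 0 := by rw [← hc.phi_G hu, hx]; rfl
    have h2 := sT_piT γ (R t)
    rw [h1, map_zero, symL_eq_smul hu, map_nsmul] at h2
    exact h2.symm
  · intro y
    obtain ⟨t, ht⟩ := piT_surjective (A := A) (B := B) (y : Tpow A B d)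
    refine ⟨G γ (symL A _ d t), Subtype.ext ?_⟩
    show (φ (G γ (symL A _ d t)) : Tpow A B d) = ((d.factorial • y : SymTen.TS A B d) : Tpow A B d)
    rw [hc.phi_G (symL_mem_TS t), symL_apply, map_sum]
    simp only [tmap_perm, ht]
    rw [← symL_apply, symL_eq_smul y.2]
    rfl

end Groth.Agent.GammaD
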