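import Groth.Agent.Lib.GammaD.Functorial
import Mathlib.RingTheory.Spectrum.Prime.Basic
import Mathlib.LinearAlgebra.TensorProduct.Tower
import Mathlib.RingTheory.TensorProduct.Free
import Mathlib.RingTheory.LocalRing.ResidueField.Ideal

/-! # Divided powers of a geometrically reduced flat algebra -/

universe u

open scoped TensorProduct

namespace Groth.Agent.GammaD.GeomRed

variable {A : Type u} [CommRing A] {B : Type u} [CommRing B] [Algebra A B] {d : ℕ}

theorem injective_lTensor_TS [Module.Flat A B] (N : Type u) [AddCommGroup N] [Module A N] :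
    Function.Injective ((SymTen.TS A B d).val.toLinearMap.lTensor N) := by
  classical
  refine (injective_iff_map_eq_zero _).2 fun z hz => ?_
  obtain ⟨T, rfl⟩ := TensorProduct.exists_finset z
  let e0 := T.equivFin.symm
  let y : Fin T.card → SymTen.TS A B d := fun i => (e0 i).1.2
  let n : Fin T.card → N := fun i => (e0 i).1.1
  have hsum : ∑ p ∈ T, p.1 ⊗ₜ[A] p.2 = ∑ i, n i ⊗ₜ[A] y i := by
    rw [← Finset.sum_coe_sort T, ← Equiv.sum_comp e0]
  rw [hsum] at hz ⊢
  obtain ⟨F, _, _, _, _, a, w, hw⟩ :=
    exists_invariant_stage_family (fun i => (y i : Tpow A B d)) fun i => (y i).2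
  have hz' : (pmap d a).lTensor N (∑ i, n i ⊗ₜ[A] w i) = 0 := by
    rw [← hz, map_sum, map_sum]
    exact Finset.sum_congr rfl fun i _ => by simp [(hw i).1]
  obtain ⟨F', _, _, _, _, a₁, a₂, rfl, hk⟩ := exists_kill d a _ hz'
  let e := Module.Free.chooseBasis A F'
  let J := Module.Free.ChooseBasisIndex A F'
  let ι : F' →ₗ[A] MvPolynomial J A := e.constr A MvPolynomial.X
  let ρ : MvPolynomial J A →ₗ[A] F' :=
    (MvPolynomial.basisMonomials J A).constr A fun m =>
      if h : ∃ j, m = Finsupp.single j 1 then e h.choose else 0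
  have hρι : ρ ∘ₗ ι = LinearMap.id := by
    refine e.ext fun j => ?_
    have hX : (MvPolynomial.X j : MvPolynomial J A) = MvPolynomial.basisMonomials J A (Finsupp.single j 1) := by
      simp [MvPolynomial.X]
    rw [LinearMap.comp_apply, LinearMap.id_apply, Module.Basis.constr_basis, hX, Module.Basis.constr_basis]
    have h : ∃ j', (Finsupp.single j 1 : J →₀ ℕ) = Finsupp.single j' 1 := ⟨j, rfl⟩
    rw [dif_pos h]
    congr 1
    exact ((Finsupp.single_left_inj one_ne_zero).1 h.choose_spec).symm
  let v : Fin T.card → Tpow A (MvPolynomial J A) d := fun i => pmap d ι (pmap d a₁ (w i))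
  let bM := MvPolynomial.basisMonomials J A
  let b := Basis.piTensorProduct fun _ : Fin d => bM
  have hv : ∀ i, v i ∈ SymTen.TS A (MvPolynomial J A) d := fun i σ => by
    simp only [v]
    rw [← pmap_reindex, ← pmap_reindex, (hw i).2 σ]
  let O : Finset ((J →₀ ℕ) →₀ ℕ) := Finset.univ.biUnion fun i => (b.repr (v i)).support.image cnt
  have hdeg : ∀ o ∈ O, o.degree = d := fun o ho => by
    obtain ⟨i, -, hi⟩ := Finset.mem_biUnion.1 ho
    obtain ⟨c, -, rfl⟩ := Finset.mem_image.1 hi
    exact cnt_degree c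
  have hdec : ∀ i, v i = ∑ o ∈ O, b.repr (v i) (rep o) • gam bM (tlLaw A _ d).law o := fun i =>
    orbit_decomp bM (hv i) O (fun c hc =>
      Finset.mem_biUnion.2 ⟨i, Finset.mem_univ i, Finset.mem_image_of_mem cnt hc⟩) hdeg
  let g : ((J →₀ ℕ) →₀ ℕ) → SymTen.TS A B d := fun o =>
    ⟨pmap d (a₂ ∘ₗ ρ) (gam bM (tlLaw A _ d).law o), fun σ => by rw [← pmap_reindex, gam_orbit_mem_TS bM _ σ]⟩
  have hy : ∀ i, y i = ∑ o ∈ O, b.repr (v i) (rep o) • g o := fun i => by
    refine Subtype.ext ?_
    rw [← (hw i).1]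
    have : pmap d (a₂ ∘ₗ a₁) (w i) = pmap d (a₂ ∘ₗ ρ) (v i) := by
      simp only [v, ← pmap_comp]
      congr 2
      rw [LinearMap.comp_assoc, show ρ ∘ₗ ι ∘ₗ a₁ = a₁ by rw [← LinearMap.comp_assoc, hρι, LinearMap.id_comp]]
    rw [this]
    conv_lhs => rw [hdec i]
    simp only [map_sum, map_smul, AddSubmonoidClass.coe_finsetSum, SetLike.val_smul, g]
  have h0 : ∑ i, n i ⊗ₜ[A] v i = 0 := by
    have := congrArg ((pmap d ι).lTensor N) hk
    simpa [v, map_sum] using this
  have hcoef : ∀ o, ∑ i, b.repr (v i) (rep o) • n i = 0 := fun o => by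
    have := congrArg (fun z => TensorProduct.rid A N (((Finsupp.lapply (rep o)) ∘ₗ b.repr.toLinearMap).lTensor N z)) h0
    simpa [map_sum] using this
  simp only [hy, TensorProduct.tmul_sum, ← TensorProduct.smul_tmul]
  rw [Finset.sum_comm]
  exact Finset.sum_eq_zero fun o _ => by rw [← TensorProduct.sum_tmul, hcoef, TensorProduct.zero_tmul]

theorem isReduced_tensor {K : Type u} [Field K] [Algebra A K] {R : Type u} [CommRing R] [Algebra A R]
    [Algebra K R] [IsScalarTower A K R] [IsReduced R]
    (hred : ∀ (L : Type u) [Field L] [Algebra A L], IsReduced (L ⊗[A] B)) : IsReduced (R ⊗[A] B) := by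
  classical
  let e := Module.Free.chooseBasis K (K ⊗[A] B)
  let c : ∀ (S : Type u) [CommRing S] [Algebra A S] [Algebra K S] [IsScalarTower A K S],
      Module.Basis (Module.Free.ChooseBasisIndex K (K ⊗[A] B)) S (S ⊗[A] B) := fun S _ _ _ _ =>
    (Algebra.TensorProduct.basis S e).map (TensorProduct.AlgebraTensorModule.cancelBaseChange A K S S B)
  refine ⟨fun z hz => (c R).ext_elem fun i => ?_⟩
  rw [map_zero, Finsupp.zero_apply]
  refine IsNilpotent.eq_zero ?_
  rw [nilpotent_iff_mem_prime]
  intro p hp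
  let L := p.ResidueField
  let φ : R →ₐ[K] L := IsScalarTower.toAlgHom K R L
  have hnat : ∀ w : R ⊗[K] (K ⊗[A] B), (φ.restrictScalars A).toLinearMap.rTensor B
      (TensorProduct.AlgebraTensorModule.cancelBaseChange A K R R B w) =
      TensorProduct.AlgebraTensorModule.cancelBaseChange A K L L B (φ.toLinearMap.rTensor (K ⊗[A] B) w) := by
    intro w
    induction w using TensorProduct.induction_on with
    | zero => simp
    | add a b ha hb => simp only [map_add, ha, hb]
    | tmul t v =>
      induction v using TensorProduct.induction_on with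
      | zero => simp
      | add a b ha hb => simp only [TensorProduct.tmul_add, map_add, ha, hb]
      | tmul c m => simp
  have hrepr : φ ((c R).repr z i) = (c L).repr ((φ.restrictScalars A).toLinearMap.rTensor B z) i := by
    obtain ⟨w, rfl⟩ := (TensorProduct.AlgebraTensorModule.cancelBaseChange A K R R B).surjective z
    rw [hnat]
    simp only [c, Module.Basis.map_repr, LinearEquiv.trans_apply, LinearEquiv.symm_apply_apply]
    clear hz
    induction w using TensorProduct.induction_on with
    | zero => simp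
    | add a b ha hb => simp only [map_add, Finsupp.add_apply, ha, hb]
    | tmul t v => simp [Algebra.TensorProduct.basis_repr_tmul, Finsupp.smul_apply, Finsupp.mapRange_apply]
  haveI := hred L
  have h0 : (φ.restrictScalars A).toLinearMap.rTensor B z = 0 := by
    rw [show (φ.restrictScalars A).toLinearMap.rTensor B z =
      Algebra.TensorProduct.map (φ.restrictScalars A) (AlgHom.id A B) z from rfl]
    exact (hz.map _).eq_zero
  rw [h0, map_zero, Finsupp.zero_apply] at hrepr
  exact (Ideal.Quotient.eq_zero_iff_mem).1 ((IsFractionRing.injective (R ⧸ p) L) (hrepr.trans (map_zero _).symm))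

/-- The algebra map out of the tensor power given by its restrictions to the factors. -/
noncomputable def multi {n : ℕ} {D : Type u} [CommRing D] [Algebra A D] (g : Fin n → (B →ₐ[A] D)) :
    Tpow A B n →ₐ[A] D :=
  PiTensorProduct.liftAlgHom ((MultilinearMap.mkPiAlgebra A (Fin n) D).compLinearMap fun i => (g i).toLinearMap)
    (by simp) (by intro x y; simp [Finset.prod_mul_distrib])

theorem multi_tprod {n : ℕ} {D : Type u} [CommRing D] [Algebra A D] (g : Fin n → (B →ₐ[A] D)) (f : Fin n → B) :
    multi g (PiTensorProduct.tprod A f) = ∏ i, g i (f i) := by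
  exact (PiTensorProduct.lift.tprod f).trans (by simp)

theorem tpow_ext {n : ℕ} {D : Type u} [CommRing D] [Algebra A D] {f g : Tpow A B n →ₐ[A] D}
    (h : ∀ i b, f (PiTensorProduct.singleAlgHom (R := A) (A := fun _ : Fin n => B) i b) =
      g (PiTensorProduct.singleAlgHom (R := A) (A := fun _ : Fin n => B) i b)) : f = g := by
  refine AlgHom.ext fun t => ?_
  induction t using PiTensorProduct.induction_on with
  | smul_tprod r x => rw [map_smul, map_smul, ← prod_single, map_prod, map_prod, Finset.prod_congr rfl fun i _ => h i (x i)]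
  | add a b ha hb => rw [map_add, map_add, ha, hb]

theorem multi_single {n : ℕ} {D : Type u} [CommRing D] [Algebra A D] (g : Fin n → (B →ₐ[A] D)) (i : Fin n) (b : B) :
    multi g (PiTensorProduct.singleAlgHom (R := A) (A := fun _ : Fin n => B) i b) = g i b := by
  classical
  show multi g (PiTensorProduct.tprod A (MonoidHom.mulSingle (fun _ : Fin n => B) i b)) = g i b
  rw [multi_tprod, Finset.prod_eq_single i (fun j _ hj => by simp [hj]) (fun h => absurd (Finset.mem_univ i) h)]
  simp

theorem isReduced_step {K : Type u} [CommRing K] [Algebra A K] {D : Type u} [CommRing D] [Algebra A D] [IsReduced D]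
    {n : ℕ} (jK : K →ₐ[A] D) (jT : Tpow A B n →ₐ[A] D) (jB : B →ₐ[A] D) (g : D →ₐ[A] K ⊗[A] Tpow A B (n + 1))
    (hK : ∀ k, g (jK k) = k ⊗ₜ[A] 1)
    (hT : ∀ i b, g (jT (PiTensorProduct.singleAlgHom (R := A) (A := fun _ : Fin n => B) i b)) =
      1 ⊗ₜ[A] PiTensorProduct.singleAlgHom (R := A) (A := fun _ : Fin (n + 1) => B) (Fin.castSucc i) b)
    (hB : ∀ b, g (jB b) = 1 ⊗ₜ[A] PiTensorProduct.singleAlgHom (R := A) (A := fun _ : Fin (n + 1) => B) (Fin.last n) b) :
    IsReduced (K ⊗[A] Tpow A B (n + 1)) := by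
  let f : K ⊗[A] Tpow A B (n + 1) →ₐ[A] D :=
    Algebra.TensorProduct.productMap jK
      (multi (Fin.lastCases (motive := fun _ => B →ₐ[A] D) jB fun i =>
        jT.comp (PiTensorProduct.singleAlgHom (R := A) (A := fun _ : Fin n => B) i)))
  have hgf : g.comp f = AlgHom.id A _ := by
    refine Algebra.TensorProduct.ext (AlgHom.ext fun k => ?_) (tpow_ext fun i b => ?_)
    · simp [f, hK]
    · refine Fin.lastCases ?_ (fun j => ?_) i
      · simp only [f, AlgHom.comp_apply, AlgHom.restrictScalars_apply, Algebra.TensorProduct.includeRight_apply,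
          Algebra.TensorProduct.productMap_apply_tmul, map_one, one_mul, multi_single, Fin.lastCases_last,
          AlgHom.id_apply, hB]
      · simp only [f, AlgHom.comp_apply, AlgHom.restrictScalars_apply, Algebra.TensorProduct.includeRight_apply,
          Algebra.TensorProduct.productMap_apply_tmul, map_one, one_mul, multi_single, Fin.lastCases_castSucc,
          AlgHom.id_apply, hT]
  exact isReduced_of_injective f (Function.LeftInverse.injective (g := g) fun z => AlgHom.congr_fun hgf z)

theorem isReduced_tpow {K : Type u} [Field K] [Algebra A K]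
    (hred : ∀ (L : Type u) [Field L] [Algebra A L], IsReduced (L ⊗[A] B)) :
    ∀ n : ℕ, IsReduced (K ⊗[A] Tpow A B n) := by
  intro n
  induction n with
  | zero =>
    let f : K ⊗[A] Tpow A B 0 →ₐ[A] K :=
      Algebra.TensorProduct.productMap (AlgHom.id A K) ((Algebra.ofId A K).comp (multi (n := 0) fun i => i.elim0))
    let g : K →ₐ[A] K ⊗[A] Tpow A B 0 := Algebra.TensorProduct.includeLeft
    have hgf : g.comp f = AlgHom.id A _ := by
      refine Algebra.TensorProduct.ext (AlgHom.ext fun k => by simp [f, g]) (tpow_ext fun i => i.elim0)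
    exact isReduced_of_injective f (Function.LeftInverse.injective (g := g) fun z => AlgHom.congr_fun hgf z)
  | succ n ih =>
    let emb : Tpow A B n →ₐ[A] Tpow A B (n + 1) :=
      multi fun i => PiTensorProduct.singleAlgHom (R := A) (A := fun _ : Fin (n + 1) => B) i.castSucc
    let g : (K ⊗[A] Tpow A B n) ⊗[A] B →ₐ[A] K ⊗[A] Tpow A B (n + 1) :=
      Algebra.TensorProduct.productMap (Algebra.TensorProduct.map (AlgHom.id A K) emb)
        (Algebra.TensorProduct.includeRight.comp
          (PiTensorProduct.singleAlgHom (R := A) (A := fun _ : Fin (n + 1) => B) (Fin.last n)))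
    have hg1 : ∀ (k : K) (t : Tpow A B n) (b : B), g ((k ⊗ₜ[A] t) ⊗ₜ[A] b) = (k ⊗ₜ[A] emb t) *
        ((1 : K) ⊗ₜ[A] PiTensorProduct.singleAlgHom (R := A) (A := fun _ : Fin (n + 1) => B) (Fin.last n) b) :=
      fun k t b => rfl
    haveI := ih
    haveI := isReduced_tensor (K := K) (R := K ⊗[A] Tpow A B n) hred
    refine isReduced_step (D := (K ⊗[A] Tpow A B n) ⊗[A] B)
      ((Algebra.TensorProduct.includeLeft : K ⊗[A] Tpow A B n →ₐ[A] (K ⊗[A] Tpow A B n) ⊗[A] B).comp
        Algebra.TensorProduct.includeLeft)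
      ((Algebra.TensorProduct.includeLeft : K ⊗[A] Tpow A B n →ₐ[A] (K ⊗[A] Tpow A B n) ⊗[A] B).comp
        Algebra.TensorProduct.includeRight)
      Algebra.TensorProduct.includeRight g (fun k => ?_) (fun i b => ?_) (fun b => ?_)
    · show g ((k ⊗ₜ[A] 1) ⊗ₜ[A] 1) = _
      rw [hg1, map_one, map_one, Algebra.TensorProduct.tmul_mul_tmul, mul_one, mul_one]
    · show g (((1 : K) ⊗ₜ[A] _) ⊗ₜ[A] (1 : B)) = _
      rw [hg1, map_one, Algebra.TensorProduct.tmul_mul_tmul, mul_one, mul_one]
      exact congrArg _ (multi_single _ i b)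
    · show g (((1 : K) ⊗ₜ[A] (1 : Tpow A B n)) ⊗ₜ[A] b) = _
      rw [hg1, map_one, Algebra.TensorProduct.tmul_mul_tmul, one_mul, one_mul]

theorem main {C : Type u} [CommRing C] [Algebra A C] {γ : PolLaw.MulLaw A B C d} (hγ : PolLaw.IsGammaD γ)
    [Module.Flat A B] (hred : ∀ (K : Type u) [Field K] [Algebra A K], IsReduced (K ⊗[A] B))
    (K : Type u) [Field K] [Algebra A K] : IsReduced (K ⊗[A] C) := by
  obtain ⟨e, -⟩ := nonempty_equiv hγ (isGammaD_tau_of_flat A B d)
  haveI := isReduced_tpow (K := K) hred d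
  have h1 : Function.Injective (Algebra.TensorProduct.map (AlgHom.id A K) (SymTen.TS A B d).val) :=
    injective_lTensor_TS (d := d) K
  have h2 : Function.Injective (Algebra.TensorProduct.map (AlgHom.id A K) e.toAlgHom) :=
    (LinearEquiv.lTensor K e.toLinearEquiv).injective
  exact isReduced_of_injective
    ((Algebra.TensorProduct.map (AlgHom.id A K) (SymTen.TS A B d).val).comp
      (Algebra.TensorProduct.map (AlgHom.id A K) e.toAlgHom)) (h1.comp h2)

end Groth.Agent.GammaD.GeomRed
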