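import Groth.Agent.Lib.GammaD.Kernel2
import Mathlib.RingTheory.LocalRing.ResidueField.Fiber
import Mathlib.RingTheory.Spectrum.Prime.Topology
import Mathlib.RingTheory.TensorProduct.Quotient
import Mathlib.LinearAlgebra.TensorProduct.RightExactness
import Mathlib.FieldTheory.IsAlgClosed.AlgebraicClosure
import Mathlib.FieldTheory.SeparableDegree
import Mathlib.RingTheory.IntegralClosure.IsIntegralClosure.Basic

/-! # The image of a scalar multiplicative law: finite fibres, openness -/

universe u

open scoped TensorProduct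

namespace Groth.Agent.GammaD

/-- At most `d` elements, from the absence of `d + 1` distinct ones. -/
theorem finite_and_card_le {X : Type*} {d : ℕ}
    (h : ∀ g : Fin (d + 1) → X, Function.Injective g → False) : Finite X ∧ Nat.card X ≤ d := by
  have hf : Finite X := by
    by_contra hX
    haveI := not_finite_iff_infinite.1 hX
    exact h (fun i => Infinite.natEmbedding X i) ((Infinite.natEmbedding X).injective.comp Fin.val_injective)
  refine ⟨hf, ?_⟩
  by_contra hc
  haveI := Fintype.ofFinite X
  rw [Nat.card_eq_fintype_card] at hc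
  obtain ⟨e⟩ : Nonempty (Fin (d + 1) ↪ X) :=
    Function.Embedding.nonempty_of_card_le (by rw [Fintype.card_fin]; omega)
  exact h e e.injective

theorem finite_and_card_le_of_injective {X Y : Type*} {d : ℕ} (hY : Finite Y ∧ Nat.card Y ≤ d)
    (f : X → Y) (hf : Function.Injective f) : Finite X ∧ Nat.card X ≤ d := by
  haveI := hY.1
  exact ⟨Finite.of_injective f hf, (Nat.card_le_card_of_injective f hf).trans hY.2⟩

/-- Over a field, an integral algebra has no more primes than geometric points. -/
theorem primes_card_le {K : Type*} [Field K] {Q : Type*} [CommRing Q] [Algebra K Q] [Algebra.IsIntegral K Q]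
    {d : ℕ} (h : Finite (Q →ₐ[K] AlgebraicClosure K) ∧ Nat.card (Q →ₐ[K] AlgebraicClosure K) ≤ d) :
    Finite (PrimeSpectrum Q) ∧ Nat.card (PrimeSpectrum Q) ≤ d := by
  have hex : ∀ P : PrimeSpectrum Q, ∃ g : Q →ₐ[K] AlgebraicClosure K, RingHom.ker g = P.asIdeal := by
    intro P
    haveI : Algebra.IsIntegral K (Q ⧸ P.asIdeal) :=
      Algebra.IsIntegral.of_surjective (Ideal.Quotient.mkₐ K P.asIdeal) (Ideal.Quotient.mkₐ_surjective K _)
    haveI : P.asIdeal.IsMaximal := Ideal.Quotient.maximal_of_isField _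
      (isField_of_isIntegral_of_isField' (R := K) (Field.toIsField K))
    letI := Ideal.Quotient.field P.asIdeal
    let ι : Q ⧸ P.asIdeal →ₐ[K] AlgebraicClosure K := IsAlgClosed.lift
    refine ⟨ι.comp (Ideal.Quotient.mkₐ K P.asIdeal), ?_⟩
    ext x
    rw [RingHom.mem_ker, AlgHom.comp_apply, map_eq_zero, Ideal.Quotient.mkₐ_eq_mk,
      Ideal.Quotient.eq_zero_iff_mem]
  choose g hg using hex
  exact finite_and_card_le_of_injective h g fun P P' e => PrimeSpectrum.ext (by rw [← hg P, ← hg P', e])

section Fibres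

variable {R : Type u} [CommRing R] {Q : Type u} [CommRing Q] [Algebra R Q] [Algebra.IsIntegral R Q]

/-- Fibres of an integral algebra with few geometric points are small. -/
theorem fibre_card_le {d : ℕ}
    (h : ∀ (L : Type u) [Field L] [Algebra R L], Finite (Q →ₐ[R] L) ∧ Nat.card (Q →ₐ[R] L) ≤ d)
    (q : PrimeSpectrum R) :
    Finite (PrimeSpectrum.comap (algebraMap R Q) ⁻¹' {q}) ∧
      Nat.card (PrimeSpectrum.comap (algebraMap R Q) ⁻¹' {q}) ≤ d := by
  refine finite_and_card_le_of_injective (primes_card_le (K := q.asIdeal.ResidueField) ?_)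
    (PrimeSpectrum.preimageEquivFiber R Q q) (Equiv.injective _)
  refine finite_and_card_le_of_injective (h (AlgebraicClosure q.asIdeal.ResidueField))
    (fun g => (g.restrictScalars R).comp Algebra.TensorProduct.includeRight) fun g g' e => ?_
  exact Algebra.TensorProduct.ext (Subsingleton.elim _ _) e

end Fibres

variable {A : Type u} [CommRing A] {B : Type u} [CommRing B] [Algebra A B] {d : ℕ}
  {F : PolLaw.MulLaw A B A d}

variable (F) in
/-- The base change of the projection to the image. -/
noncomputable def piI (A' : Type u) [CommRing A'] [Algebra A A'] :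
    A' ⊗[A] B →ₐ[A'] A' ⊗[A] PolLaw.image F.law :=
  Algebra.TensorProduct.map (AlgHom.id A' A') (Ideal.Quotient.mkₐ A (PolLaw.ker F.law))

section base

variable {A' : Type u} [CommRing A'] [Algebra A A']

theorem piI_surjective : Function.Surjective (piI F A') :=
  TensorProduct.map_surjective (g := LinearMap.id) Function.surjective_id Ideal.Quotient.mk_surjective

theorem piI_eq_zero {y : A' ⊗[A] B} :
    piI F A' y = 0 ↔
      y ∈ (PolLaw.ker F.law).map (Algebra.TensorProduct.includeRight : B →ₐ[A] A' ⊗[A] B) := by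
  have h := Algebra.TensorProduct.map_ker (R := A) (f := AlgHom.id A A') (g := Ideal.Quotient.mkₐ A (PolLaw.ker F.law))
    Function.surjective_id Ideal.Quotient.mk_surjective
  have h0 : RingHom.ker (AlgHom.id A A') = ⊥ := (RingHom.injective_iff_ker_eq_bot _).1 Function.injective_id
  have h1 : RingHom.ker (Ideal.Quotient.mkₐ A (PolLaw.ker F.law)) = PolLaw.ker F.law := Ideal.mk_ker
  rw [h0, Ideal.map_bot, bot_sup_eq, h1] at h
  exact RingHom.mem_ker.symm.trans (SetLike.ext_iff.1 h y)

theorem aeval_piI_chi (y : A' ⊗[A] B) : Polynomial.aeval (piI F A' y) (chi F A' y) = 0 := by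
  rw [Polynomial.aeval_algHom_apply, piI_eq_zero]
  exact aeval_chi_mem_map_ker y

variable (F A') in
theorem isIntegral_baseChange : Algebra.IsIntegral A' (A' ⊗[A] PolLaw.image F.law) := by
  refine ⟨fun x => ?_⟩
  obtain ⟨y, rfl⟩ := piI_surjective x
  refine ⟨_, monic_C_mul_chi (F := F) y, ?_⟩
  show Polynomial.aeval (piI F A' y) _ = 0
  rw [map_mul, aeval_piI_chi, mul_zero]

end base

/-- There are at most `d` points of the image over a field-valued point of the base. -/
theorem natCard_algHom_le (L : Type u) [Field L] [Algebra A L] :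
    Finite (PolLaw.image F.law →ₐ[A] L) ∧ Nat.card (PolLaw.image F.law →ₐ[A] L) ≤ d := by
  classical
  refine finite_and_card_le fun g hg => ?_
  have hsep : ∀ i j, ∃ b : B, i ≠ j → g i (Ideal.Quotient.mk _ b) ≠ g j (Ideal.Quotient.mk _ b) := by
    intro i j
    by_cases hij : i = j
    · exact ⟨0, fun h => absurd hij h⟩
    obtain ⟨x, hx⟩ := DFunLike.exists_ne (hg.ne hij)
    obtain ⟨b, rfl⟩ := Ideal.Quotient.mk_surjective x
    exact ⟨b, fun _ => hx⟩
  choose b hb using hsep
  let e := Fintype.equivFin (Fin (d + 1) × Fin (d + 1))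
  let y : Polynomial L ⊗[A] B :=
    ∑ p : Fin (d + 1) × Fin (d + 1), (Polynomial.X ^ (e p : ℕ) : Polynomial L) ⊗ₜ[A] b p.1 p.2
  let h : Fin (d + 1) → Polynomial L ⊗[A] PolLaw.image F.law →ₐ[Polynomial L] Polynomial L := fun i =>
    Algebra.TensorProduct.lift (Algebra.ofId _ _) ((IsScalarTower.toAlgHom A L (Polynomial L)).comp (g i))
      fun _ _ => Commute.all _ _
  let r : Fin (d + 1) → Polynomial L := fun i => h i (piI F _ y)
  have hr : ∀ i, r i = ∑ p : Fin (d + 1) × Fin (d + 1),
      Polynomial.X ^ (e p : ℕ) * Polynomial.C (g i (Ideal.Quotient.mk _ (b p.1 p.2))) := fun i => by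
    simp [r, h, y, piI]
  have hinj : Function.Injective r := by
    intro i j hij
    by_contra hne
    refine hb i j hne ?_
    have := congrArg (fun q => Polynomial.coeff q (e (i, j) : ℕ)) hij
    simpa [hr, Polynomial.coeff_X_pow_mul', Polynomial.finsetSum_coeff, Polynomial.coeff_C, Fin.val_inj,
      Polynomial.coeff_X_pow, eq_comm (a := e (i, j))] using this
  have hroot : ∀ i, (chi F _ y).eval (r i) = 0 := fun i => by
    rw [← Polynomial.coe_aeval_eq_eval, Polynomial.aeval_algHom_apply, aeval_piI_chi, map_zero]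
  have hne : chi F (Polynomial L) y ≠ 0 := fun h0 => by
    have := coeff_chi_top (F := F) y
    rw [h0, Polynomial.coeff_zero] at this
    exact pow_ne_zero d (neg_ne_zero.2 one_ne_zero) this.symm
  refine hne (Polynomial.eq_zero_of_natDegree_lt_card_of_eval_eq_zero _ hinj hroot ?_)
  rw [Fintype.card_fin]
  exact Nat.lt_succ_of_le (natDegree_chi_le y)

theorem baseChange_algHom_le (A' : Type u) [CommRing A'] [Algebra A A'] (L : Type u) [Field L]
    [Algebra A' L] :
    Finite (A' ⊗[A] PolLaw.image F.law →ₐ[A'] L) ∧ Nat.card (A' ⊗[A] PolLaw.image F.law →ₐ[A'] L) ≤ d := by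
  letI : Algebra A L := ((algebraMap A' L).comp (algebraMap A A')).toAlgebra
  haveI : IsScalarTower A A' L := IsScalarTower.of_algebraMap_eq fun _ => rfl
  refine finite_and_card_le_of_injective (natCard_algHom_le (F := F) L)
    (fun g => (g.restrictScalars A).comp Algebra.TensorProduct.includeRight) fun g g' e => ?_
  exact Algebra.TensorProduct.ext (Subsingleton.elim _ _) e

theorem spec_fieldBaseChange (K : Type u) [Field K] [Algebra A K] :
    Finite (PrimeSpectrum (K ⊗[A] PolLaw.image F.law)) ∧
      Nat.card (PrimeSpectrum (K ⊗[A] PolLaw.image F.law)) ≤ d := by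
  haveI := isIntegral_baseChange F K
  exact primes_card_le (baseChange_algHom_le K _)

theorem spec_field {k : Type u} [Field k] {B : Type u} [CommRing B] [Algebra k B]
    (F : PolLaw.MulLaw k B k d) :
    Finite (PrimeSpectrum (PolLaw.image F.law)) ∧ Nat.card (PrimeSpectrum (PolLaw.image F.law)) ≤ d ∧
      ∀ P : PrimeSpectrum (PolLaw.image F.law), P.asIdeal.IsMaximal ∧
        Finite (Field.Emb k P.asIdeal.ResidueField) := by
  haveI := isIntegral_image (F := F)
  obtain ⟨h1, h2⟩ := primes_card_le (natCard_algHom_le (F := F) (AlgebraicClosure k))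
  refine ⟨h1, h2, fun P => ?_⟩
  haveI : Algebra.IsIntegral k (PolLaw.image F.law ⧸ P.asIdeal) :=
    Algebra.IsIntegral.of_surjective (Ideal.Quotient.mkₐ k P.asIdeal) (Ideal.Quotient.mkₐ_surjective k _)
  haveI hm : P.asIdeal.IsMaximal := Ideal.Quotient.maximal_of_isField _
    (isField_of_isIntegral_of_isField' (R := k) (Field.toIsField k))
  refine ⟨hm, ?_⟩
  refine (finite_and_card_le_of_injective (natCard_algHom_le (F := F) (AlgebraicClosure P.asIdeal.ResidueField))
    (fun g => g.comp (IsScalarTower.toAlgHom k _ P.asIdeal.ResidueField)) fun g g' e => ?_).1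
  refine AlgHom.ext fun x => ?_
  obtain ⟨z, rfl⟩ := Ideal.algebraMap_residueField_surjective P.asIdeal x
  exact AlgHom.congr_fun e z

/-! ## Openness -/

theorem chi_of_pow_mem {S : Type u} [CommRing S] [IsDomain S] [Algebra A S] {y : S ⊗[A] B} {N : ℕ}
    (h : y ^ N ∈ PolLaw.kerBC F.law S) : chi F S y = (-Polynomial.X) ^ d := by
  let c : S ⊗[A] B →ₐ[A] Polynomial S ⊗[A] B :=
    Algebra.TensorProduct.map (IsScalarTower.toAlgHom A S (Polynomial S)) (AlgHom.id A B)
  obtain ⟨q, hq⟩ := sub_dvd_pow_sub_pow (c y) ((Polynomial.X : Polynomial S) ⊗ₜ[A] (1 : B)) N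
  have hpow : nv F (Polynomial S) (c y ^ N - ((Polynomial.X : Polynomial S) ⊗ₜ[A] (1 : B)) ^ N) =
      ((-1 : Polynomial S) ^ d) * Polynomial.X ^ (N * d) := by
    rw [← map_pow, sub_eq_add_neg, add_comm, ← one_mul (c _), Algebra.TensorProduct.tmul_pow, one_pow,
      ← TensorProduct.neg_tmul, nv_add_of_mem h, nv_scalar, neg_pow, ← pow_mul]
  have hdvd : chi F S y ∣ (Polynomial.X : Polynomial S) ^ (N * d) := by
    refine (IsUnit.dvd_mul_left (u := (-1 : Polynomial S) ^ d) (IsUnit.pow d isUnit_one.neg)).1 ?_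
    rw [← hpow, hq, nv_mul]
    exact dvd_mul_right _ _
  obtain ⟨i, -, w, hw⟩ := (dvd_prime_pow Polynomial.prime_X _).1 hdvd
  obtain ⟨s, hs, hsw⟩ := Polynomial.isUnit_iff.1 w.isUnit
  have hdeg : i = d := by
    have htop := coeff_chi_top (F := F) y
    have : (Polynomial.X ^ i : Polynomial S).coeff d = (-1) ^ d * s := by
      rw [← hw, ← hsw, Polynomial.coeff_mul_C, htop]
    by_contra hne
    rw [Polynomial.coeff_X_pow, if_neg (Ne.symm hne)] at this
    exact mul_ne_zero (pow_ne_zero d (neg_ne_zero.2 one_ne_zero)) hs.ne_zero this.symm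
  subst hdeg
  refine Polynomial.ext fun k => ?_
  rw [neg_pow, show ((-1 : Polynomial S) ^ i) = Polynomial.C ((-1 : S) ^ i) by simp, Polynomial.coeff_C_mul,
    Polynomial.coeff_X_pow]
  rcases eq_or_ne k i with rfl | hk
  · rw [if_pos rfl, mul_one, coeff_chi_top]
  · rw [if_neg hk, mul_zero]
    have := congrArg (fun p => Polynomial.coeff p k) hw
    simp only [← hsw, Polynomial.coeff_mul_C, Polynomial.coeff_X_pow, if_neg hk] at this
    exact (mul_eq_zero.1 this).resolve_right hs.ne_zero

theorem comap_image_basicOpen (A' : Type u) [CommRing A'] [Algebra A A'] (y : A' ⊗[A] B) :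
    PrimeSpectrum.comap (algebraMap A' (A' ⊗[A] PolLaw.image F.law)) ''
        (PrimeSpectrum.basicOpen (piI F A' y) : Set _) =
      ⋃ k : Fin d, (PrimeSpectrum.basicOpen ((chi F A' y).coeff k) : Set _) := by
  ext q
  simp only [Set.mem_image, SetLike.mem_coe, PrimeSpectrum.mem_basicOpen, Set.mem_iUnion]
  constructor
  · rintro ⟨P, hP, rfl⟩
    by_contra hall
    push Not at hall
    have h0 := aeval_piI_chi (F := F) y
    rw [Polynomial.aeval_eq_sum_range' (Nat.lt_succ_of_le (natDegree_chi_le y)), Finset.sum_range_succ,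
      coeff_chi_top] at h0
    have h1 : ((-1 : A') ^ d) • piI F A' y ^ d ∈ P.asIdeal := by
      rw [eq_neg_of_add_eq_zero_right h0]
      refine neg_mem (Ideal.sum_mem _ fun k hk => ?_)
      rw [Algebra.smul_def]
      exact Ideal.mul_mem_right _ _ (hall ⟨k, Finset.mem_range.1 hk⟩)
    have h2 := Submodule.smul_of_tower_mem P.asIdeal ((-1 : A') ^ d) h1
    rw [smul_smul, ← mul_pow, neg_mul_neg, one_mul, one_pow, one_smul] at h2
    exact hP (P.2.mem_of_pow_mem d h2)
  · rintro ⟨k, hk⟩
    by_contra hall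
    push Not at hall
    apply hk
    let K := q.asIdeal.ResidueField
    let φ : A' →ₐ[A] K := IsScalarTower.toAlgHom A A' K
    let ψ : A' ⊗[A] PolLaw.image F.law →ₐ[A] K ⊗[A] PolLaw.image F.law :=
      Algebra.TensorProduct.map φ (AlgHom.id A _)
    have hnil : IsNilpotent (ψ (piI F A' y)) := by
      rw [nilpotent_iff_mem_prime]
      intro J hJ
      haveI := hJ
      by_contra hyJ
      refine hall (PrimeSpectrum.comap ψ.toRingHom ⟨J, hJ⟩) hyJ ?_
      refine PrimeSpectrum.ext ?_
      have : (J.comap ψ.toRingHom).comap (algebraMap A' (A' ⊗[A] PolLaw.image F.law)) =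
          (J.comap (algebraMap K (K ⊗[A] PolLaw.image F.law))).comap (algebraMap A' K) := by
        rw [Ideal.comap_comap, Ideal.comap_comap]
        congr 1
      refine this.trans ?_
      rw [(Ideal.eq_bot_of_prime (J.comap (algebraMap K (K ⊗[A] PolLaw.image F.law)))), ← RingHom.ker_eq_comap_bot,
        Ideal.ker_algebraMap_residueField]
    obtain ⟨N, hN⟩ := hnil
    have hcomm : ∀ v, ψ (piI F A' v) = piI F K (Algebra.TensorProduct.map φ (AlgHom.id A B) v) := by
      intro v
      induction v using TensorProduct.induction_on with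
      | zero => simp
      | tmul a b => simp [ψ, piI]
      | add a b ha hb => simp only [map_add, ha, hb]
    rw [hcomm, ← map_pow, piI_eq_zero] at hN
    have h2 := chi_of_pow_mem (map_ker_le_kerBC hN)
    rw [← chi_map] at h2
    have h3 := congrArg (fun p => Polynomial.coeff p (k : ℕ)) h2
    simp only [Polynomial.coeff_map] at h3
    rw [neg_pow, show ((-1 : Polynomial K) ^ d) = Polynomial.C ((-1 : K) ^ d) by simp, Polynomial.coeff_C_mul,
      Polynomial.coeff_X_pow, if_neg k.2.ne, mul_zero] at h3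
    rw [← Ideal.algebraMap_residueField_eq_zero]
    exact h3

theorem isOpenMap_baseChange (A' : Type u) [CommRing A'] [Algebra A A'] :
    IsOpenMap (PrimeSpectrum.comap (algebraMap A' (A' ⊗[A] PolLaw.image F.law))) := by
  refine PrimeSpectrum.isTopologicalBasis_basic_opens.isOpenMap_iff.2 ?_
  rintro _ ⟨x, rfl⟩
  obtain ⟨y, rfl⟩ := piI_surjective x
  rw [comap_image_basicOpen]
  exact isOpen_iUnion fun _ => (PrimeSpectrum.basicOpen _).isOpen

theorem generalizingMap_baseChange (A' : Type u) [CommRing A'] [Algebra A A'] :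
    GeneralizingMap (PrimeSpectrum.comap (algebraMap A' (A' ⊗[A] PolLaw.image F.law))) := by
  classical
  haveI := isIntegral_baseChange F A'
  intro P q' hq'
  obtain ⟨hfin, -⟩ := fibre_card_le (Q := A' ⊗[A] PolLaw.image F.law)
    (fun L _ _ => baseChange_algHom_le A' L) q'
  by_contra hno
  simp only [not_exists, not_and] at hno
  let s := (Set.toFinite (PrimeSpectrum.comap (algebraMap A' (A' ⊗[A] PolLaw.image F.law)) ⁻¹' {q'})).toFinset
  have hnle : ¬ (s.inf PrimeSpectrum.asIdeal) ≤ P.asIdeal := by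
    rw [P.2.inf_le']
    rintro ⟨Q, hQ, hle⟩
    exact hno Q ((PrimeSpectrum.le_iff_specializes Q P).1 hle) (by simpa [s] using hQ)
  obtain ⟨f, hf, hfP⟩ := SetLike.not_le_iff_exists.1 hnle
  obtain ⟨y, rfl⟩ := piI_surjective f
  have hmem := hq'.mem_open ((isOpenMap_baseChange (F := F) A') _ (PrimeSpectrum.basicOpen (piI F A' y)).isOpen)
    ⟨P, hfP, rfl⟩
  obtain ⟨Q, hQ, hQq⟩ := hmem
  exact hQ ((Finset.inf_le (f := PrimeSpectrum.asIdeal) ((Set.Finite.mem_toFinset _).2 hQq) :
    s.inf PrimeSpectrum.asIdeal ≤ Q.asIdeal) hf)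

end Groth.Agent.GammaD
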