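import Groth.Agent.Lib.GammaD.Image
import Mathlib.RingTheory.Ideal.GoingUp
import Mathlib.Topology.Connected.Clopen
import Mathlib.RingTheory.Spectrum.Maximal.Basic
import Mathlib.AlgebraicGeometry.Morphisms.UniversallyOpen
import Mathlib.AlgebraicGeometry.Pullbacks

/-! # The image of a scalar multiplicative law: consequences -/

universe u

open scoped TensorProduct

namespace Groth.Agent.GammaD

/-- A space without `d + 1` disjoint nonempty clopen subsets has at most `d` components. -/
theorem components_card_le {X : Type*} [TopologicalSpace X] {d : ℕ}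
    (h : ∀ U : Fin (d + 1) → Set X, (∀ i, IsClopen (U i) ∧ (U i).Nonempty) →
      Pairwise (Function.onFun Disjoint U) → False) :
    Finite (ConnectedComponents X) ∧ Nat.card (ConnectedComponents X) ≤ d := by
  classical
  have main : ∀ m k, k + m = d + 1 → ∀ U : Fin k → Set X, (∀ i, IsClopen (U i) ∧ (U i).Nonempty) →
      Pairwise (Function.onFun Disjoint U) → (∀ x, ∃ i, x ∈ U i) →
      Finite (ConnectedComponents X) ∧ Nat.card (ConnectedComponents X) ≤ d := by
    intro m
    induction m with
    | zero =>
      intro k hk U hU hd' _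
      obtain rfl : k = d + 1 := by omega
      exact (h U hU hd').elim
    | succ m ih =>
      intro k hk U hU hdis hcov
      by_cases hpre : ∀ i, IsPreconnected (U i)
      · choose p hp using fun i => (hU i).2
        have hsurj : Function.Surjective fun i : Fin k => ConnectedComponents.mk (p i) := by
          intro c
          obtain ⟨x, rfl⟩ := ConnectedComponents.surjective_coe c
          obtain ⟨i, hi⟩ := hcov x
          refine ⟨i, ConnectedComponents.coe_eq_coe'.2 ?_⟩
          exact (hpre i).subset_connectedComponent hi (hp i)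
        refine ⟨Finite.of_surjective _ hsurj, (Nat.card_le_card_of_surjective _ hsurj).trans ?_⟩
        rw [Nat.card_fin]; omega
      · push Not at hpre
        obtain ⟨i, hi⟩ := hpre
        simp only [IsPreconnected, not_forall, Set.not_nonempty_iff_eq_empty] at hi
        obtain ⟨u, v, hu, hv, hsub, hnu, hnv, he⟩ := hi
        have hA : IsClopen (U i ∩ u) := by
          refine ⟨?_, (hU i).1.2.inter hu⟩
          rw [show U i ∩ u = U i \ v from ?_]
          · exact (hU i).1.1.sdiff hv
          · ext x
            constructor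
            · exact fun hx => ⟨hx.1, fun hxv => Set.eq_empty_iff_forall_notMem.1 he x ⟨hx.1, hx.2, hxv⟩⟩
            · exact fun hx => ⟨hx.1, (hsub hx.1).resolve_right hx.2⟩
        let W : Fin (k + 1) → Set X := Fin.cons (U i ∩ u) (Function.update U i (U i \ u))
        refine ih (k + 1) (by omega) W ?_ ?_ ?_
        · refine Fin.cases ⟨hA, hnu⟩ fun j => ?_
          simp only [W, Fin.cons_succ]
          rcases eq_or_ne j i with rfl | hj
          · rw [Function.update_self]
            refine ⟨by rw [← Set.sdiff_self_inter]; exact (hU j).1.inter hA.compl, ?_⟩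
            obtain ⟨x, hx, hxv⟩ := hnv
            exact ⟨x, hx, fun hxu => Set.eq_empty_iff_forall_notMem.1 he x ⟨hx, hxu, hxv⟩⟩
          · rw [Function.update_of_ne hj]
            exact hU j
        · have hsub' : ∀ j, Function.update U i (U i \ u) j ⊆ U j := by
            intro j
            rcases eq_or_ne j i with rfl | hj
            · rw [Function.update_self]; exact Set.sdiff_subset
            · rw [Function.update_of_ne hj]
          have h0 : ∀ j, Disjoint (U i ∩ u) (Function.update U i (U i \ u) j) := by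
            intro j
            rcases eq_or_ne j i with rfl | hj
            · rw [Function.update_self]
              exact Set.disjoint_left.2 fun x hx hx' => hx'.2 hx.2
            · exact ((hdis (Ne.symm hj)).mono Set.inter_subset_left (hsub' j))
          intro a b hab
          induction a using Fin.cases with
          | zero =>
            induction b using Fin.cases with
            | zero => exact absurd rfl hab
            | succ b => exact h0 b
          | succ a =>
            induction b using Fin.cases with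
            | zero => exact (h0 a).symm
            | succ b => exact (hdis (fun e => hab (congrArg Fin.succ e))).mono (hsub' a) (hsub' b)
        · intro x
          obtain ⟨j, hj⟩ := hcov x
          by_cases hx : j = i ∧ x ∈ u
          · exact ⟨0, hx.1 ▸ hj, hx.2⟩
          · refine ⟨j.succ, ?_⟩
            simp only [W, Fin.cons_succ]
            rcases eq_or_ne j i with rfl | hji
            · rw [Function.update_self]; exact ⟨hj, fun hxu => hx ⟨rfl, hxu⟩⟩
            · rw [Function.update_of_ne hji]; exact hj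
  rcases isEmpty_or_nonempty X with hX | hX
  · exact main (d + 1) 0 (by omega) Fin.elim0 (fun i => i.elim0) (fun i => i.elim0) fun x => isEmptyElim x
  · exact main d 1 (by omega) (fun _ => Set.univ) (fun _ => ⟨isClopen_univ, Set.univ_nonempty⟩)
      (fun a b hab => absurd (Subsingleton.elim a b) hab) fun x => ⟨0, Set.mem_univ x⟩

variable {A : Type u} [CommRing A] {B : Type u} [CommRing B] [Algebra A B] {d : ℕ}
  {F : PolLaw.MulLaw A B A d}

variable (F) in
/-- `A ⊗ image ≅ image`. -/
noncomputable def lidI : A ⊗[A] PolLaw.image F.law ≃ₐ[A] PolLaw.image F.law :=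
  Algebra.TensorProduct.lid A _

theorem comap_image_eq :
    PrimeSpectrum.comap (algebraMap A (PolLaw.image F.law)) =
      PrimeSpectrum.comap (algebraMap A (A ⊗[A] PolLaw.image F.law)) ∘
        PrimeSpectrum.comap (lidI F).toRingEquiv.toRingHom := by
  funext P
  rw [Function.comp_apply, ← PrimeSpectrum.comap_comp_apply]
  congr 2
  exact RingHom.ext fun a => ((lidI F).commutes a).symm

theorem isOpenMap_image : IsOpenMap (PrimeSpectrum.comap (algebraMap A (PolLaw.image F.law))) := by
  rw [comap_image_eq]
  exact (isOpenMap_baseChange A).comp (PrimeSpectrum.homeomorphOfRingEquiv (lidI F).toRingEquiv.symm).isOpenMap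

theorem generalizingMap_image :
    GeneralizingMap (PrimeSpectrum.comap (algebraMap A (PolLaw.image F.law))) := by
  rw [comap_image_eq]
  let e := PrimeSpectrum.homeomorphOfRingEquiv (lidI F).toRingEquiv.symm
  have he : GeneralizingMap e := fun P q h =>
    ⟨e.symm q, by simpa using h.map e.symm.continuous, e.apply_symm_apply q⟩
  exact he.comp (generalizingMap_baseChange A)

theorem natCard_connectedComponents [ConnectedSpace (PrimeSpectrum A)] :
    Finite (ConnectedComponents (PrimeSpectrum (PolLaw.image F.law))) ∧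
      Nat.card (ConnectedComponents (PrimeSpectrum (PolLaw.image F.law))) ≤ d := by
  haveI := isIntegral_image (F := F)
  refine components_card_le fun U hU hdis => ?_
  obtain ⟨q⟩ : Nonempty (PrimeSpectrum A) := inferInstance
  have hmem : ∀ i, ∃ P, P ∈ U i ∧ PrimeSpectrum.comap (algebraMap A (PolLaw.image F.law)) P = q := by
    intro i
    have hcl : IsClopen (PrimeSpectrum.comap (algebraMap A (PolLaw.image F.law)) '' U i) :=
      ⟨(PrimeSpectrum.isClosedMap_comap_of_isIntegral _ Algebra.IsIntegral.isIntegral) _ (hU i).1.1,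
        isOpenMap_image _ (hU i).1.2⟩
    have := hcl.eq_univ ((hU i).2.image _)
    have hq : q ∈ PrimeSpectrum.comap (algebraMap A (PolLaw.image F.law)) '' U i := this ▸ Set.mem_univ q
    obtain ⟨P, hP, hPq⟩ := hq
    exact ⟨P, hP, hPq⟩
  choose P hP hPq using hmem
  obtain ⟨hfin, hle⟩ := fibre_card_le (Q := PolLaw.image F.law) (fun L _ _ => natCard_algHom_le L) q
  have hinj : Function.Injective fun i => (⟨P i, hPq i⟩ :
      PrimeSpectrum.comap (algebraMap A (PolLaw.image F.law)) ⁻¹' {q}) := by
    intro i j e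
    by_contra hne
    have he : P i = P j := congrArg Subtype.val e
    exact Set.disjoint_left.1 (hdis hne) (hP i) (he ▸ hP j)
  have := (Nat.card_le_card_of_injective _ hinj).trans hle
  rw [Nat.card_fin] at this
  omega

theorem finite_maximalSpectrum [Finite (MaximalSpectrum A)] :
    Finite (MaximalSpectrum (PolLaw.image F.law)) := by
  haveI := isIntegral_image (F := F)
  let f := PrimeSpectrum.comap (algebraMap A (PolLaw.image F.law))
  let s : Set (PrimeSpectrum (PolLaw.image F.law)) := ⋃ m : MaximalSpectrum A, f ⁻¹' {m.toPrimeSpectrum}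
  haveI : ∀ m : MaximalSpectrum A, Finite (f ⁻¹' {m.toPrimeSpectrum}) := fun m =>
    (fibre_card_le (Q := PolLaw.image F.law) (fun L _ _ => natCard_algHom_le L) _).1
  have hs : s.Finite := Set.finite_iUnion fun m => Set.toFinite _
  have hmem : ∀ M : MaximalSpectrum (PolLaw.image F.law), M.toPrimeSpectrum ∈ s := fun M => by
    haveI := M.isMaximal
    refine Set.mem_iUnion.2 ⟨⟨M.asIdeal.comap (algebraMap A _),
      Ideal.isMaximal_comap_of_isIntegral_of_isMaximal _⟩, ?_⟩
    exact PrimeSpectrum.ext rfl
  haveI := hs.to_subtype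
  exact Finite.of_injective (fun M => (⟨M.toPrimeSpectrum, hmem M⟩ : s)) fun M M' e =>
    MaximalSpectrum.toPrimeSpectrum_injective (congrArg Subtype.val e)

theorem comap_eq_bot_of_minimal [IsDomain A] {P : Ideal B} (hP : P ∈ (PolLaw.ker F.law).minimalPrimes) :
    P.comap (algebraMap A B) = ⊥ ∧
      ∀ q : Ideal A, q.IsPrime → ∃ Q : Ideal B, Q.IsPrime ∧ P ≤ Q ∧ Q.comap (algebraMap A B) = q := by
  haveI := isIntegral_image (F := F)
  haveI : P.IsPrime := hP.1.1
  let π := Ideal.Quotient.mk (PolLaw.ker F.law)
  let P' : PrimeSpectrum (PolLaw.image F.law) :=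
    ⟨P.map π, Ideal.map_isPrime_of_surjective Ideal.Quotient.mk_surjective (by rw [Ideal.mk_ker]; exact hP.1.2)⟩
  have hcomap : (P.map π).comap π = P := by
    rw [Ideal.comap_map_of_surjective _ Ideal.Quotient.mk_surjective, ← RingHom.ker_eq_comap_bot, Ideal.mk_ker,
      sup_eq_left.2 hP.1.2]
  have hA : P.comap (algebraMap A B) = (P'.asIdeal).comap (algebraMap A (PolLaw.image F.law)) := by
    conv_lhs => rw [← hcomap]
    rw [Ideal.comap_comap]
    rfl
  have hbot : P.comap (algebraMap A B) = ⊥ := by
    obtain ⟨P₀, hle, he⟩ := generalizingMap_image (F := F)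
      (show (⟨⊥, Ideal.isPrime_bot⟩ : PrimeSpectrum A) ⤳ PrimeSpectrum.comap (algebraMap A _) P' from
        (PrimeSpectrum.le_iff_specializes _ _).1 bot_le)
    rw [← PrimeSpectrum.le_iff_specializes] at hle
    haveI := P₀.2
    have hP0 : P₀.asIdeal.comap π = P :=
      le_antisymm ((Ideal.comap_mono hle).trans hcomap.le)
        (hP.2 ⟨Ideal.comap_isPrime _ _, fun x hx => by
          rw [Ideal.mem_comap, (Ideal.Quotient.eq_zero_iff_mem).2 hx]; exact zero_mem _⟩
          ((Ideal.comap_mono hle).trans hcomap.le))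
    rw [← hP0, Ideal.comap_comap]
    exact congrArg PrimeSpectrum.asIdeal he
  refine ⟨hbot, fun q hq => ?_⟩
  haveI := hq
  obtain ⟨Q, hQP, hQ, hQq⟩ := Ideal.exists_ideal_over_prime_of_isIntegral q (P'.asIdeal)
    (by rw [← hA, hbot]; exact bot_le)
  refine ⟨Q.comap π, Ideal.comap_isPrime _ _, hcomap.symm.le.trans (Ideal.comap_mono hQP), ?_⟩
  rw [Ideal.comap_comap]
  exact hQq

theorem exists_fg_le_ker [Algebra.FiniteType A B] :
    ∃ J : Ideal B, J.FG ∧ J ≤ PolLaw.ker F.law ∧ J.radical = (PolLaw.ker F.law).radical := by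
  classical
  obtain ⟨s, hs⟩ := (inferInstance : Algebra.FiniteType A B).out
  let cay : B → B := fun b => Polynomial.aeval b (chi F A (1 ⊗ₜ[A] b))
  let J₁ : Ideal B := Ideal.span ↑(s.image cay)
  have hJ₁ : J₁ ≤ PolLaw.ker F.law := Ideal.span_le.2 fun x hx => by
    obtain ⟨b, -, rfl⟩ := Finset.mem_image.1 (Finset.mem_coe.1 hx)
    exact aeval_chi_mem_ker b
  have hint : ∀ b ∈ s, IsIntegral A (Ideal.Quotient.mk J₁ b) := fun b hb => by
    refine ⟨_, monic_C_mul_chi (F := F) (1 ⊗ₜ[A] b), ?_⟩
    show Polynomial.aeval (Ideal.Quotient.mkₐ A J₁ b) _ = 0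
    rw [Polynomial.aeval_algHom_apply, map_mul, Ideal.Quotient.mkₐ_eq_mk, Ideal.Quotient.eq_zero_iff_mem]
    exact Ideal.mul_mem_left _ _ (Ideal.subset_span (Finset.mem_image_of_mem cay hb))
  have hfin : Module.Finite A (B ⧸ J₁) := by
    have htop : Algebra.adjoin A (Ideal.Quotient.mkₐ A J₁ '' ↑s) = ⊤ := by
      rw [Algebra.adjoin_image, hs, Algebra.map_top, AlgHom.range_eq_top]
      exact Ideal.Quotient.mkₐ_surjective A _
    have hfg := fg_adjoin_of_finite (R := A) (s.finite_toSet.image (Ideal.Quotient.mkₐ A J₁))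
      (by rintro _ ⟨b, hb, rfl⟩; exact hint b hb)
    rw [htop, Algebra.top_toSubmodule] at hfg
    exact ⟨hfg⟩
  obtain ⟨n, m, hm⟩ := Module.Finite.exists_fin (R := A) (M := B ⧸ J₁)
  choose b hb using fun j => Ideal.Quotient.mk_surjective (m j)
  let y0 : MvPolynomial (Fin n) A ⊗[A] B := ∑ j, MvPolynomial.X j ⊗ₜ[A] b j
  have hmem := aeval_chi_mem_map_ker (F := F) y0
  rw [Ideal.map] at hmem
  obtain ⟨T, hT, hmemT⟩ := Submodule.mem_span_finite_of_mem_span hmem
  choose c hc hc' using fun x : ↥T => hT x.2
  let J₂ : Ideal B := Ideal.span (Set.range c)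
  have hJ₂ : J₂ ≤ PolLaw.ker F.law := Ideal.span_le.2 fun _ ⟨x, hx⟩ => hx ▸ hc x
  have hmem₂ : Polynomial.aeval y0 (chi F _ y0) ∈
      J₂.map (Algebra.TensorProduct.includeRight : B →ₐ[A] MvPolynomial (Fin n) A ⊗[A] B) :=
    Submodule.span_le.2 (fun x hx => by
      show x ∈ J₂.map _
      have e := hc' ⟨x, hx⟩
      change _ = x at e
      rw [← e]
      exact Ideal.mem_map_of_mem _ (Ideal.subset_span ⟨_, rfl⟩)) hmemT
  refine ⟨J₁ ⊔ J₂, Submodule.FG.sup (Submodule.fg_span (Finset.finite_toSet _))
    (Submodule.fg_span (Set.finite_range c)), sup_le hJ₁ hJ₂, le_antisymm (Ideal.radical_mono (sup_le hJ₁ hJ₂))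
    (Ideal.radical_le_radical_iff.2 fun x hx => ⟨d, ?_⟩)⟩
  obtain ⟨a, ha⟩ := (Submodule.mem_span_range_iff_exists_fun A).1 (hm.ge (Submodule.mem_top : Ideal.Quotient.mk J₁ x ∈ ⊤))
  let x' : B := ∑ j, a j • b j
  have hxx : x' - x ∈ J₁ := by
    refine (Ideal.Quotient.eq).1 ?_
    rw [← ha]
    simp only [x', map_sum]
    exact Finset.sum_congr rfl fun j _ => by
      rw [← hb]; exact map_smul (Ideal.Quotient.mkₐ A J₁) (a j) (b j)
  let ev : MvPolynomial (Fin n) A →ₐ[A] A := MvPolynomial.aeval a
  have hy : Algebra.TensorProduct.map ev (AlgHom.id A B) y0 = (1 : A) ⊗ₜ[A] x' := by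
    simp only [y0, x', ev, map_sum, Algebra.TensorProduct.map_tmul, MvPolynomial.aeval_X, AlgHom.id_apply,
      TensorProduct.tmul_sum]
    exact Finset.sum_congr rfl fun j _ => by
      rw [TensorProduct.tmul_smul, TensorProduct.smul_tmul', smul_eq_mul, mul_one]
  have h2 := Ideal.mem_map_of_mem (Algebra.TensorProduct.map ev (AlgHom.id A B)) hmem₂
  rw [map_map_includeRight] at h2
  have e : Algebra.TensorProduct.map ev (AlgHom.id A B) (Polynomial.aeval y0 (chi F _ y0)) =
      (1 : A) ⊗ₜ[A] Polynomial.aeval x' (chi F A (1 ⊗ₜ[A] x')) := by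
    have e1 : Algebra.TensorProduct.map ev (AlgHom.id A B) (Polynomial.aeval y0 (chi F _ y0)) =
        Polynomial.aeval ((1 : A) ⊗ₜ[A] x') ((chi F _ y0).map ev.toRingHom) := by
      rw [← hy]
      exact Polynomial.map_aeval_eq_aeval_map (φ := ev.toRingHom)
        (ψ := (Algebra.TensorProduct.map ev (AlgHom.id A B)).toRingHom) (RingHom.ext fun r => by simp) _ _
    rw [e1, chi_map, hy]
    exact Polynomial.aeval_algHom_apply (Algebra.TensorProduct.includeRight : B →ₐ[A] A ⊗[A] B) x' _
  rw [e] at h2
  have h3 : Polynomial.aeval x' (chi F A (1 ⊗ₜ[A] x')) ∈ J₂ := by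
    have := Ideal.mem_map_of_mem (Algebra.TensorProduct.lid A B) h2
    rw [← Ideal.map_coe (Algebra.TensorProduct.lid A B), ← Ideal.map_coe
      (Algebra.TensorProduct.includeRight : B →ₐ[A] A ⊗[A] B), Ideal.map_map,
      show ((Algebra.TensorProduct.lid A B : A ⊗[A] B →+* B)).comp
        (Algebra.TensorProduct.includeRight : B →ₐ[A] A ⊗[A] B) = RingHom.id B from RingHom.ext fun r => by simp,
      Ideal.map_id] at this
    simpa using this
  have hx'k : x' ∈ PolLaw.ker F.law := by
    have := (PolLaw.ker F.law).add_mem (hJ₁ hxx) hx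
    rwa [sub_add_cancel] at this
  rw [chi_of_mem_kerBC (one_tmul_mem_kerBC_self.2 hx'k), map_pow, map_neg, Polynomial.aeval_X, neg_pow,
    Ideal.unit_mul_mem_iff_mem _ (IsUnit.pow d (isUnit_one.neg))] at h3
  have hd : x ^ d - x' ^ d ∈ J₁ := by
    obtain ⟨q, hq⟩ := sub_dvd_pow_sub_pow x x' d
    rw [hq]
    exact Ideal.mul_mem_right _ _ (by rw [← neg_sub]; exact neg_mem hxx)
  have := Ideal.add_mem _ (Ideal.mem_sup_left (T := J₂) hd) (Ideal.mem_sup_right (S := J₁) h3)
  rwa [sub_add_cancel] at this

/-! ## Universal openness -/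

open AlgebraicGeometry CategoryTheory Limits MorphismProperty in
theorem universallyOpen_image :
    UniversallyOpen (Spec.map (CommRingCat.ofHom (algebraMap A (PolLaw.image F.law)))) := by
  refine ⟨universally_mk' _ _ fun {T} f _ => ?_⟩
  rw [IsZariskiLocalAtTarget.iff_of_openCover (P := topologically @IsOpenMap) T.affineCover]
  intro i
  have hR : ∀ (R' : CommRingCat.{u}) (g : Spec R' ⟶ Spec (CommRingCat.of A)),
      topologically @IsOpenMap (pullback.fst g
        (Spec.map (CommRingCat.ofHom (algebraMap A (PolLaw.image F.law))))) := by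
    intro R' g
    obtain ⟨φ, rfl⟩ := Spec.map_surjective g
    algebraize [φ.hom]
    show topologically @IsOpenMap (pullback.fst (Spec.map (CommRingCat.ofHom (algebraMap A R'))) _)
    rw [← pullbackSpecIso_hom_fst A R' (PolLaw.image F.law),
      (topologically @IsOpenMap).cancel_left_of_respectsIso]
    exact isOpenMap_baseChange (F := F) R'
  dsimp only [Scheme.Cover.pullbackHom]
  let g := Spec.map (CommRingCat.ofHom (algebraMap A (PolLaw.image F.law)))
  rw [show pullback.snd (pullback.fst f g) (T.affineCover.f i) =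
      ((pullbackSymmetry _ _) ≪≫ pullbackRightPullbackFstIso f g (T.affineCover.f i)).hom ≫
        pullback.fst (T.affineCover.f i ≫ f) g by simp]
  haveI := ((pullbackSymmetry (pullback.fst f g) (T.affineCover.f i)) ≪≫
    pullbackRightPullbackFstIso f g (T.affineCover.f i)).isIso_hom
  refine @RespectsIso.precomp _ _ (topologically @IsOpenMap) _ _ _ _ _ this _ ?_
  exact hR _ _

end Groth.Agent.GammaD
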