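import Groth.Agent.Lib.GammaD.Functorial
import Mathlib.Algebra.Polynomial.AlgebraMap
import Mathlib.Algebra.Polynomial.Eval.Degree
import Mathlib.RingTheory.TensorProduct.Maps

/-! # Iversen's map is surjective -/

universe u

open scoped TensorProduct
open Polynomial

namespace Groth.Agent.GammaD.Iversen

variable {A B Cd Ce : Type u} [CommRing A] [CommRing B] [Algebra A B]
  [CommRing Cd] [Algebra A Cd] [CommRing Ce] [Algebra A Ce] {e : ℕ}

section coeff

variable (S : Type u) [CommRing S] [Algebra A S] (D : Type u) [CommRing D] [Algebra A D]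

/-- The coefficient of `T ^ j`. -/
noncomputable def L (j : ℕ) : Polynomial S ⊗[A] D →ₗ[A] S ⊗[A] D :=
  ((Polynomial.lcoeff S j).restrictScalars A).rTensor D

/-- Constants. -/
noncomputable def cst : S →ₐ[A] Polynomial S := IsScalarTower.toAlgHom A S (Polynomial S)

variable {S D}

theorem L_tmul (j : ℕ) (p : Polynomial S) (z : D) : L S D j (p ⊗ₜ[A] z) = p.coeff j ⊗ₜ[A] z := rfl

theorem L_X_succ (j : ℕ) (z : Polynomial S ⊗[A] D) :
    L S D (j + 1) ((X : Polynomial S) • z) = L S D j z := by
  induction z using TensorProduct.induction_on with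
  | zero => simp
  | tmul p w => rw [TensorProduct.smul_tmul', L_tmul, L_tmul, smul_eq_mul, coeff_X_mul]
  | add a b ha hb => simp only [smul_add, map_add, ha, hb]

theorem L_X_zero (z : Polynomial S ⊗[A] D) : L S D 0 ((X : Polynomial S) • z) = 0 := by
  induction z using TensorProduct.induction_on with
  | zero => simp
  | tmul p w => rw [TensorProduct.smul_tmul', L_tmul, smul_eq_mul, coeff_X_mul_zero, TensorProduct.zero_tmul]
  | add a b ha hb => simp only [smul_add, map_add, ha, hb, add_zero]

theorem L_mul_cst (j : ℕ) (z : Polynomial S ⊗[A] D) (w : S ⊗[A] D) :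
    L S D j (z * Algebra.TensorProduct.map (cst (A := A) S) (AlgHom.id A D) w) = L S D j z * w := by
  induction z using TensorProduct.induction_on with
  | zero => simp
  | add a b ha hb => simp only [add_mul, map_add, ha, hb]
  | tmul p x =>
    induction w using TensorProduct.induction_on with
    | zero => simp
    | add a b ha hb => simp only [mul_add, map_add, ha, hb]
    | tmul s y =>
      rw [Algebra.TensorProduct.map_tmul, Algebra.TensorProduct.tmul_mul_tmul, L_tmul, L_tmul,
        Algebra.TensorProduct.tmul_mul_tmul, AlgHom.id_apply]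
      congr 1
      exact coeff_mul_C p j s

theorem exists_eval_eq_sum (z : Polynomial S ⊗[A] D) : ∃ N, ∀ M, N ≤ M →
    Algebra.TensorProduct.map ((Polynomial.aeval (1 : S)).restrictScalars A) (AlgHom.id A D) z =
      ∑ j ∈ Finset.range M, L S D j z := by
  induction z using TensorProduct.induction_on with
  | zero => exact ⟨0, fun M _ => by simp⟩
  | tmul p w =>
    refine ⟨p.natDegree + 1, fun M hM => ?_⟩
    simp only [L_tmul, ← TensorProduct.sum_tmul, Algebra.TensorProduct.map_tmul, AlgHom.id_apply,
      AlgHom.restrictScalars_apply]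
    congr 1
    rw [coe_aeval_eq_eval, eval_eq_sum_range' (Nat.lt_of_succ_le hM)]
    simp
  | add a b ha hb =>
    obtain ⟨N, hN⟩ := ha
    obtain ⟨N', hN'⟩ := hb
    exact ⟨max N N', fun M hM => by
      simp only [map_add, Finset.sum_add_distrib, hN M (le_of_max_le_left hM), hN' M (le_of_max_le_right hM)]⟩

end coeff

variable (γd : PolLaw.MulLaw A B Cd (e + 1)) (γe : PolLaw.MulLaw A B Ce e) (ω : Cd ⊗[A] B →ₐ[A] Ce ⊗[A] B)

/-- The image of `ω` over a test algebra. -/
abbrev img (S : Type u) [CommRing S] [Algebra A S] : Subalgebra S (S ⊗[A] (Ce ⊗[A] B)) :=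
  (Algebra.TensorProduct.map (AlgHom.id S S) ω).range

noncomputable abbrev i1 (S : Type u) [CommSemiring S] [Algebra A S] : S ⊗[A] Ce →ₐ[S] S ⊗[A] (Ce ⊗[A] B) :=
  Algebra.TensorProduct.map (AlgHom.id S S) (Algebra.TensorProduct.includeLeft : Ce →ₐ[A] Ce ⊗[A] B)

noncomputable abbrev i2 (S : Type u) [CommSemiring S] [Algebra A S] : S ⊗[A] B →ₐ[S] S ⊗[A] (Ce ⊗[A] B) :=
  Algebra.TensorProduct.map (AlgHom.id S S) (Algebra.TensorProduct.includeRight : B →ₐ[A] Ce ⊗[A] B)

theorem L_mem_img {S : Type u} [CommRing S] [Algebra A S] (j : ℕ) {z : Polynomial S ⊗[A] (Ce ⊗[A] B)}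
    (hz : z ∈ img ω (Polynomial S)) : L S _ j z ∈ img ω S := by
  obtain ⟨u, rfl⟩ := hz
  refine ⟨L S _ j u, ?_⟩
  induction u using TensorProduct.induction_on with
  | zero => simp
  | tmul p w => rfl
  | add a b ha hb => simp only [map_add] at ha hb ⊢; rw [ha, hb]

theorem map_cst_i2 {S : Type u} [CommRing S] [Algebra A S] (y : S ⊗[A] B) :
    Algebra.TensorProduct.map (cst (A := A) S) (AlgHom.id A (Ce ⊗[A] B)) (i2 S y) =
      i2 (Polynomial S) (Algebra.TensorProduct.map (cst (A := A) S) (AlgHom.id A B) y) := by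
  induction y using TensorProduct.induction_on with
  | zero => simp
  | tmul s b => rfl
  | add a b ha hb => simp only [map_add, ha, hb]

theorem rTensor_eq_map {S S' D : Type u} [CommSemiring S] [Algebra A S] [CommSemiring S'] [Algebra A S']
    [CommRing D] [Algebra A D] (φ : S →ₐ[A] S') (z : S ⊗[A] D) :
    φ.toLinearMap.rTensor D z = Algebra.TensorProduct.map φ (AlgHom.id A D) z := by
  induction z using TensorProduct.induction_on with
  | zero => simp
  | tmul a b => rfl
  | add a b ha hb => simp only [map_add, ha, hb]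

theorem map_i1 {S S' : Type u} [CommSemiring S] [Algebra A S] [CommSemiring S'] [Algebra A S']
    (φ : S →ₐ[A] S') (y : S ⊗[A] Ce) :
    Algebra.TensorProduct.map φ (AlgHom.id A (Ce ⊗[A] B)) (i1 (B := B) S y) =
      i1 S' (Algebra.TensorProduct.map φ (AlgHom.id A Ce) y) := by
  induction y using TensorProduct.induction_on with
  | zero => simp
  | tmul s b => rfl
  | add a b ha hb => simp only [map_add, ha, hb]

theorem law_mem_img
    (hω : ∀ (S : Type u) [CommSemiring S] [Algebra A S] (x y : S ⊗[A] B),
      ω.toLinearMap.lTensor S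
        ((Algebra.TensorProduct.includeLeft : Cd →ₐ[A] Cd ⊗[A] B).toLinearMap.lTensor S (γd.law.toFun' S x) *
          (Algebra.TensorProduct.includeRight : B →ₐ[A] Cd ⊗[A] B).toLinearMap.lTensor S y) =
      (Algebra.TensorProduct.includeLeft : Ce →ₐ[A] Ce ⊗[A] B).toLinearMap.lTensor S (γe.law.toFun' S x) *
        (Algebra.TensorProduct.includeRight : B →ₐ[A] Ce ⊗[A] B).toLinearMap.lTensor S (x * y))
    (S : Type u) [CommRing S] [Algebra A S] (y : S ⊗[A] B) :
    i1 S (γe.law.toFun' S y) ∈ img ω S := by
  have hmain : ∀ (R : Type u) [CommRing R] [Algebra A R] (x : R ⊗[A] B),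
      i1 R (γe.law.toFun' R x) * i2 R x ∈ img ω R ∧ i2 R x ∈ img ω R := by
    intro R _ _ x
    constructor
    · have h := hω R x 1
      simp only [mul_one, PolLaw.lTensor_algHom_apply] at h
      exact ⟨_, h⟩
    · have h := hω R 1 x
      simp only [(γd.mult R).1, (γe.mult R).1, one_mul, PolLaw.lTensor_algHom_apply, map_one] at h
      exact ⟨_, h⟩
  let y1 : S ⊗[A] B := y - 1
  let x : Polynomial S ⊗[A] B := 1 + (X : Polynomial S) • Algebra.TensorProduct.map (cst (A := A) S) (AlgHom.id A B) y1
  set E := i1 (B := B) (Polynomial S) (γe.law.toFun' (Polynomial S) x)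
  have hM : E + (X : Polynomial S) • (E * Algebra.TensorProduct.map (cst (A := A) S) (AlgHom.id A (Ce ⊗[A] B)) (i2 S y1)) ∈
      img ω (Polynomial S) := by
    have h := (hmain _ x).1
    simp only [x, map_add, map_one, map_smul, ← map_cst_i2, mul_add, mul_one, mul_smul_comm] at h
    exact h
  have hL : ∀ j, L S _ j E ∈ img ω S := by
    intro j
    induction j with
    | zero =>
      have h := L_mem_img ω 0 hM
      rwa [map_add, L_X_zero, add_zero] at h
    | succ j ih =>
      have h := L_mem_img ω (j + 1) hM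
      rw [map_add, L_X_succ, L_mul_cst] at h
      have h2 := sub_mem h (mul_mem ih (hmain S y1).2)
      rwa [add_sub_cancel_right] at h2
  obtain ⟨N, hN⟩ := exists_eval_eq_sum E
  have hev : Algebra.TensorProduct.map ((Polynomial.aeval (1 : S)).restrictScalars A)
      (AlgHom.id A (Ce ⊗[A] B)) E = i1 S (γe.law.toFun' S y) := by
    have a1 := congrFun (γe.law.isCompat' ((Polynomial.aeval (1 : S)).restrictScalars A)) x
    simp only [Function.comp_apply, rTensor_eq_map] at a1
    rw [map_i1, a1]
    congr 2
    have hs : ∀ (p : Polynomial S) (z : Polynomial S ⊗[A] B),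
        Algebra.TensorProduct.map ((Polynomial.aeval (1 : S)).restrictScalars A) (AlgHom.id A B) (p • z) =
          p.eval 1 • Algebra.TensorProduct.map ((Polynomial.aeval (1 : S)).restrictScalars A) (AlgHom.id A B) z := by
      intro p z
      induction z using TensorProduct.induction_on with
      | zero => simp
      | tmul q b => simp [TensorProduct.smul_tmul', Algebra.smul_def]
      | add a b ha hb => simp only [smul_add, map_add, ha, hb]
    have hc : ∀ z : S ⊗[A] B, Algebra.TensorProduct.map ((Polynomial.aeval (1 : S)).restrictScalars A) (AlgHom.id A B)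
        (Algebra.TensorProduct.map (cst (A := A) S) (AlgHom.id A B) z) = z := by
      intro z
      induction z using TensorProduct.induction_on with
      | zero => simp
      | tmul s b => simp [cst]
      | add a b ha hb => simp only [map_add, ha, hb]
    rw [map_add, map_one, hs, hc, eval_X, one_smul, add_sub_cancel]
  rw [← hev, hN N le_rfl]
  exact sum_mem fun j _ => hL j

theorem surjective (hγe : PolLaw.IsGammaD γe)
    (hω : ∀ (S : Type u) [CommSemiring S] [Algebra A S] (x y : S ⊗[A] B),
      ω.toLinearMap.lTensor S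
        ((Algebra.TensorProduct.includeLeft : Cd →ₐ[A] Cd ⊗[A] B).toLinearMap.lTensor S (γd.law.toFun' S x) *
          (Algebra.TensorProduct.includeRight : B →ₐ[A] Cd ⊗[A] B).toLinearMap.lTensor S y) =
      (Algebra.TensorProduct.includeLeft : Ce →ₐ[A] Ce ⊗[A] B).toLinearMap.lTensor S (γe.law.toFun' S x) *
        (Algebra.TensorProduct.includeRight : B →ₐ[A] Ce ⊗[A] B).toLinearMap.lTensor S (x * y)) :
    Function.Surjective ω := by
  let inc := (Algebra.TensorProduct.includeLeft : Ce →ₐ[A] Ce ⊗[A] B)
  let q := ω.range.toSubmodule.mkQ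
  have hq : q ∘ₗ ω.toLinearMap = 0 := LinearMap.ext fun z =>
    (Submodule.Quotient.mk_eq_zero _).2 ⟨z, rfl⟩
  have hleft : ∀ c : Ce, inc c ∈ ω.range := by
    intro c
    obtain ⟨t, rfl⟩ := G_surjective γe hγe c
    have key := eq_on_orbit (bP A B) (q ∘ₗ inc.toLinearMap ∘ₗ G γe) 0 fun T => by
      rw [LinearMap.lTensor_zero, LinearMap.zero_apply, ← lTensor_comp', ← lTensor_comp', G_tl]
      obtain ⟨u, hu⟩ := law_mem_img γd γe ω hω (MvPolynomial _ A)
        ((piP A B).toLinearMap.lTensor (MvPolynomial _ A) (gen (bP A B) T))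
      rw [PolLaw.lTensor_algHom_apply inc]
      erw [← hu]
      rw [AlgHom.toRingHom_eq_coe, RingHom.coe_coe, ← PolLaw.lTensor_algHom_apply, lTensor_comp', hq,
        LinearMap.lTensor_zero, LinearMap.zero_apply]
    have h := LinearMap.congr_fun key t
    simp only [LinearMap.comp_apply, LinearMap.zero_apply] at h
    rw [← G_R γe t]
    exact (Submodule.Quotient.mk_eq_zero _).1 h
  have hright : ∀ b : B, (Algebra.TensorProduct.includeRight : B →ₐ[A] Ce ⊗[A] B) b ∈ ω.range := by
    intro b
    have h := hω A 1 (1 ⊗ₜ[A] b)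
    simp only [(γd.mult A).1, (γe.mult A).1, one_mul, PolLaw.lTensor_algHom_apply, map_one] at h
    refine ⟨1 ⊗ₜ[A] b, ?_⟩
    have h2 := congrArg (Algebra.TensorProduct.lid A (Ce ⊗[A] B)) h
    simpa using h2
  intro z
  show z ∈ ω.range
  induction z using TensorProduct.induction_on with
  | zero => exact zero_mem _
  | tmul c b =>
    have h := mul_mem (hleft c) (hright b)
    simpa [inc] using h
  | add a b ha hb => exact add_mem ha hb

end Groth.Agent.GammaD.Iversen
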