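import Groth.Agent.Lib.GammaD.Kernel2
import Mathlib.RingTheory.TotallySplit
import Mathlib.RingTheory.Etale.StandardEtale
import Mathlib.RingTheory.AdjoinRoot
import Groth.Agent.Lib.Azumaya.EtaleSub

/-! # The kernel of a law commutes with finite étale base change -/

universe u

open scoped TensorProduct
open Polynomial

namespace Groth.Agent.GammaD.KerEtale

variable {A : Type u} [CommRing A] {B : Type u} [CommRing B] [Algebra A B] {d : ℕ} (F : PolLaw.MulLaw A B A d)

theorem mem_ker_of_faithfullyFlat {T : Type u} [CommRing T] [Algebra A T] [Module.FaithfullyFlat A T] {b : B}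
    (h : (1 : T) ⊗ₜ[A] b ∈ PolLaw.kerBC F.law T) : b ∈ PolLaw.ker F.law := by
  refine mem_ker_iff.2 fun R _ _ x w => ?_
  let iR : R →ₐ[A] T ⊗[A] R := Algebra.TensorProduct.includeRight
  let iT : T →ₐ[A] T ⊗[A] R := Algebra.TensorProduct.includeLeft
  refine Module.FaithfullyFlat.tensorProduct_mk_injective (A := A) (B := T) R ?_
  show iR _ = iR _
  have hw := nv_add_of_mem (F := F) h iT (Algebra.TensorProduct.map iR (AlgHom.id A B) x)
    (Algebra.TensorProduct.map iR (AlgHom.id A B) w)
  rw [nv_compat, nv_compat, map_add, map_mul, Algebra.TensorProduct.map_tmul, map_one, AlgHom.id_apply]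
  rw [Algebra.TensorProduct.map_tmul, map_one, AlgHom.id_apply] at hw
  exact hw

theorem kerBC_le {A' : Type u} [CommRing A'] [Algebra A A'] {T : Type u} [CommRing T] [Algebra A T]
    [Module.FaithfullyFlat A T] {n : ℕ} (e : T ⊗[A] A' ≃ₐ[T] (Fin n → T)) {ι : Type u} [Fintype ι]
    (bA : Module.Basis ι A A') :
    PolLaw.kerBC F.law A' ≤
      (PolLaw.ker F.law).map (Algebra.TensorProduct.includeRight : B →ₐ[A] A' ⊗[A] B) := by
  classical
  intro z hz
  let σ : Fin n → (A' →ₐ[A] T) := fun j =>
    (((Pi.evalAlgHom T (fun _ : Fin n => T) j).comp e.toAlgHom).restrictScalars A).comp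
      Algebra.TensorProduct.includeRight
  let bT := Algebra.TensorProduct.basis T bA
  let lam : ι → Fin n → T := fun i j => bT.repr (e.symm (Pi.single j 1)) i
  have hkey : ∀ (i : ι) (x : A'), ∑ j, lam i j * σ j x = algebraMap A T (bA.repr x i) := by
    intro i x
    have h1 : (1 : T) ⊗ₜ[A] x = ∑ j, σ j x • e.symm (Pi.single j 1) := by
      refine e.injective ?_
      rw [map_sum]
      funext l
      rw [Finset.sum_apply, Finset.sum_eq_single l (fun j _ hj => by simp [hj.symm])
        (fun h => absurd (Finset.mem_univ l) h)]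
      simp [σ]
    have h2 := congrArg (fun w => bT.repr w i) h1
    simp only [map_sum, Finsupp.finsetSum_apply, map_smul, Finsupp.smul_apply, smul_eq_mul] at h2
    rw [Algebra.TensorProduct.basis_repr_tmul] at h2
    simp only [Finsupp.smul_apply, Finsupp.mapRange_apply, smul_eq_mul, one_mul] at h2
    rw [h2]
    exact Finset.sum_congr rfl fun j _ => mul_comm _ _
  -- the coordinates of `z`
  let c : ι → B := fun i => TensorProduct.equivFinsuppOfBasisLeft bA z i
  have hz' : z = ∑ i, bA i ⊗ₜ[A] c i := by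
    conv_lhs => rw [← (TensorProduct.equivFinsuppOfBasisLeft bA (N := B)).symm_apply_apply z,
      TensorProduct.equivFinsuppOfBasisLeft_symm_apply]
    exact Finsupp.sum_fintype _ _ fun i => TensorProduct.tmul_zero _ _
  have hmem : ∀ i, c i ∈ PolLaw.ker F.law := fun i => by
    refine mem_ker_of_faithfullyFlat F (T := T) ?_
    have h1 : (1 : T) ⊗ₜ[A] c i = ∑ j, (lam i j ⊗ₜ[A] (1 : B)) * Algebra.TensorProduct.map (σ j) (AlgHom.id A B) z := by
      simp only [hz', map_sum, Finset.mul_sum, Algebra.TensorProduct.map_tmul, AlgHom.id_apply,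
        Algebra.TensorProduct.tmul_mul_tmul, one_mul]
      rw [Finset.sum_comm]
      simp only [← TensorProduct.sum_tmul, hkey, Module.Basis.repr_self, Finsupp.single_apply]
      rw [Finset.sum_eq_single i (fun k _ hk => by simp [hk]) (fun h => absurd (Finset.mem_univ i) h)]
      simp
    rw [h1]
    exact sum_mem fun j _ => Ideal.mul_mem_left _ _ (map_mem_kerBC (σ j) hz)
  rw [hz']
  refine sum_mem fun i _ => ?_
  rw [show bA i ⊗ₜ[A] c i = (bA i ⊗ₜ[A] (1 : B)) *
    (Algebra.TensorProduct.includeRight : B →ₐ[A] A' ⊗[A] B) (c i) by simp]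
  exact Ideal.mul_mem_left _ _ (Ideal.mem_map_of_mem _ (hmem i))

theorem main (g : A[X]) (hg : g.Monic) (hsep : g.Separable) :
    (PolLaw.ker F.law).map (Algebra.TensorProduct.includeRight : B →ₐ[A] AdjoinRoot g ⊗[A] B) =
      PolLaw.kerBC F.law (AdjoinRoot g) := by
  refine le_antisymm map_ker_le_kerBC ?_
  cases subsingleton_or_nontrivial A
  · haveI : Subsingleton (AdjoinRoot g ⊗[A] B) := Module.subsingleton A _
    intro z _
    rw [Subsingleton.elim z 0]
    exact zero_mem _
  haveI := Groth.Agent.Azumaya.etale_adjoinRoot g hg hsep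
  haveI := hg.finite_adjoinRoot
  haveI := hg.free_adjoinRoot
  have hrank : Module.rankAtStalk (R := A) (AdjoinRoot g) = (Module.finrank A (AdjoinRoot g) : ℕ) := by
    rw [Module.rankAtStalk_eq_finrank_of_free]
  obtain ⟨T, _, _, _, _, _, hsplit⟩ := Algebra.IsFiniteSplit.exists_tensorProduct_of_etale hrank
  obtain ⟨n, ⟨e⟩⟩ := hsplit.nonempty_algEquiv_fun
  exact kerBC_le F e (Module.Free.chooseBasis A (AdjoinRoot g))

end Groth.Agent.GammaD.KerEtale
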