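import Groth.Agent.Lib.GammaD.Kernel2
import Mathlib.RingTheory.Localization.Integer
import Mathlib.Algebra.MvPolynomial.Polynomial
import Mathlib.Algebra.Polynomial.Inductions
import Mathlib.RingTheory.Finiteness.Basic

/-! # Kernels of base changes of a law on a finite module: universal equations -/

universe u

open scoped TensorProduct

namespace Groth.Agent.GammaD

variable {A : Type u} [CommRing A] {B : Type u} [CommRing B] [Algebra A B] {d : ℕ}
  {F : PolLaw.MulLaw A B A d} {n : ℕ} (m : Fin n → B)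

/-- The generic first argument. -/
noncomputable def gX (A' : Type u) [CommRing A'] [Algebra A A'] :
    MvPolynomial (Fin n ⊕ Fin n) A' ⊗[A] B :=
  ∑ j, (MvPolynomial.X (Sum.inl j) : MvPolynomial (Fin n ⊕ Fin n) A') ⊗ₜ[A] m j

/-- The generic multiplier. -/
noncomputable def gW (A' : Type u) [CommRing A'] [Algebra A A'] :
    MvPolynomial (Fin n ⊕ Fin n) A' ⊗[A] B :=
  ∑ j, (MvPolynomial.X (Sum.inr j) : MvPolynomial (Fin n ⊕ Fin n) A') ⊗ₜ[A] m j

variable (F) in
/-- The universal equations of `e ∈ kerBC`. -/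
noncomputable def kerEq (A' : Type u) [CommRing A'] [Algebra A A'] (e : A' ⊗[A] B) :
    MvPolynomial (Fin n ⊕ Fin n) A' :=
  nv F _ (gX m A' + gW m A' * Algebra.TensorProduct.map
      (IsScalarTower.toAlgHom A A' (MvPolynomial (Fin n ⊕ Fin n) A')) (AlgHom.id A B) e) -
    nv F _ (gX m A')

variable {m}

theorem exists_coords (hm : Submodule.span A (Set.range m) = ⊤) {R : Type u} [CommSemiring R] [Algebra A R]
    (x : R ⊗[A] B) : ∃ r : Fin n → R, x = ∑ j, r j ⊗ₜ[A] m j := by
  induction x using TensorProduct.induction_on with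
  | zero => exact ⟨0, by simp⟩
  | tmul r b =>
    obtain ⟨c, hc⟩ := (Submodule.mem_span_range_iff_exists_fun A).1 (hm.ge (Submodule.mem_top : b ∈ ⊤))
    refine ⟨fun j => c j • r, ?_⟩
    rw [← hc, TensorProduct.tmul_sum]
    exact Finset.sum_congr rfl fun j _ => by rw [TensorProduct.smul_tmul]
  | add a b ha hb =>
    obtain ⟨r, rfl⟩ := ha
    obtain ⟨r', rfl⟩ := hb
    exact ⟨r + r', by simp [TensorProduct.add_tmul, Finset.sum_add_distrib]⟩

variable {A' : Type u} [CommRing A'] [Algebra A A']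

theorem kerEq_eq_zero_iff (hm : Submodule.span A (Set.range m) = ⊤) {e : A' ⊗[A] B} :
    kerEq F m A' e = 0 ↔ e ∈ PolLaw.kerBC F.law A' := by
  refine ⟨fun h => mem_kerBC_iff.2 fun R _ _ _ _ x w => ?_, fun h => sub_eq_zero.2 (nv_add_of_mem h _ _ _)⟩
  obtain ⟨r, rfl⟩ := exists_coords hm x
  obtain ⟨r', rfl⟩ := exists_coords hm w
  let ψ : MvPolynomial (Fin n ⊕ Fin n) A' →ₐ[A] R :=
    (MvPolynomial.aeval (Sum.elim r r') : MvPolynomial (Fin n ⊕ Fin n) A' →ₐ[A'] R).restrictScalars A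
  have h1 := congrArg ψ (sub_eq_zero.1 h)
  rw [nv_compat, nv_compat, map_add, map_mul] at h1
  have hc : ψ.comp (IsScalarTower.toAlgHom A A' (MvPolynomial (Fin n ⊕ Fin n) A')) =
      IsScalarTower.toAlgHom A A' R := AlgHom.ext fun a => by simp [ψ]
  have hx : Algebra.TensorProduct.map ψ (AlgHom.id A B) (gX m A') = ∑ j, r j ⊗ₜ[A] m j := by
    simp [gX, ψ]
  have hw : Algebra.TensorProduct.map ψ (AlgHom.id A B) (gW m A') = ∑ j, r' j ⊗ₜ[A] m j := by
    simp [gW, ψ]
  rwa [hx, hw, ← AlgHom.comp_apply, ← Algebra.TensorProduct.map_comp, hc, AlgHom.id_comp] at h1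

theorem kerEq_map {A'' : Type u} [CommRing A''] [Algebra A A''] (φ : A' →ₐ[A] A'') (e : A' ⊗[A] B) :
    (kerEq F m A' e).map φ.toRingHom = kerEq F m A'' (Algebra.TensorProduct.map φ (AlgHom.id A B) e) := by
  show (MvPolynomial.mapAlgHom φ) (_ - _) = _
  have hX : Algebra.TensorProduct.map (MvPolynomial.mapAlgHom (σ := Fin n ⊕ Fin n) φ) (AlgHom.id A B)
      (gX m A') = gX m A'' := by simp [gX]
  have hW : Algebra.TensorProduct.map (MvPolynomial.mapAlgHom (σ := Fin n ⊕ Fin n) φ) (AlgHom.id A B)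
      (gW m A') = gW m A'' := by simp [gW]
  have hc : (MvPolynomial.mapAlgHom (σ := Fin n ⊕ Fin n) φ).comp (IsScalarTower.toAlgHom A A' _) =
      (IsScalarTower.toAlgHom A A'' (MvPolynomial (Fin n ⊕ Fin n) A'')).comp φ :=
    AlgHom.ext fun a => by simp
  rw [map_sub, nv_compat, nv_compat, map_add, map_mul, hX, hW, ← AlgHom.comp_apply,
    ← Algebra.TensorProduct.map_comp, hc, kerEq, ← AlgHom.comp_apply, ← Algebra.TensorProduct.map_comp]

theorem kerBC_limit [Module.Finite A B] {ι : Type u} [Preorder ι] [IsDirected ι (fun i j => i ≤ j)]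
    [Nonempty ι] (Ai : ι → Type u) [∀ i, CommRing (Ai i)] [∀ i, Algebra A (Ai i)]
    (t : ∀ i j : ι, i ≤ j → (Ai i →ₐ[A] Ai j)) (φ : ∀ i : ι, Ai i →ₐ[A] A')
    (hcomp : ∀ (i j : ι) (h : i ≤ j), (φ j).comp (t i j h) = φ i)
    (hsurj : ∀ a : A', ∃ (i : ι) (x : Ai i), φ i x = a)
    (hzero : ∀ (i : ι) (x : Ai i), φ i x = 0 → ∃ (j : ι) (h : i ≤ j), t i j h x = 0)
    (htrans : ∀ (i j k : ι) (hij : i ≤ j) (hjk : j ≤ k), (t j k hjk).comp (t i j hij) = t i k (hij.trans hjk)) :
    PolLaw.kerBC F.law A' =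
      ⨆ i : ι, (PolLaw.kerBC F.law (Ai i)).map (Algebra.TensorProduct.map (φ i) (AlgHom.id A B)) := by
  classical
  refine le_antisymm (fun e he => ?_) (iSup_le fun i => Ideal.map_le_iff_le_comap.2 fun x hx => map_mem_kerBC _ hx)
  obtain ⟨n, m, hm⟩ := Module.Finite.exists_fin (R := A) (M := B)
  obtain ⟨r, rfl⟩ := exists_coords hm e
  choose ix xx hx using fun j => hsurj (r j)
  obtain ⟨i, hi⟩ := Finset.exists_le (Finset.univ.image ix)
  have hle : ∀ j, ix j ≤ i := fun j => hi _ (Finset.mem_image_of_mem ix (Finset.mem_univ j))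
  let ei : Ai i ⊗[A] B := ∑ j, t _ i (hle j) (xx j) ⊗ₜ[A] m j
  have hei : Algebra.TensorProduct.map (φ i) (AlgHom.id A B) ei = ∑ j, r j ⊗ₜ[A] m j := by
    simp only [ei, map_sum, Algebra.TensorProduct.map_tmul, AlgHom.id_apply]
    exact Finset.sum_congr rfl fun j _ => by rw [← AlgHom.comp_apply, hcomp, hx]
  rw [← hei] at he ⊢
  have h0 := (kerEq_eq_zero_iff hm).2 he
  rw [← kerEq_map] at h0
  -- finitely many coefficients die at a later stage
  have hkill : ∀ s : Finset ((Fin n ⊕ Fin n) →₀ ℕ), ∃ (k : ι) (h : i ≤ k),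
      ∀ o ∈ s, t i k h ((kerEq F m (Ai i) ei).coeff o) = 0 := by
    intro s
    induction s using Finset.induction_on with
    | empty => exact ⟨i, le_rfl, fun o ho => absurd ho (Finset.notMem_empty o)⟩
    | insert o s _ ih =>
      obtain ⟨k, hik, hk⟩ := ih
      have hc : φ i ((kerEq F m (Ai i) ei).coeff o) = 0 := by
        simpa [MvPolynomial.coeff_map] using congrArg (fun p => MvPolynomial.coeff o p) h0
      obtain ⟨k', hik', hk'⟩ := hzero i _ hc
      obtain ⟨l, hl, hl'⟩ := exists_ge_ge k k'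
      refine ⟨l, hik.trans hl, fun q hq => ?_⟩
      rcases Finset.mem_insert.1 hq with rfl | hq
      · rw [← htrans i k' l hik' hl', AlgHom.comp_apply, hk', map_zero]
      · rw [← htrans i k l hik hl, AlgHom.comp_apply, hk q hq, map_zero]
  obtain ⟨k, hik, hk⟩ := hkill (kerEq F m (Ai i) ei).support
  have hzero' : (kerEq F m (Ai i) ei).map (t i k hik).toRingHom = 0 := by
    refine MvPolynomial.ext _ _ fun o => ?_
    rw [MvPolynomial.coeff_map, MvPolynomial.coeff_zero]
    by_cases ho : o ∈ (kerEq F m (Ai i) ei).support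
    · exact hk o ho
    · rw [MvPolynomial.notMem_support_iff.1 ho, map_zero]
  rw [kerEq_map, kerEq_eq_zero_iff hm] at hzero'
  refine le_iSup (fun i => (PolLaw.kerBC F.law (Ai i)).map (Algebra.TensorProduct.map (φ i) (AlgHom.id A B))) k ?_
  have := Ideal.mem_map_of_mem (Algebra.TensorProduct.map (φ k) (AlgHom.id A B)) hzero'
  rwa [← AlgHom.comp_apply, ← Algebra.TensorProduct.map_comp, hcomp, AlgHom.id_comp] at this

theorem map_ker_eq_kerBC_localization [Module.Finite A B] (M : Submonoid A) [IsLocalization M A'] :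
    (PolLaw.ker F.law).map (Algebra.TensorProduct.includeRight : B →ₐ[A] A' ⊗[A] B) =
      PolLaw.kerBC F.law A' := by
  classical
  refine le_antisymm map_ker_le_kerBC fun e he => ?_
  obtain ⟨n, m, hm⟩ := Module.Finite.exists_fin (R := A) (M := B)
  obtain ⟨r, rfl⟩ := exists_coords hm e
  obtain ⟨s, hs⟩ := IsLocalization.exist_integer_multiples_of_finite M r
  choose a ha using hs
  let b : B := ∑ j, a j • m j
  have hb : algebraMap A' (A' ⊗[A] B) (algebraMap A A' s) * (∑ j, r j ⊗ₜ[A] m j) = (1 : A') ⊗ₜ[A] b := by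
    simp only [b, TensorProduct.tmul_sum, Finset.mul_sum, Algebra.TensorProduct.algebraMap_apply,
      Algebra.TensorProduct.tmul_mul_tmul, one_mul]
    refine Finset.sum_congr rfl fun j _ => ?_
    rw [TensorProduct.tmul_smul, TensorProduct.smul_tmul']
    congr 1
    rw [Algebra.smul_def, mul_one, ha, Algebra.smul_def, Algebra.algebraMap_self_apply]
  have heb : (1 : A') ⊗ₜ[A] b ∈ PolLaw.kerBC F.law A' := hb ▸ Ideal.mul_mem_left _ _ he
  let D := kerEq F m A ((1 : A) ⊗ₜ[A] b)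
  have h0 : D.map (Algebra.ofId A A').toRingHom = 0 := by
    rw [kerEq_map, kerEq_eq_zero_iff hm]
    simpa using heb
  have hkill : ∀ S : Finset ((Fin n ⊕ Fin n) →₀ ℕ), ∃ c ∈ M, ∀ o ∈ S, c * D.coeff o = 0 := by
    intro S
    induction S using Finset.induction_on with
    | empty => exact ⟨1, one_mem M, fun o ho => absurd ho (Finset.notMem_empty o)⟩
    | insert o S _ ih =>
      obtain ⟨c, hc, hS⟩ := ih
      obtain ⟨c', hc'⟩ := (IsLocalization.map_eq_zero_iff M A' (D.coeff o)).1 (by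
        simpa [MvPolynomial.coeff_map] using congrArg (fun p => MvPolynomial.coeff o p) h0)
      refine ⟨c * c', mul_mem hc c'.2, fun q hq => ?_⟩
      rcases Finset.mem_insert.1 hq with rfl | hq
      · rw [mul_assoc, hc', mul_zero]
      · rw [mul_right_comm, hS q hq, zero_mul]
  obtain ⟨c, hcM, hc⟩ := hkill D.support
  have hcD : MvPolynomial.C c * D = 0 := by
    refine MvPolynomial.ext _ _ fun o => ?_
    rw [MvPolynomial.coeff_C_mul, MvPolynomial.coeff_zero]
    by_cases ho : o ∈ D.support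
    · exact hc o ho
    · rw [MvPolynomial.notMem_support_iff.1 ho, mul_zero]
  -- scaling the multiplier
  let η : (MvPolynomial (Fin n ⊕ Fin n) A) →ₐ[A] Polynomial (MvPolynomial (Fin n ⊕ Fin n) A) := MvPolynomial.aeval (Sum.elim
    (fun j => Polynomial.C (MvPolynomial.X (Sum.inl j))) fun j => Polynomial.X * Polynomial.C (MvPolynomial.X (Sum.inr j)))
  have heval : ∀ v : A, (η D).eval (MvPolynomial.C v) = kerEq F m A ((1 : A) ⊗ₜ[A] (v • b)) := by
    intro v
    let ev : (MvPolynomial (Fin n ⊕ Fin n) A) →ₐ[A] (MvPolynomial (Fin n ⊕ Fin n) A) := ((Polynomial.aeval (MvPolynomial.C v : (MvPolynomial (Fin n ⊕ Fin n) A))).restrictScalars A).comp η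
    show ev D = _
    have hX : Algebra.TensorProduct.map ev (AlgHom.id A B) (gX m A) = gX m A := by simp [gX, ev, η]
    have hW : Algebra.TensorProduct.map ev (AlgHom.id A B) (gW m A) =
        ((MvPolynomial.C v : (MvPolynomial (Fin n ⊕ Fin n) A)) ⊗ₜ[A] (1 : B)) * gW m A := by
      simp [gW, ev, η, Finset.mul_sum]
      exact Finset.sum_congr rfl fun j _ => by rw [mul_comm]
    show ev (nv F _ _ - nv F _ _) = nv F _ _ - nv F _ _
    rw [map_sub, nv_compat, nv_compat, map_add, map_mul, hX, hW]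
    simp only [Algebra.TensorProduct.map_tmul, map_one, AlgHom.id_apply]
    congr 2
    rw [mul_assoc, mul_comm ((MvPolynomial.C v : (MvPolynomial (Fin n ⊕ Fin n) A)) ⊗ₜ[A] (1 : B)), mul_assoc]
    congr 2
    rw [Algebra.TensorProduct.tmul_mul_tmul, one_mul, mul_one, TensorProduct.tmul_smul, TensorProduct.smul_tmul',
      Algebra.smul_def, mul_one]
    rfl
  have hP0 : (η D).coeff 0 = 0 := by
    rw [Polynomial.coeff_zero_eq_eval_zero, ← map_zero (MvPolynomial.C (σ := Fin n ⊕ Fin n) (R := A)), heval, zero_smul,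
      TensorProduct.tmul_zero]
    rw [map_zero]
    exact (kerEq_eq_zero_iff hm).2 (zero_mem _)
  have hcb : (η D).eval (MvPolynomial.C c) = 0 := by
    have hmul : Polynomial.C (MvPolynomial.C c : (MvPolynomial (Fin n ⊕ Fin n) A)) * η D = 0 := by
      have := congrArg η hcD
      rwa [map_zero, map_mul, show η (MvPolynomial.C c) = Polynomial.C (MvPolynomial.C c : (MvPolynomial (Fin n ⊕ Fin n) A)) from
        η.commutes c] at this
    have hq : Polynomial.C (MvPolynomial.C c : (MvPolynomial (Fin n ⊕ Fin n) A)) * (η D).divX = 0 := by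
      rw [← Polynomial.divX_C_mul, hmul, Polynomial.divX_zero]
    conv_lhs => rw [← Polynomial.X_mul_divX_add (η D)]
    rw [hP0, map_zero, add_zero, Polynomial.eval_mul, Polynomial.eval_X]
    simpa using congrArg (Polynomial.eval (MvPolynomial.C c : (MvPolynomial (Fin n ⊕ Fin n) A))) hq
  rw [heval, kerEq_eq_zero_iff hm, one_tmul_mem_kerBC_self] at hcb
  have hu : IsUnit (algebraMap A' (A' ⊗[A] B) (algebraMap A A' (c * s))) :=
    (IsLocalization.map_units A' (⟨c * s, mul_mem hcM s.2⟩ : M)).map _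
  rw [← Ideal.unit_mul_mem_iff_mem _ hu]
  have e2 : algebraMap A' (A' ⊗[A] B) (algebraMap A A' (c * s)) * (∑ j, r j ⊗ₜ[A] m j) =
      (Algebra.TensorProduct.includeRight : B →ₐ[A] A' ⊗[A] B) (c • b) := by
    rw [map_mul, map_mul, mul_assoc, hb, Algebra.TensorProduct.algebraMap_apply,
      Algebra.TensorProduct.tmul_mul_tmul, one_mul, mul_one, Algebra.TensorProduct.includeRight_apply,
      TensorProduct.tmul_smul, TensorProduct.smul_tmul', Algebra.smul_def, mul_one, Algebra.algebraMap_self_apply]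
  rw [e2]
  exact Ideal.mem_map_of_mem _ hcb

/-- Membership in the kernel of a law on a filtered colimit. -/
theorem mem_ker_limit {C : Type u} [CommRing C] [Algebra A C] {ι : Type u} [Preorder ι]
    [IsDirected ι (fun i j => i ≤ j)] [Nonempty ι]
    (Bi : ι → Type u) [∀ i, CommRing (Bi i)] [∀ i, Algebra A (Bi i)]
    (t : ∀ i j : ι, i ≤ j → (Bi i →ₐ[A] Bi j)) (φ : ∀ i : ι, Bi i →ₐ[A] B)
    (hcomp : ∀ (i j : ι) (h : i ≤ j), (φ j).comp (t i j h) = φ i)
    (hsurj : ∀ b : B, ∃ (i : ι) (x : Bi i), φ i x = b) (G : PolLaw.MulLaw A B C d) (b : B) :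
    b ∈ PolLaw.ker G.law ↔ ∃ (i : ι) (x : Bi i), φ i x = b ∧
      ∀ (j : ι) (h : i ≤ j), t i j h x ∈ PolLaw.ker (G.precomp (φ j)).law := by
  classical
  constructor
  · intro hb
    obtain ⟨i, x, hx⟩ := hsurj b
    refine ⟨i, x, hx, fun j h S _ _ z w => ?_⟩
    show G.law.toFun' S ((φ j).toLinearMap.lTensor S (z + w * (1 ⊗ₜ[A] t i j h x))) =
      G.law.toFun' S ((φ j).toLinearMap.lTensor S z)
    rw [PolLaw.lTensor_algHom_apply, PolLaw.lTensor_algHom_apply, map_add, map_mul,
      Algebra.TensorProduct.map_tmul, map_one, ← AlgHom.comp_apply, hcomp, hx]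
    exact hb S _ _
  · rintro ⟨i, x, rfl, hker⟩ S _ _ z w
    have hlift : ∀ v : S ⊗[A] B, ∃ (k : ι), i ≤ k ∧ ∀ l, k ≤ l → ∃ v' : S ⊗[A] Bi l,
        Algebra.TensorProduct.map (AlgHom.id S S) (φ l) v' = v := by
      intro v
      induction v using TensorProduct.induction_on with
      | zero => exact ⟨i, le_rfl, fun l _ => ⟨0, map_zero _⟩⟩
      | tmul s y =>
        obtain ⟨k, y', hy⟩ := hsurj y
        obtain ⟨k', hk, hk'⟩ := exists_ge_ge i k
        refine ⟨k', hk, fun l hl => ⟨s ⊗ₜ[A] t k l (hk'.trans hl) y', ?_⟩⟩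
        rw [Algebra.TensorProduct.map_tmul, AlgHom.id_apply, ← AlgHom.comp_apply, hcomp, hy]
      | add p q hp hq =>
        obtain ⟨k, hik, hp'⟩ := hp
        obtain ⟨k', -, hq'⟩ := hq
        obtain ⟨l, hl, hl'⟩ := exists_ge_ge k k'
        refine ⟨l, hik.trans hl, fun l' h' => ?_⟩
        obtain ⟨p', rfl⟩ := hp' l' (hl.trans h')
        obtain ⟨q', rfl⟩ := hq' l' (hl'.trans h')
        exact ⟨p' + q', map_add _ _ _⟩
    obtain ⟨k, hik, hz⟩ := hlift z
    obtain ⟨k', -, hw⟩ := hlift w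
    obtain ⟨l, hl, hl'⟩ := exists_ge_ge k k'
    obtain ⟨z', rfl⟩ := hz l hl
    obtain ⟨w', rfl⟩ := hw l hl'
    have h : G.law.toFun' S ((φ l).toLinearMap.lTensor S (z' + w' * (1 ⊗ₜ[A] t i l (hik.trans hl) x))) =
        G.law.toFun' S ((φ l).toLinearMap.lTensor S z') := hker l (hik.trans hl) S z' w'
    rw [PolLaw.lTensor_algHom_apply, PolLaw.lTensor_algHom_apply, map_add, map_mul,
      Algebra.TensorProduct.map_tmul, map_one, ← AlgHom.comp_apply, hcomp] at h
    exact h

end Groth.Agent.GammaD
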