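import Groth.Agent.Lib.GammaD.Norm
import Mathlib.RingTheory.Polynomial.Basic
import Mathlib.Algebra.Polynomial.BigOperators
import Mathlib.Algebra.Polynomial.AlgebraMap

/-! # Scalar multiplicative laws: characteristic polynomials and the kernel (Cayley–Hamilton) -/

universe u

open scoped TensorProduct

namespace Groth.Agent.GammaD

variable {A : Type u} [CommRing A] {B : Type u} [CommRing B] [Algebra A B] {d : ℕ}
  (F : PolLaw.MulLaw A B A d)

/-- The value of a scalar law in the test algebra itself. -/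
noncomputable def nv (S : Type u) [CommSemiring S] [Algebra A S] (x : S ⊗[A] B) : S :=
  Algebra.TensorProduct.rid A S S (F.law.toFun' S x)

variable {F}

theorem nv_mul {S : Type u} [CommSemiring S] [Algebra A S] (x y : S ⊗[A] B) :
    nv F S (x * y) = nv F S x * nv F S y := by
  simp [nv, (F.mult S).2]

theorem nv_one {S : Type u} [CommSemiring S] [Algebra A S] : nv F S (1 : S ⊗[A] B) = 1 := by
  simp [nv, (F.mult S).1]

theorem nv_smul {S : Type u} [CommSemiring S] [Algebra A S] (s : S) (x : S ⊗[A] B) :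
    nv F S (s • x) = s ^ d * nv F S x := by
  rw [nv, F.homog S, map_smul, smul_eq_mul]; rfl

theorem nv_inj {S : Type u} [CommSemiring S] [Algebra A S] {x y : S ⊗[A] B} :
    nv F S x = nv F S y ↔ F.law.toFun' S x = F.law.toFun' S y :=
  (Algebra.TensorProduct.rid A S S).injective.eq_iff

theorem nv_compat {S S' : Type u} [CommSemiring S] [Algebra A S] [CommSemiring S'] [Algebra A S']
    (φ : S →ₐ[A] S') (x : S ⊗[A] B) :
    φ (nv F S x) = nv F S' (Algebra.TensorProduct.map φ (AlgHom.id A B) x) := by
  have h : ∀ z : S ⊗[A] A, φ (Algebra.TensorProduct.rid A S S z) =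
      Algebra.TensorProduct.rid A S' S' (φ.toLinearMap.rTensor A z) := by
    intro z
    induction z using TensorProduct.induction_on with
    | zero => simp
    | tmul s a => simp
    | add a b ha hb => simp only [map_add, ha, hb]
  rw [nv, h, law_compat F.law φ]
  congr 2

theorem nv_scalar {S : Type u} [CommSemiring S] [Algebra A S] (s : S) :
    nv F S (s ⊗ₜ[A] (1 : B)) = s ^ d := by
  rw [← mul_one (s ^ d), ← nv_one (F := F) (S := S), ← nv_smul, Algebra.TensorProduct.one_def,
    TensorProduct.smul_tmul', smul_eq_mul, mul_one]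

variable (F) in
/-- The characteristic polynomial of `y`. -/
noncomputable def chi (S : Type u) [CommRing S] [Algebra A S] (y : S ⊗[A] B) : Polynomial S :=
  nv F (Polynomial S) (Algebra.TensorProduct.map (IsScalarTower.toAlgHom A S (Polynomial S)) (AlgHom.id A B) y -
    Polynomial.X ⊗ₜ[A] (1 : B))

theorem chi_map {S S' : Type u} [CommRing S] [Algebra A S] [CommRing S'] [Algebra A S'] (φ : S →ₐ[A] S')
    (y : S ⊗[A] B) :
    (chi F S y).map φ.toRingHom = chi F S' (Algebra.TensorProduct.map φ (AlgHom.id A B) y) := by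
  show (Polynomial.mapAlgHom φ) (nv F _ _) = _
  rw [nv_compat, chi, map_sub, Algebra.TensorProduct.map_tmul]
  congr 2
  · induction y using TensorProduct.induction_on with
    | zero => simp
    | tmul s a => simp
    | add a b ha hb => simp only [map_add, ha, hb]
  · simp

/-! ## The computation in the tensor power -/

section comp

variable (A B d) in
/-- A slot. -/
noncomputable def slot (S : Type u) [CommSemiring S] [Algebra A S] (l : Fin d) :
    S ⊗[A] Pres A B →ₐ[S] S ⊗[A] Tpow A (Pres A B) d :=
  Algebra.TensorProduct.map (AlgHom.id S S) (PiTensorProduct.singleAlgHom (A := fun _ : Fin d => Pres A B) l)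

theorem tl_eq_prod_slot (S : Type u) [CommSemiring S] [Algebra A S] (y : S ⊗[A] Pres A B) :
    tl A (Pres A B) d S y = ∏ l, slot A B d S l y := rfl

variable (F) in
/-- `G F` in the test algebra itself. -/
noncomputable def Gt (S : Type u) [CommSemiring S] [Algebra A S] :
    S ⊗[A] Tpow A (Pres A B) d →ₗ[S] S :=
  (Algebra.TensorProduct.rid A S S).toLinearMap ∘ₗ (G F).baseChange S

theorem Gt_apply {S : Type u} [CommSemiring S] [Algebra A S] (u : S ⊗[A] Tpow A (Pres A B) d) :
    Gt F S u = Algebra.TensorProduct.rid A S S ((G F).lTensor S u) := rfl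

theorem Gt_tmul {S : Type u} [CommSemiring S] [Algebra A S] (s : S) (t : Tpow A (Pres A B) d) :
    Gt F S (s ⊗ₜ[A] t) = G F t • s := by
  simp [Gt_apply]

theorem Gt_tl {S : Type u} [CommSemiring S] [Algebra A S] (y : S ⊗[A] Pres A B) :
    Gt F S (tl A _ d S y) = nv F S ((piP A B).toLinearMap.lTensor S y) := by
  rw [Gt_apply, G_tl]; rfl

theorem Gt_mul {S : Type u} [CommSemiring S] [Algebra A S] {u v : S ⊗[A] Tpow A (Pres A B) d}
    (hu : R.lTensor S u = u) (hv : R.lTensor S v = v) : Gt F S (u * v) = Gt F S u * Gt F S v := by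
  rw [Gt_apply, lTensor_G_mul F hu hv, map_mul]; rfl

theorem Gt_one {S : Type u} [CommSemiring S] [Algebra A S] :
    Gt F S (1 : S ⊗[A] Tpow A (Pres A B) d) = 1 := by
  rw [Algebra.TensorProduct.one_def, Gt_tmul, G_one, one_smul]

variable (A B d) in
/-- The invariant part of a base-changed tensor power. -/
noncomputable def fixR (S : Type u) [CommSemiring S] [Algebra A S] :
    Subalgebra S (S ⊗[A] Tpow A (Pres A B) d) where
  carrier := {u | R.lTensor S u = u}
  mul_mem' hu hv := orbP_fixed_mul _ hu hv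
  add_mem' {u v} (hu : _ = u) (hv : _ = v) := by
    show R.lTensor S (u + v) = u + v
    rw [map_add, hu, hv]
  algebraMap_mem' s := by
    show R.lTensor S ((s : S) ⊗ₜ[A] (1 : Tpow A (Pres A B) d)) = _
    rw [LinearMap.lTensor_tmul, show R (1 : Tpow A (Pres A B) d) = 1 from
      orbP_eq_self (bP A B) (one_mem _)]
    rfl

variable (F) in
/-- `Gt` is an algebra map on the invariant part. -/
noncomputable def GtHom (S : Type u) [CommSemiring S] [Algebra A S] : fixR A B d S →ₐ[S] S :=
  AlgHom.ofLinearMap ((Gt F S).comp (fixR A B d S).val.toLinearMap) Gt_one fun u v => Gt_mul u.2 v.2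

theorem GtHom_apply {S : Type u} [CommSemiring S] [Algebra A S] (u : fixR A B d S) :
    GtHom F S u = Gt F S u := rfl

variable {S : Type u} [CommRing S] [Algebra A S]

variable (A B d S) in
/-- Polynomials over a tensor product. -/
noncomputable def Theta : Polynomial S ⊗[A] Tpow A (Pres A B) d →ₐ[A]
    Polynomial (S ⊗[A] Tpow A (Pres A B) d) :=
  Algebra.TensorProduct.lift (Polynomial.mapAlgHom Algebra.TensorProduct.includeLeft)
    (Polynomial.CAlgHom.comp Algebra.TensorProduct.includeRight) fun x y => by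
      exact Commute.all (S := Polynomial (S ⊗[A] Tpow A (Pres A B) d)) _ _

theorem Theta_tmul (p : Polynomial S) (t : Tpow A (Pres A B) d) :
    Theta A B d S (p ⊗ₜ[A] t) =
      p.map (Algebra.TensorProduct.includeLeftRingHom) * Polynomial.C ((1 : S) ⊗ₜ[A] t) := by
  simp [Theta]
  rfl

theorem coeff_Theta (U : Polynomial S ⊗[A] Tpow A (Pres A B) d) (k : ℕ) :
    (Theta A B d S U).coeff k = ((Polynomial.lcoeff S k).restrictScalars A).rTensor _ U := by
  induction U using TensorProduct.induction_on with
  | zero => simp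
  | tmul p t => simp [Theta_tmul]
  | add a b ha hb => simp only [map_add, Polynomial.coeff_add, ha, hb]

theorem coeff_rid_G (U : Polynomial S ⊗[A] Tpow A (Pres A B) d) (k : ℕ) :
    (Gt F (Polynomial S) U).coeff k = Gt F S ((Theta A B d S U).coeff k) := by
  rw [coeff_Theta]
  induction U using TensorProduct.induction_on with
  | zero => simp
  | tmul p t => simp [Gt_tmul]
  | add a b ha hb => simp only [map_add, Polynomial.coeff_add, ha, hb]

theorem coeff_Theta_R (U : Polynomial S ⊗[A] Tpow A (Pres A B) d) (k : ℕ) :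
    R.lTensor S ((Theta A B d S U).coeff k) = (Theta A B d S (R.lTensor _ U)).coeff k := by
  rw [coeff_Theta, coeff_Theta]
  induction U using TensorProduct.induction_on with
  | zero => simp
  | tmul p t => simp
  | add a b ha hb => simp only [map_add, ha, hb]

variable (d) in
/-- The universal characteristic polynomial. -/
noncomputable def Qc (y : S ⊗[A] Pres A B) : Polynomial (S ⊗[A] Tpow A (Pres A B) d) :=
  ∏ l, (Polynomial.C (slot A B d S l y) - Polynomial.X)

/-- The argument of the characteristic polynomial. -/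
noncomputable def shiftX (y : S ⊗[A] Pres A B) : Polynomial S ⊗[A] Pres A B :=
  Algebra.TensorProduct.map (IsScalarTower.toAlgHom A S (Polynomial S)) (AlgHom.id A _) y -
    Polynomial.X ⊗ₜ[A] (1 : Pres A B)

theorem Theta_tl_shiftX (y : S ⊗[A] Pres A B) :
    Theta A B d S (tl A _ d _ (shiftX y)) = Qc d y := by
  rw [tl_eq_prod_slot, map_prod, Qc]
  refine Finset.prod_congr rfl fun l _ => ?_
  rw [shiftX, map_sub, map_sub]
  congr 1
  · induction y using TensorProduct.induction_on with
    | zero => simp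
    | tmul s p => simp [slot, Theta_tmul, ← Polynomial.C_mul]
    | add a b ha hb => simp only [map_add, ha, hb]
  · simp only [slot, Algebra.TensorProduct.map_tmul, AlgHom.id_apply, map_one, Theta_tmul,
      Polynomial.map_X]
    rw [← Algebra.TensorProduct.one_def, map_one, mul_one]

theorem piP_shiftX (y : S ⊗[A] Pres A B) :
    (piP A B).toLinearMap.lTensor _ (shiftX y) =
      Algebra.TensorProduct.map (IsScalarTower.toAlgHom A S (Polynomial S)) (AlgHom.id A B)
        ((piP A B).toLinearMap.lTensor S y) - Polynomial.X ⊗ₜ[A] (1 : B) := by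
  rw [shiftX, map_sub]
  congr 1
  · induction y using TensorProduct.induction_on with
    | zero => simp
    | tmul s p => simp
    | add a b ha hb => simp only [map_add, ha, hb]
  · simp

theorem coeff_chi (y : S ⊗[A] Pres A B) (k : ℕ) :
    (chi F S ((piP A B).toLinearMap.lTensor S y)).coeff k = Gt F S ((Qc d y).coeff k) := by
  rw [chi, ← piP_shiftX, ← Gt_tl, coeff_rid_G, Theta_tl_shiftX]

theorem Qc_coeff_mem (y : S ⊗[A] Pres A B) (k : ℕ) : (Qc d y).coeff k ∈ fixR A B d S := by
  show R.lTensor S _ = _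
  rw [← Theta_tl_shiftX, coeff_Theta_R, orbP_tl]

theorem natDegree_Qc_le (y : S ⊗[A] Pres A B) : (Qc d y).natDegree ≤ d :=
  (Polynomial.natDegree_prod_le _ _).trans ((Finset.sum_le_sum fun l _ =>
    ((Polynomial.natDegree_sub_le _ _).trans (max_le
      ((Polynomial.natDegree_C _).trans_le zero_le_one) Polynomial.natDegree_X_le))).trans (by simp))

theorem coeff_Qc_top (y : S ⊗[A] Pres A B) : (Qc d y).coeff d = (-1) ^ d := by
  have := Polynomial.coeff_prod_of_natDegree_le (s := (Finset.univ : Finset (Fin d)))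
    (fun l => Polynomial.C (slot A B d S l y) - Polynomial.X) 1 fun l _ =>
      (Polynomial.natDegree_sub_le _ _).trans (max_le
        ((Polynomial.natDegree_C _).trans_le zero_le_one) Polynomial.natDegree_X_le)
  simpa [Qc] using this

theorem eval_Qc (y : S ⊗[A] Pres A B) (l : Fin d) : (Qc d y).eval (slot A B d S l y) = 0 := by
  rw [Qc, Polynomial.eval_prod]
  exact Finset.prod_eq_zero (Finset.mem_univ l) (by simp)

variable (A B d) in
/-- Substitution of invariants for variables. -/
noncomputable def Psi (κ : Type) (s : κ → fixR A B d S) :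
    MvPolynomial κ S ⊗[A] Tpow A (Pres A B) d →ₐ[A] S ⊗[A] Tpow A (Pres A B) d :=
  Algebra.TensorProduct.lift
    (((MvPolynomial.aeval fun k => (s k : S ⊗[A] Tpow A (Pres A B) d)) :
      MvPolynomial κ S →ₐ[S] S ⊗[A] Tpow A (Pres A B) d).restrictScalars A)
    Algebra.TensorProduct.includeRight fun _ _ => mul_comm _ _

theorem Psi_tmul {κ : Type} (s : κ → fixR A B d S) (p : MvPolynomial κ S) (t : Tpow A (Pres A B) d) :
    Psi A B d κ s (p ⊗ₜ[A] t) =
      MvPolynomial.aeval (fun k => (s k : S ⊗[A] Tpow A (Pres A B) d)) p * ((1 : S) ⊗ₜ[A] t) := rfl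

theorem Gt_Psi {κ : Type} (s : κ → fixR A B d S) (U : MvPolynomial κ S ⊗[A] Tpow A (Pres A B) d) :
    Gt F S (Psi A B d κ s (R.lTensor _ U)) =
      MvPolynomial.aeval (fun k => GtHom F S (s k)) (Gt F (MvPolynomial κ S) U) := by
  induction U using TensorProduct.induction_on with
  | zero => simp
  | add p q hp hq => simp only [map_add, hp, hq]
  | tmul p t =>
    have hp : MvPolynomial.aeval (fun k => (s k : S ⊗[A] Tpow A (Pres A B) d)) p =
        ((MvPolynomial.aeval s p : fixR A B d S) : S ⊗[A] Tpow A (Pres A B) d) :=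
      (AlgHom.congr_fun (MvPolynomial.comp_aeval s (fixR A B d S).val) p).symm
    have ht : R.lTensor S ((1 : S) ⊗ₜ[A] R t) = (1 : S) ⊗ₜ[A] R t := by
      rw [LinearMap.lTensor_tmul, show R (R t) = R t from orbP_eq_self (bP A B) (orbP_mem_TS (bP A B) t)]
    have hq : GtHom F S (MvPolynomial.aeval s p) = MvPolynomial.aeval (fun k => GtHom F S (s k)) p :=
      AlgHom.congr_fun (MvPolynomial.comp_aeval s (GtHom F S)) p
    rw [LinearMap.lTensor_tmul, Psi_tmul, hp, Gt_mul (MvPolynomial.aeval s p : fixR A B d S).2 ht, Gt_tmul,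
      G_R, Gt_tmul, ← GtHom_apply, hq, mul_smul_comm, mul_one,
      ← algebraMap_smul S (G F t) p, map_smul, algebraMap_smul]

theorem Psi_slot {κ : Type} (s : κ → fixR A B d S) (l : Fin d) (v : S ⊗[A] Pres A B) :
    Psi A B d κ s (slot A B d (MvPolynomial κ S) l
      (Algebra.TensorProduct.map (IsScalarTower.toAlgHom A S (MvPolynomial κ S)) (AlgHom.id A _) v)) =
      slot A B d S l v := by
  induction v using TensorProduct.induction_on with
  | zero => simp
  | add p q hp hq => simp only [map_add, hp, hq]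
  | tmul r p => simp [Psi_tmul, slot]

theorem Psi_slot_X {κ : Type} (s : κ → fixR A B d S) (l : Fin d) (k : κ) :
    Psi A B d κ s (slot A B d (MvPolynomial κ S) l ((MvPolynomial.X k) ⊗ₜ[A] (1 : Pres A B))) =
      (s k : S ⊗[A] Tpow A (Pres A B) d) := by
  rw [slot, Algebra.TensorProduct.map_tmul, map_one, Psi_tmul, ← Algebra.TensorProduct.one_def, mul_one,
    AlgHom.id_apply, MvPolynomial.aeval_X]

/-- The substitution principle: values at a point where the slots of `z` become those of `x`. -/
theorem nv_subst {κ : Type} (s : κ → fixR A B d S) (z : MvPolynomial κ S ⊗[A] Pres A B)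
    (x : S ⊗[A] Pres A B)
    (hz : ∀ l, Psi A B d κ s (slot A B d (MvPolynomial κ S) l z) = slot A B d S l x) :
    nv F S (Algebra.TensorProduct.map
      ((MvPolynomial.aeval fun k => GtHom F S (s k) : MvPolynomial κ S →ₐ[S] S).restrictScalars A)
      (AlgHom.id A B) ((piP A B).toLinearMap.lTensor _ z)) =
      nv F S ((piP A B).toLinearMap.lTensor S x) := by
  have h1 := Gt_Psi (F := F) s (tl A _ d _ z)
  rw [orbP_tl (bP A B) _ z, tl_eq_prod_slot, map_prod, Finset.prod_congr rfl fun l _ => hz l,
    ← tl_eq_prod_slot, Gt_tl, ← tl_eq_prod_slot, Gt_tl] at h1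
  rw [h1, ← nv_compat]
  rfl

/-- Cayley–Hamilton, at the level of values. -/
theorem nv_add_mul_aeval_chi (y x w : S ⊗[A] B) :
    nv F S (x + w * Polynomial.aeval y (chi F S y)) = nv F S x := by
  obtain ⟨y, rfl⟩ := exists_pi_lift S y
  obtain ⟨x, rfl⟩ := exists_pi_lift S x
  obtain ⟨w, rfl⟩ := exists_pi_lift S w
  let inc : S →ₐ[A] MvPolynomial (Fin (d + 1)) S := IsScalarTower.toAlgHom A S _
  let up : S ⊗[A] Pres A B →ₐ[A] MvPolynomial (Fin (d + 1)) S ⊗[A] Pres A B :=
    Algebra.TensorProduct.map inc (AlgHom.id A _)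
  let s : Fin (d + 1) → fixR A B d S := fun k => ⟨(Qc d y).coeff k, Qc_coeff_mem y k⟩
  let z : MvPolynomial (Fin (d + 1)) S ⊗[A] Pres A B :=
    up x + up w * ∑ k : Fin (d + 1), (MvPolynomial.X k : MvPolynomial (Fin (d + 1)) S) ⊗ₜ[A] (1 : Pres A B) *
      up y ^ (k : ℕ)
  have hslot : ∀ l, Psi A B d _ s (slot A B d _ l z) = slot A B d S l x := by
    intro l
    simp only [z, up, inc, map_add, map_mul, map_sum, map_pow, Psi_slot, Psi_slot_X]
    have : ∑ k : Fin (d + 1), (Qc d y).coeff k * slot A B d S l y ^ (k : ℕ) = 0 := by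
      rw [Fin.sum_univ_eq_sum_range fun k => (Qc d y).coeff k * slot A B d S l y ^ k,
        ← Polynomial.eval_eq_sum_range' (Nat.lt_succ_of_le (natDegree_Qc_le y)), eval_Qc]
    rw [this, mul_zero, add_zero]
  refine Eq.trans ?_ (nv_subst (F := F) s z x hslot)
  congr 1
  let ev : MvPolynomial (Fin (d + 1)) S →ₐ[A] S :=
    (MvPolynomial.aeval fun k => GtHom F S (s k)).restrictScalars A
  have hv : ∀ v : S ⊗[A] Pres A B, Algebra.TensorProduct.map ev (AlgHom.id A B)
      ((piP A B).toLinearMap.lTensor _ (up v)) = (piP A B).toLinearMap.lTensor S v := by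
    intro v
    induction v using TensorProduct.induction_on with
    | zero => simp
    | add p q hp hq => simp only [map_add, hp, hq]
    | tmul r p => simp [up, inc, ev]
  have hX : ∀ k, Algebra.TensorProduct.map ev (AlgHom.id A B)
      ((piP A B).toLinearMap.lTensor _ ((MvPolynomial.X k : MvPolynomial (Fin (d + 1)) S) ⊗ₜ[A] (1 : Pres A B))) =
        GtHom F S (s k) ⊗ₜ[A] (1 : B) := fun k => by simp [ev]
  have hdeg : (chi F S ((piP A B).toLinearMap.lTensor S y)).natDegree < d + 1 :=
    Nat.lt_succ_of_le (Polynomial.natDegree_le_iff_coeff_eq_zero.2 fun m hm => by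
      rw [coeff_chi, Polynomial.coeff_eq_zero_of_natDegree_lt ((natDegree_Qc_le y).trans_lt hm), map_zero])
  rw [show (MvPolynomial.aeval fun k => GtHom F S (s k)).restrictScalars A = ev from rfl]
  simp only [PolLaw.lTensor_algHom_apply] at hv hX ⊢
  simp only [z, map_add, map_mul, map_sum, map_pow, hv, hX]
  congr 2
  rw [PolLaw.lTensor_algHom_apply] at hdeg
  rw [Polynomial.aeval_eq_sum_range' hdeg,
    ← Fin.sum_univ_eq_sum_range fun k => (chi F S (Algebra.TensorProduct.map (AlgHom.id S S) (piP A B) y)).coeff k •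
      Algebra.TensorProduct.map (AlgHom.id S S) (piP A B) y ^ k]
  refine Finset.sum_congr rfl fun k _ => ?_
  have hk := coeff_chi (F := F) y k
  rw [PolLaw.lTensor_algHom_apply] at hk
  rw [hk, Algebra.smul_def]
  rfl

theorem natDegree_chi_le (y : S ⊗[A] B) : (chi F S y).natDegree ≤ d := by
  obtain ⟨y, rfl⟩ := exists_pi_lift S y
  exact Polynomial.natDegree_le_iff_coeff_eq_zero.2 fun m hm => by
    rw [coeff_chi, Polynomial.coeff_eq_zero_of_natDegree_lt ((natDegree_Qc_le y).trans_lt hm), map_zero]

theorem coeff_chi_top (y : S ⊗[A] B) : (chi F S y).coeff d = (-1) ^ d := by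
  obtain ⟨y, rfl⟩ := exists_pi_lift S y
  rw [coeff_chi, coeff_Qc_top]
  rw [show ((-1 : S ⊗[A] Tpow A (Pres A B) d) ^ d) =
      algebraMap S (S ⊗[A] Tpow A (Pres A B) d) ((-1 : S) ^ d) by rw [map_pow, map_neg, map_one],
    Algebra.algebraMap_eq_smul_one, map_smul, Gt_one, smul_eq_mul, mul_one]

end comp

end Groth.Agent.GammaD
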