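import Groth.Prelude.Def_PolLaw
import Groth.Prelude.Def_SymTen
import Mathlib.LinearAlgebra.PiTensorProduct.Basis
import Mathlib.LinearAlgebra.TensorProduct.Basis
import Mathlib.RingTheory.MvPolynomial.Basic
import Mathlib.Algebra.BigOperators.Ring.Finset
import Mathlib.Algebra.MvPolynomial.Polynomial

/-! # Homogeneous polynomial laws on a free module, read on the tensor power -/

universe u

open scoped TensorProduct

namespace Groth.Agent.GammaD

variable {A : Type u} [CommRing A]

section tl

variable (A) (P : Type u) [CommRing P] [Algebra A P] (d : ℕ)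

/-- The tensor power. -/
abbrev Tpow := ⨂[A] _ : Fin d, P

/-- The law `y ↦ y ⊗ ⋯ ⊗ y`, as the product of the `d` coordinate embeddings. -/
noncomputable def tl (S : Type u) [CommSemiring S] [Algebra A S] (y : S ⊗[A] P) :
    S ⊗[A] Tpow A P d :=
  ∏ i : Fin d, Algebra.TensorProduct.map (AlgHom.id A S)
    (PiTensorProduct.singleAlgHom (R := A) (A := fun _ : Fin d => P) i) y

variable {A P d}

theorem prod_single (f : Fin d → P) :
    ∏ i, PiTensorProduct.singleAlgHom (R := A) (A := fun _ : Fin d => P) i (f i) =
      PiTensorProduct.tprod A f := by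
  classical
  show ∏ i, PiTensorProduct.tprodMonoidHom A (MonoidHom.mulSingle (fun _ : Fin d => P) i (f i)) = _
  rw [← map_prod]
  show PiTensorProduct.tprod A (∏ i, MonoidHom.mulSingle (fun _ : Fin d => P) i (f i)) = _
  congr 1
  exact Finset.univ_prod_mulSingle f

theorem prod_tmul {S : Type u} [CommSemiring S] [Algebra A S] {T : Type u} [CommRing T] [Algebra A T]
    {ι : Type*} (s : Finset ι) (a : ι → S) (b : ι → T) :
    ∏ i ∈ s, (a i ⊗ₜ[A] b i) = (∏ i ∈ s, a i) ⊗ₜ[A] (∏ i ∈ s, b i) := by
  classical
  induction s using Finset.induction_on with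
  | empty => rfl
  | insert i s hi ih =>
    rw [Finset.prod_insert hi, Finset.prod_insert hi, Finset.prod_insert hi, ih,
      Algebra.TensorProduct.tmul_mul_tmul]

/-- The multinomial expansion. -/
theorem tl_sum (S : Type u) [CommSemiring S] [Algebra A S] {ι : Type*} (M0 : Finset ι)
    (a : ι → S) (b : ι → P) :
    tl A P d S (∑ j ∈ M0, a j ⊗ₜ[A] b j) =
      ∑ c ∈ Fintype.piFinset (fun _ : Fin d => M0),
        (∏ i, a (c i)) ⊗ₜ[A] PiTensorProduct.tprod A (fun i => b (c i)) := by
  classical
  simp only [tl, map_sum, Algebra.TensorProduct.map_tmul, AlgHom.id_apply]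
  rw [Finset.prod_univ_sum]
  exact Finset.sum_congr rfl fun c _ => by rw [prod_tmul, prod_single]

theorem tl_compat {S : Type u} [CommSemiring S] [Algebra A S] {S' : Type u} [CommSemiring S']
    [Algebra A S'] (φ : S →ₐ[A] S') (y : S ⊗[A] P) :
    φ.toLinearMap.rTensor _ (tl A P d S y) = tl A P d S' (φ.toLinearMap.rTensor _ y) := by
  have h : ∀ (T : Type u) [CommRing T] [Algebra A T] (z : S ⊗[A] T),
      φ.toLinearMap.rTensor T z = Algebra.TensorProduct.map φ (AlgHom.id A T) z := fun T _ _ z => by
    induction z using TensorProduct.induction_on with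
    | zero => simp
    | tmul a b => rfl
    | add a b ha hb => simp only [map_add, ha, hb]
  rw [h, h, tl, tl, map_prod]
  refine Finset.prod_congr rfl fun i _ => ?_
  induction y using TensorProduct.induction_on with
  | zero => simp
  | tmul a b => simp
  | add a b ha hb => simp only [map_add, ha, hb]

theorem tl_mul (S : Type u) [CommSemiring S] [Algebra A S] (x y : S ⊗[A] P) :
    tl A P d S (x * y) = tl A P d S x * tl A P d S y := by
  simp only [tl, map_mul, Finset.prod_mul_distrib]

theorem tl_one (S : Type u) [CommSemiring S] [Algebra A S] : tl A P d S 1 = 1 := by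
  simp only [tl, map_one, Finset.prod_const_one]

theorem tl_smul (S : Type u) [CommSemiring S] [Algebra A S] (s : S) (y : S ⊗[A] P) :
    tl A P d S (s • y) = s ^ d • tl A P d S y := by
  have h : ∀ z : S ⊗[A] P, s • z = (s ⊗ₜ[A] (1 : P)) * z := fun z => by
    induction z using TensorProduct.induction_on with
    | zero => simp
    | tmul a b => simp [TensorProduct.smul_tmul', Algebra.TensorProduct.tmul_mul_tmul]
    | add a b ha hb => simp [smul_add, ha, hb, mul_add]
  have h' : ∀ (r : S) (z : S ⊗[A] Tpow A P d), r • z = (r ⊗ₜ[A] (1 : Tpow A P d)) * z := fun r z => by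
    induction z using TensorProduct.induction_on with
    | zero => simp
    | tmul a b => simp [TensorProduct.smul_tmul', Algebra.TensorProduct.tmul_mul_tmul]
    | add a b ha hb => simp [smul_add, ha, hb, mul_add]
  rw [h, tl_mul, h']
  congr 1
  simp [tl, Algebra.TensorProduct.tmul_pow]
  rw [show PiTensorProduct.tprod A (1 : Fin d → P) = (1 : Tpow A P d) from rfl, one_pow]

end tl

section coef

variable {M : Type u} {N : Type u} [AddCommGroup N] [Module A N]

/-- The coefficient of a monomial in an element of `A[X] ⊗ N`. -/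
noncomputable def coefT (o : M →₀ ℕ) : MvPolynomial M A ⊗[A] N →ₗ[A] N :=
  (TensorProduct.lid A N).toLinearMap ∘ₗ (MvPolynomial.lcoeff A o).rTensor N

theorem coefT_tmul (o : M →₀ ℕ) (p : MvPolynomial M A) (x : N) :
    coefT o (p ⊗ₜ[A] x) = p.coeff o • x := by simp [coefT]

theorem ext_coefT {z z' : MvPolynomial M A ⊗[A] N} (h : ∀ o, coefT o z = coefT o z') : z = z' := by
  classical
  let e := TensorProduct.equivFinsuppOfBasisLeft (MvPolynomial.basisMonomials M A) (N := N)
  have : ∀ (o : M →₀ ℕ) (w : MvPolynomial M A ⊗[A] N), e w o = coefT o w := fun o w => by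
    induction w using TensorProduct.induction_on with
    | zero => simp
    | tmul p x => simp [e, coefT_tmul]; rfl
    | add a b ha hb => simp [map_add, ha, hb]
  refine e.injective (Finsupp.ext fun o => ?_)
  rw [this, this, h]

/-- Setting the variables outside `T` to zero. -/
noncomputable def kill (T : Finset M) : MvPolynomial M A →ₐ[A] MvPolynomial M A :=
  haveI := Classical.decPred fun m => m ∈ T
  MvPolynomial.aeval fun m => if m ∈ T then MvPolynomial.X m else 0

theorem kill_monomial_pos {T : Finset M} {o : M →₀ ℕ} (ho : o.support ⊆ T) (a : A) :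
    kill T (MvPolynomial.monomial o a) = MvPolynomial.monomial o a := by
  classical
  rw [kill, MvPolynomial.aeval_monomial, MvPolynomial.monomial_eq]
  congr 1
  exact Finset.prod_congr rfl fun m hm => by simp [ho hm]

theorem kill_monomial_neg {T : Finset M} {o : M →₀ ℕ} (ho : ¬ o.support ⊆ T) (a : A) :
    kill T (MvPolynomial.monomial o a) = 0 := by
  classical
  obtain ⟨m, hm, hmT⟩ := Finset.not_subset.1 ho
  rw [kill, MvPolynomial.aeval_monomial, Finsupp.prod, Finset.prod_eq_zero hm
    (by simp [hmT, zero_pow (Finsupp.mem_support_iff.1 hm)]), mul_zero]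

theorem coefT_kill_pos {T : Finset M} {o : M →₀ ℕ} (ho : o.support ⊆ T)
    (z : MvPolynomial M A ⊗[A] N) :
    coefT o ((kill T).toLinearMap.rTensor N z) = coefT o z := by
  classical
  induction z using TensorProduct.induction_on with
  | zero => simp
  | tmul p x =>
    rw [LinearMap.rTensor_tmul, coefT_tmul, coefT_tmul]
    congr 1
    induction p using MvPolynomial.induction_on' with
    | monomial o' a =>
      by_cases h : o'.support ⊆ T
      · rw [AlgHom.toLinearMap_apply, kill_monomial_pos h]
      · rw [AlgHom.toLinearMap_apply, kill_monomial_neg h, MvPolynomial.coeff_zero,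
          MvPolynomial.coeff_monomial, if_neg fun e : o' = o => h (by rw [e]; exact ho)]
    | add p q hp hq =>
      simp only [AlgHom.toLinearMap_apply, map_add, MvPolynomial.coeff_add] at hp hq ⊢
      rw [hp, hq]
  | add a b ha hb => simp only [map_add, ha, hb]

theorem coefT_kill_neg {T : Finset M} {o : M →₀ ℕ} (ho : ¬ o.support ⊆ T)
    (z : MvPolynomial M A ⊗[A] N) :
    coefT o ((kill T).toLinearMap.rTensor N z) = 0 := by
  classical
  induction z using TensorProduct.induction_on with
  | zero => simp
  | tmul p x =>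
    rw [LinearMap.rTensor_tmul, coefT_tmul]
    suffices ((kill T).toLinearMap p).coeff o = 0 by rw [this, zero_smul]
    induction p using MvPolynomial.induction_on' with
    | monomial o' a =>
      by_cases h : o'.support ⊆ T
      · rw [AlgHom.toLinearMap_apply, kill_monomial_pos h, MvPolynomial.coeff_monomial,
          if_neg fun e : o' = o => ho (e ▸ h)]
      · rw [AlgHom.toLinearMap_apply, kill_monomial_neg h, MvPolynomial.coeff_zero]
    | add p q hp hq =>
      simp only [AlgHom.toLinearMap_apply, map_add, MvPolynomial.coeff_add] at hp hq ⊢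
      rw [hp, hq, add_zero]
  | add a b ha hb => simp only [map_add, ha, hb, add_zero]

/-- Multiplying every variable by a new variable. -/
noncomputable def scaleT : MvPolynomial M A →ₐ[A] Polynomial (MvPolynomial M A) :=
  MvPolynomial.aeval fun m => Polynomial.C (MvPolynomial.X m) * Polynomial.X

theorem scaleT_monomial (o : M →₀ ℕ) (a : A) :
    scaleT (MvPolynomial.monomial o a) =
      Polynomial.C (MvPolynomial.monomial o a) * Polynomial.X ^ o.degree := by
  rw [scaleT, MvPolynomial.aeval_monomial, MvPolynomial.monomial_eq, map_mul, mul_assoc]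
  congr 1
  rw [Finsupp.prod, Finsupp.prod, map_prod, Finsupp.degree_apply, ← Finset.prod_pow_eq_pow_sum,
    ← Finset.prod_mul_distrib]
  exact Finset.prod_congr rfl fun m _ => by rw [mul_pow, map_pow]

end coef

variable {P : Type u} [CommRing P] [Algebra A P] {M : Type u} {C : Type u} [CommRing C] [Algebra A C]
  {d : ℕ}

/-- The universal argument on a finite set of basis vectors. -/
noncomputable def gen (bP : Module.Basis M A P) (T : Finset M) : MvPolynomial M A ⊗[A] P :=
  ∑ m ∈ T, MvPolynomial.X m ⊗ₜ[A] bP m

theorem kill_gen (bP : Module.Basis M A P) (U T : Finset M) (hUT : U ⊆ T) :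
    (kill U).toLinearMap.rTensor P (gen bP T) = gen bP U := by
  classical
  rw [gen, map_sum, gen, ← Finset.sum_subset hUT (fun m _ hm => by simp [kill, hm])]
  exact Finset.sum_congr rfl fun m hm => by simp [kill, hm]

/-- The coefficients of a law. -/
noncomputable def gam (bP : Module.Basis M A P) (L : P →ₚₗ[A] C) (o : M →₀ ℕ) : C :=
  coefT o (L.toFun' (MvPolynomial M A) (gen bP o.support))

theorem coefT_law_gen_eq_zero_of_degree (bP : Module.Basis M A P) {L : P →ₚₗ[A] C}
    (hL : PolLaw.IsHomog L d) (T : Finset M) {o : M →₀ ℕ} (ho : o.degree ≠ d) :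
    coefT o (L.toFun' (MvPolynomial M A) (gen bP T)) = 0 := by
  classical
  set z := L.toFun' (MvPolynomial M A) (gen bP T)
  let cst : MvPolynomial M A →ₐ[A] Polynomial (MvPolynomial M A) :=
    IsScalarTower.toAlgHom A (MvPolynomial M A) (Polynomial (MvPolynomial M A))
  have e1 : scaleT.toLinearMap.rTensor P (gen bP T) =
      (Polynomial.X : Polynomial (MvPolynomial M A)) • cst.toLinearMap.rTensor P (gen bP T) := by
    simp only [gen, map_sum, Finset.smul_sum, LinearMap.rTensor_tmul, TensorProduct.smul_tmul']
    refine Finset.sum_congr rfl fun m _ => ?_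
    congr 1
    rw [AlgHom.toLinearMap_apply, scaleT, MvPolynomial.aeval_X, smul_eq_mul]
    exact mul_comm _ _
  have h1 : scaleT.toLinearMap.rTensor C z =
      (Polynomial.X : Polynomial (MvPolynomial M A)) ^ d • cst.toLinearMap.rTensor C z := by
    have a1 := congrFun (L.isCompat' (scaleT (A := A) (M := M))) (gen bP T)
    have a2 := congrFun (L.isCompat' cst) (gen bP T)
    simp only [Function.comp_apply] at a1 a2
    rw [a1, e1, hL, ← a2]
  let ψ : Polynomial (MvPolynomial M A) ⊗[A] C →ₗ[A] C :=
    (TensorProduct.lid A C).toLinearMap ∘ₗ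
      ((MvPolynomial.lcoeff A o) ∘ₗ ((Polynomial.lcoeff (MvPolynomial M A) o.degree).restrictScalars A)).rTensor C
  have hl : ∀ w : MvPolynomial M A ⊗[A] C, ψ (scaleT.toLinearMap.rTensor C w) = coefT o w := fun w => by
    induction w using TensorProduct.induction_on with
    | zero => simp
    | tmul p c =>
      simp only [ψ, LinearMap.coe_comp, Function.comp_apply, LinearMap.rTensor_tmul,
        LinearEquiv.coe_coe, TensorProduct.lid_tmul, coefT_tmul]
      congr 1
      show ((scaleT p).coeff o.degree).coeff o = p.coeff o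
      induction p using MvPolynomial.induction_on' with
      | monomial o' a =>
        rw [scaleT_monomial, Polynomial.coeff_C_mul_X_pow]
        by_cases h : o.degree = o'.degree
        · rw [if_pos h]
        · rw [if_neg h, MvPolynomial.coeff_zero, MvPolynomial.coeff_monomial,
            if_neg fun e : o' = o => h (e ▸ rfl)]
      | add p q hp hq => simp [map_add, hp, hq]
    | add a b ha hb => simp only [map_add, ha, hb]
  have hr : ∀ w : MvPolynomial M A ⊗[A] C,
      ψ ((Polynomial.X : Polynomial (MvPolynomial M A)) ^ d • cst.toLinearMap.rTensor C w) = 0 :=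
    fun w => by
      induction w using TensorProduct.induction_on with
      | zero => simp
      | tmul p c =>
        simp only [ψ, LinearMap.rTensor_tmul, TensorProduct.smul_tmul', LinearMap.coe_comp,
          Function.comp_apply, LinearEquiv.coe_coe, TensorProduct.lid_tmul]
        show ((Polynomial.X ^ d * Polynomial.C p).coeff o.degree).coeff o • c = 0
        rw [mul_comm, Polynomial.coeff_C_mul_X_pow, if_neg ho, MvPolynomial.coeff_zero, zero_smul]
      | add a b ha hb => simp only [map_add, smul_add, ha, hb, add_zero]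
  rw [← hl z, h1, hr]

theorem coefT_law_gen (bP : Module.Basis M A P) {L : P →ₚₗ[A] C} (T : Finset M) {o : M →₀ ℕ} :
    (o.support ⊆ T → coefT o (L.toFun' (MvPolynomial M A) (gen bP T)) = gam bP L o) ∧
    (¬ o.support ⊆ T → coefT o (L.toFun' (MvPolynomial M A) (gen bP T)) = 0) := by
  have hcomp : ∀ U : Finset M, U ⊆ T →
      (kill U).toLinearMap.rTensor C (L.toFun' (MvPolynomial M A) (gen bP T)) =
        L.toFun' (MvPolynomial M A) (gen bP U) := fun U hU => by
    have a1 := congrFun (L.isCompat' (kill (A := A) U)) (gen bP T)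
    simp only [Function.comp_apply] at a1
    rw [a1, kill_gen bP U T hU]
  refine ⟨fun h => ?_, fun h => ?_⟩
  · rw [gam, ← hcomp _ h, coefT_kill_pos subset_rfl]
  · rw [← hcomp T subset_rfl, coefT_kill_neg h]

/-- The exponent of a word. -/
noncomputable def cnt (c : Fin d → M) : M →₀ ℕ := ∑ i, Finsupp.single (c i) 1

theorem cnt_degree (c : Fin d → M) : (cnt c).degree = d := by
  rw [cnt, map_sum]
  simp [Finsupp.degree_single]

theorem cnt_apply [DecidableEq M] (c : Fin d → M) (m : M) :
    cnt c m = (Finset.univ.filter fun i => c i = m).card := by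
  rw [cnt, Finsupp.finsetSum_apply, Finset.card_filter]
  exact Finset.sum_congr rfl fun i _ => by rw [Finsupp.single_apply]

theorem mem_support_cnt (c : Fin d → M) (i : Fin d) : c i ∈ (cnt c).support := by
  classical
  rw [Finsupp.mem_support_iff, cnt_apply]
  exact (Finset.card_pos.2 ⟨i, by simp⟩).ne'

theorem support_cnt_subset {c : Fin d → M} {T : Finset M} (h : ∀ i, c i ∈ T) :
    (cnt c).support ⊆ T := by
  classical
  intro m hm
  rw [Finsupp.mem_support_iff, cnt_apply] at hm
  obtain ⟨i, hi⟩ := Finset.card_pos.1 (Nat.pos_of_ne_zero hm)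
  exact (Finset.mem_filter.1 hi).2 ▸ h i

theorem cnt_perm (c : Fin d → M) (σ : Equiv.Perm (Fin d)) : cnt (c ∘ σ) = cnt c := by
  rw [cnt, cnt]
  exact Equiv.sum_comp σ fun i => Finsupp.single (c i) 1

theorem exists_cnt_eq : ∀ {d : ℕ} {o : M →₀ ℕ}, o.degree = d → ∃ c : Fin d → M, cnt c = o := by
  intro d
  induction d with
  | zero =>
    intro o ho
    exact ⟨Fin.elim0, by rw [(Finsupp.degree_eq_zero_iff o).1 ho]; simp [cnt]⟩
  | succ d ih =>
    intro o ho
    classical
    have hne : o ≠ 0 := fun e => by simp [e] at ho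
    obtain ⟨m, hm⟩ := Finsupp.support_nonempty_iff.2 hne
    have hle : Finsupp.single m 1 ≤ o :=
      Finsupp.single_le_iff.2 (Nat.one_le_iff_ne_zero.2 (Finsupp.mem_support_iff.1 hm))
    have he : Finsupp.single m 1 + (o - Finsupp.single m 1) = o := add_tsub_cancel_of_le hle
    obtain ⟨c, hc⟩ := ih (o := o - Finsupp.single m 1) (by
      have := congrArg Finsupp.degree he
      rw [map_add, Finsupp.degree_single, ho] at this
      omega)
    refine ⟨Fin.cons m c, ?_⟩
    rw [cnt, Fin.sum_univ_succ]
    simp only [Fin.cons_zero, Fin.cons_succ]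
    rw [← cnt, hc, he]

open scoped Classical in
/-- A chosen word with given exponent. -/
noncomputable def rep [Nonempty M] (o : M →₀ ℕ) : Fin d → M :=
  if h : o.degree = d then (exists_cnt_eq h).choose else fun _ => Classical.arbitrary M

theorem cnt_rep [Nonempty M] {o : M →₀ ℕ} (h : o.degree = d) : cnt (rep (d := d) o) = o := by
  rw [rep, dif_pos h]
  exact (exists_cnt_eq h).choose_spec

open scoped Classical in
/-- The linear form on the tensor power representing the law `L`. -/
noncomputable def ghat [Nonempty M] (bP : Module.Basis M A P) (d : ℕ) (L : P →ₚₗ[A] C) :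
    Tpow A P d →ₗ[A] C :=
  (Basis.piTensorProduct fun _ : Fin d => bP).constr A fun c =>
    if rep (cnt c) = c then gam bP L (cnt c) else 0

open scoped Classical in
theorem ghat_tprod [Nonempty M] (bP : Module.Basis M A P) (L : P →ₚₗ[A] C) (c : Fin d → M) :
    ghat bP d L (PiTensorProduct.tprod A fun i => bP (c i)) =
      if rep (cnt c) = c then gam bP L (cnt c) else 0 := by
  rw [← Basis.piTensorProduct_apply (fun _ : Fin d => bP) c, ghat, Module.Basis.constr_basis]

theorem key_gen [Nonempty M] (bP : Module.Basis M A P) {L : P →ₚₗ[A] C} (hL : PolLaw.IsHomog L d)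
    (T : Finset M) :
    (ghat bP d L).lTensor (MvPolynomial M A) (tl A P d _ (gen bP T)) =
      L.toFun' (MvPolynomial M A) (gen bP T) := by
  classical
  refine ext_coefT fun o => ?_
  have hlhs : coefT o ((ghat bP d L).lTensor (MvPolynomial M A) (tl A P d _ (gen bP T))) =
      ∑ c ∈ (Fintype.piFinset fun _ : Fin d => T).filter (fun c => cnt c = o),
        ghat bP d L (PiTensorProduct.tprod A fun i => bP (c i)) := by
    rw [gen, tl_sum, map_sum, map_sum, Finset.sum_filter]
    refine Finset.sum_congr rfl fun c _ => ?_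
    rw [LinearMap.lTensor_tmul, coefT_tmul,
      show (∏ i, MvPolynomial.X (R := A) (c i)) = MvPolynomial.monomial (cnt c) 1 by
        rw [cnt, MvPolynomial.monomial_sum_one]; rfl,
      MvPolynomial.coeff_monomial]
    split <;> simp
  rw [hlhs]
  by_cases hd : o.degree = d
  · by_cases hT : o.support ⊆ T
    · rw [(coefT_law_gen bP T).1 hT]
      have hmem : rep (d := d) o ∈ (Fintype.piFinset fun _ : Fin d => T).filter (fun c => cnt c = o) := by
        simp only [Finset.mem_filter, Fintype.mem_piFinset]
        refine ⟨fun i => hT ?_, cnt_rep hd⟩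
        have := mem_support_cnt (rep (d := d) o) i
        rwa [cnt_rep hd] at this
      rw [Finset.sum_eq_single_of_mem _ hmem fun c hc hne => ?_]
      · rw [ghat_tprod, cnt_rep hd, if_pos rfl]
      · rw [ghat_tprod, if_neg]
        rw [(Finset.mem_filter.1 hc).2]
        exact Ne.symm hne
    · rw [(coefT_law_gen bP T).2 hT]
      refine Finset.sum_eq_zero fun c hc => absurd ?_ hT
      rw [← (Finset.mem_filter.1 hc).2]
      exact support_cnt_subset fun i => Fintype.mem_piFinset.1 (Finset.mem_filter.1 hc).1 i
  · rw [coefT_law_gen_eq_zero_of_degree bP hL T hd]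
    refine Finset.sum_eq_zero fun c hc => absurd ?_ hd
    rw [← (Finset.mem_filter.1 hc).2, cnt_degree]

theorem exists_gen_preimage (bP : Module.Basis M A P) {S : Type u} [CommSemiring S] [Algebra A S]
    (y : S ⊗[A] P) :
    ∃ (T : Finset M) (φ : MvPolynomial M A →ₐ[A] S), φ.toLinearMap.rTensor P (gen bP T) = y := by
  classical
  let e := TensorProduct.equivFinsuppOfBasisRight bP (M := S) y
  refine ⟨e.support, MvPolynomial.aeval fun m => e m, ?_⟩
  rw [gen, map_sum]
  conv_rhs => rw [← (TensorProduct.equivFinsuppOfBasisRight bP (M := S)).symm_apply_apply y,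
    TensorProduct.equivFinsuppOfBasisRight_symm_apply]
  exact Finset.sum_congr rfl fun m _ => by simp [e]

/-- A homogeneous law is `ghat` of the diagonal law. -/
theorem key [Nonempty M] (bP : Module.Basis M A P) {L : P →ₚₗ[A] C} (hL : PolLaw.IsHomog L d)
    (S : Type u) [CommSemiring S] [Algebra A S] (y : S ⊗[A] P) :
    (ghat bP d L).lTensor S (tl A P d S y) = L.toFun' S y := by
  obtain ⟨T, φ, rfl⟩ := exists_gen_preimage bP y
  have a1 := congrFun (L.isCompat' φ) (gen bP T)
  simp only [Function.comp_apply] at a1
  rw [← a1, ← key_gen bP hL T, ← tl_compat, ← LinearMap.comp_apply, ← LinearMap.comp_apply,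
    LinearMap.lTensor_comp_rTensor, LinearMap.rTensor_comp_lTensor]

end Groth.Agent.GammaD
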