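import Mathlib.RingTheory.AdjoinRoot
import Mathlib.FieldTheory.Separable
import Mathlib.FieldTheory.SeparableClosure
import Mathlib.FieldTheory.Perfect
import Mathlib.FieldTheory.IsAlgClosed.AlgebraicClosure
import Mathlib.RingTheory.LocalRing.ResidueField.Defs
import Mathlib.RingTheory.LocalRing.ResidueField.Ideal
import Mathlib.RingTheory.Nakayama
import Mathlib.RingTheory.OrzechProperty
import Mathlib.AlgebraicGeometry.ProjectiveSpectrum.Basic
import Mathlib.SetTheory.Cardinal.Basic

/-! # Bases of `p^s`-th powers, separability over perfect-root fields, avoiding points -/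

universe u

open Polynomial

namespace Groth.Agent.GammaD.Misc26

theorem linearIndependent_pow {k : Type u} [Field k] (p : ℕ) [Fact p.Prime] [CharP k p] (g : k[X])
    (hsep : g.Separable) (s : ℕ) :
    LinearIndependent k (fun i : Fin g.natDegree => (AdjoinRoot.root g) ^ (p ^ s * (i : ℕ))) := by
  classical
  rw [Fintype.linearIndependent_iff]
  intro c hc
  rcases Nat.eq_zero_or_pos g.natDegree with h0 | h0
  · exact fun i => absurd i.2 (by omega)
  let P : k[X] := ∑ i : Fin g.natDegree, C (c i) * X ^ (i : ℕ)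
  have hcoef : ∀ i : Fin g.natDegree, P.coeff (i : ℕ) = c i := by
    intro i
    simp only [P, finsetSum_coeff, coeff_C_mul, coeff_X_pow, mul_ite, mul_one, mul_zero, Fin.val_inj]
    simp
  suffices hP : P = 0 by
    intro i; rw [← hcoef i, hP, coeff_zero]
  have hdvd : g ∣ P.comp (X ^ (p ^ s)) := by
    rw [← AdjoinRoot.mk_eq_zero]
    simp only [P, sum_comp, mul_comp, C_comp, pow_comp, X_comp, map_sum, map_mul, map_pow,
      AdjoinRoot.mk_C, AdjoinRoot.mk_X]
    rw [← hc]
    refine Finset.sum_congr rfl fun i _ => ?_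
    rw [← pow_mul, Algebra.smul_def, AdjoinRoot.algebraMap_eq]
  haveI : CharP (AlgebraicClosure k) p := charP_of_injective_algebraMap (algebraMap k (AlgebraicClosure k)).injective p
  let r := (g.map (algebraMap k (AlgebraicClosure k))).roots.toFinset.image
    (fun a : AlgebraicClosure k => a ^ p ^ s)
  have hinj : Function.Injective (fun a : AlgebraicClosure k => a ^ p ^ s) := by
    intro a b hab
    exact iterateFrobenius_inj (AlgebraicClosure k) p s hab
  have hr : r.card = g.natDegree := by
    rw [Finset.card_image_of_injective _ hinj, Multiset.toFinset_card_of_nodup (nodup_roots hsep.map),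
      IsAlgClosed.card_roots_eq_natDegree, natDegree_map]
  refine (Polynomial.map_eq_zero_iff (algebraMap k (AlgebraicClosure k)).injective).1 ?_
  refine eq_zero_of_natDegree_lt_card_of_eval_eq_zero' _ r ?_ ?_
  · intro b hb
    obtain ⟨a, ha, rfl⟩ := Finset.mem_image.1 hb
    rw [Multiset.mem_toFinset] at ha
    obtain ⟨t, ht⟩ := hdvd
    have h := congrArg (fun f => (f.map (algebraMap k (AlgebraicClosure k))).eval a) ht
    simp only [map_comp, Polynomial.map_pow, map_X, eval_comp, eval_pow, eval_X, Polynomial.map_mul,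
      eval_mul] at h
    rw [h, (isRoot_of_mem_roots ha).eq_zero, zero_mul]
  · rw [hr, natDegree_map]
    refine lt_of_le_of_lt (natDegree_sum_le_of_forall_le _ _ (n := g.natDegree - 1) fun i _ => ?_) (by omega)
    exact (natDegree_C_mul_X_pow_le _ _).trans (by have := i.2; omega)

theorem exists_basis {A : Type u} [CommRing A] [IsLocalRing A] (p : ℕ) [Fact p.Prime]
    [CharP (IsLocalRing.ResidueField A) p] (g : A[X]) (hg : g.Monic) (hsep : g.Separable) (s : ℕ) :
    ∃ b : Module.Basis (Fin g.natDegree) A (AdjoinRoot g),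
      ∀ i : Fin g.natDegree, b i = AdjoinRoot.root g ^ (p ^ s * (i : ℕ)) := by
  classical
  let k := IsLocalRing.ResidueField A
  let gk : k[X] := g.map (IsLocalRing.residue A)
  have hgk : gk.Monic := hg.map _
  have hdeg : gk.natDegree = g.natDegree := hg.natDegree_map _
  let v : Fin g.natDegree → AdjoinRoot g := fun i => AdjoinRoot.root g ^ (p ^ s * (i : ℕ))
  let vk : Fin gk.natDegree → AdjoinRoot gk := fun i => AdjoinRoot.root gk ^ (p ^ s * (i : ℕ))
  let π : AdjoinRoot g →+* AdjoinRoot gk :=
    AdjoinRoot.lift ((AdjoinRoot.of gk).comp (IsLocalRing.residue A)) (AdjoinRoot.root gk)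
      (by rw [← eval₂_map]; exact AdjoinRoot.eval₂_root gk)
  have hπ : ∀ f : A[X], π (AdjoinRoot.mk g f) = AdjoinRoot.mk gk (f.map (IsLocalRing.residue A)) := by
    intro f
    rw [AdjoinRoot.lift_mk, ← eval₂_map, ← AdjoinRoot.aeval_eq]
    rfl
  haveI := hgk.finite_adjoinRoot
  have hspan : ⊤ ≤ Submodule.span k (Set.range vk) := by
    have hli := linearIndependent_pow p gk (hsep.map) s
    refine (LinearIndependent.span_eq_top_of_card_eq_finrank' hli ?_).ge
    rw [Fintype.card_fin, (AdjoinRoot.powerBasis' hgk).finrank]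
    rfl
  haveI := hg.finite_adjoinRoot
  have htop : (⊤ : Submodule A (AdjoinRoot g)) ≤ Submodule.span A (Set.range v) := by
    refine Submodule.le_of_le_smul_of_le_jacobson_bot (I := IsLocalRing.maximalIdeal A) Module.Finite.fg_top
      (IsLocalRing.maximalIdeal_le_jacobson _) fun z _ => ?_
    obtain ⟨c, hc⟩ := (Submodule.mem_span_range_iff_exists_fun k).1 (hspan (x := π z) trivial)
    choose a ha using fun i => IsLocalRing.residue_surjective (c i)
    let w : AdjoinRoot g := z - ∑ i : Fin gk.natDegree, a i • v (Fin.cast hdeg i)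
    rw [show z = (∑ i : Fin gk.natDegree, a i • v (Fin.cast hdeg i)) + w by simp [w]]
    refine Submodule.add_mem_sup (sum_mem fun i _ => Submodule.smul_mem _ _ (Submodule.subset_span ⟨_, rfl⟩)) ?_
    have hw : π w = 0 := by
      rw [map_sub, map_sum, ← hc, sub_eq_zero]
      refine Finset.sum_congr rfl fun i _ => ?_
      simp only [v, vk, Algebra.smul_def, AdjoinRoot.algebraMap_eq, map_mul, map_pow]
      rw [AdjoinRoot.lift_of, AdjoinRoot.lift_root, RingHom.comp_apply, ha i]
      rfl
    let f : A[X] := AdjoinRoot.modByMonicHom hg w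
    have hfw : AdjoinRoot.mk g f = w := AdjoinRoot.mk_leftInverse hg w
    have hdf : f.degree < g.degree := by
      obtain ⟨f0, hf0⟩ := AdjoinRoot.mk_surjective w
      simp only [f, ← hf0, AdjoinRoot.modByMonicHom_mk]
      exact degree_modByMonic_lt _ hg
    have h0 : f.map (IsLocalRing.residue A) = 0 := by
      refine eq_zero_of_dvd_of_degree_lt (p := gk) ?_ ?_
      · rw [← AdjoinRoot.mk_eq_zero, ← hπ, hfw, hw]
      · refine lt_of_le_of_lt (degree_map_le) ?_
        rwa [show gk.degree = g.degree from hg.degree_map _]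
    rw [← hfw, f.as_sum_support, map_sum]
    refine sum_mem fun j _ => ?_
    rw [← C_mul_X_pow_eq_monomial, map_mul, AdjoinRoot.mk_C, ← AdjoinRoot.algebraMap_eq, ← Algebra.smul_def]
    refine Submodule.smul_mem_smul ?_ trivial
    have h := congrArg (fun q => q.coeff j) h0
    simp only [coeff_map, coeff_zero] at h
    exact (IsLocalRing.residue_eq_zero_iff _).1 h
  let e : (Fin g.natDegree → A) →ₗ[A] AdjoinRoot g := Fintype.linearCombination A v
  have hes : Function.Surjective e := by
    rw [← LinearMap.range_eq_top, Fintype.range_linearCombination]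
    exact top_le_iff.1 htop
  let pb := (AdjoinRoot.powerBasis' hg).basis.equivFun
  have hei : Function.Injective e := by
    have h := OrzechProperty.injective_of_surjective_endomorphism (pb.toLinearMap ∘ₗ e)
      (pb.surjective.comp hes)
    exact Function.Injective.of_comp (f := fun z => pb z) h
  refine ⟨Module.Basis.ofEquivFun (LinearEquiv.ofBijective e ⟨hei, hes⟩).symm, fun i => ?_⟩
  rw [Module.Basis.coe_ofEquivFun]
  show e (Pi.single i 1) = _
  exact (Fintype.linearCombination_apply_single A v i 1).trans (one_smul _ _)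

theorem isSeparable_compositum_iff {k : Type u} [Field k] (p : ℕ) [Fact p.Prime] [CharP k p]
    {K : Type u} [Field K] [Algebra k K] [FiniteDimensional k K]
    {Ω : Type u} [Field Ω] [Algebra k Ω] [Algebra K Ω] [IsScalarTower k K Ω] [IsAlgClosed Ω] (e : ℕ) :
    (∀ x : Ω, x ∈ IntermediateField.adjoin k {y : Ω | y ^ (p ^ e) ∈ Set.range (algebraMap k Ω)} ⊔
        IntermediateField.adjoin k (Set.range (algebraMap K Ω)) →
      IsSeparable (IntermediateField.adjoin k {y : Ω | y ^ (p ^ e) ∈ Set.range (algebraMap k Ω)}) x) ↔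
    ∀ x : K, x ^ (p ^ e) ∈ separableClosure k K := by
  haveI : CharP Ω p := charP_of_injective_algebraMap (RingHom.injective (algebraMap k Ω)) p
  haveI : ExpChar Ω p := ExpChar.prime Fact.out
  set L := IntermediateField.adjoin k {y : Ω | y ^ (p ^ e) ∈ Set.range (algebraMap k Ω)} with hLdef
  let F := iterateFrobeniusEquiv Ω p e
  have hL : ∀ y : Ω, y ∈ L → y ^ (p ^ e) ∈ Set.range (algebraMap k Ω) := by
    intro y hy
    induction hy using IntermediateField.adjoin_induction with
    | mem x hx => exact hx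
    | algebraMap c => exact ⟨c ^ (p ^ e), map_pow _ _ _⟩
    | add x y _ _ hx hy =>
      obtain ⟨a, ha⟩ := hx; obtain ⟨b, hb⟩ := hy
      exact ⟨a + b, by rw [map_add, ha, hb, add_pow_char_pow]⟩
    | inv x _ hx => obtain ⟨a, ha⟩ := hx; exact ⟨a⁻¹, by rw [map_inv₀, ha, inv_pow]⟩
    | mul x y _ _ hx hy =>
      obtain ⟨a, ha⟩ := hx; obtain ⟨b, hb⟩ := hy
      exact ⟨a * b, by rw [map_mul, ha, hb, mul_pow]⟩
  constructor
  · intro h x
    rw [mem_separableClosure_iff]
    have hx := h (algebraMap K Ω x) (le_sup_right (α := IntermediateField k Ω)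
      (IntermediateField.subset_adjoin k _ ⟨x, rfl⟩))
    refine (isSeparable_map_iff (IsScalarTower.toAlgHom k K Ω) (algebraMap K Ω).injective).1 ?_
    choose ψ hψ using fun y : L => hL y.1 y.2
    let ψ' : L →+* k := RingHom.mk' ⟨⟨ψ, (algebraMap k Ω).injective (by rw [hψ, map_one]; simp)⟩,
      fun a b => (algebraMap k Ω).injective (by rw [hψ, map_mul, hψ, hψ]; simp [mul_pow])⟩
      (fun a b => (algebraMap k Ω).injective (by
        show algebraMap k Ω (ψ (a + b)) = algebraMap k Ω (ψ a + ψ b)
        rw [hψ, map_add, hψ, hψ, ← add_pow_char_pow]; rfl))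
    have hsep : ((minpoly L (algebraMap K Ω x)).map ψ').Separable := Separable.map hx
    refine hsep.of_dvd (minpoly.dvd k _ ?_)
    rw [IsScalarTower.coe_toAlgHom', map_pow, aeval_def, eval₂_map]
    have hcomp : (algebraMap k Ω).comp ψ' = (F : Ω →+* Ω).comp (algebraMap L Ω) := by
      ext y; exact hψ y
    rw [hcomp]
    have := hom_eval₂ (minpoly L (algebraMap K Ω x)) (algebraMap L Ω) (F : Ω →+* Ω) (algebraMap K Ω x)
    rw [← aeval_def, minpoly.aeval, map_zero] at this
    exact this.symm
  · intro h z hz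
    suffices hle : L ⊔ IntermediateField.adjoin k (Set.range (algebraMap K Ω)) ≤
        (separableClosure L Ω).restrictScalars k from mem_separableClosure_iff.1 (hle hz)
    refine sup_le (fun y hy => (separableClosure L Ω).algebraMap_mem ⟨y, hy⟩) (IntermediateField.adjoin_le_iff.2 ?_)
    rintro _ ⟨x, rfl⟩
    rw [SetLike.mem_coe, IntermediateField.mem_restrictScalars, mem_separableClosure_iff]
    let ρ : k →+* L := ((F.symm : Ω →+* Ω).comp (algebraMap k Ω)).codRestrict L
      (fun c => IntermediateField.subset_adjoin k _ ⟨c, by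
        show algebraMap k Ω c = (F.symm (algebraMap k Ω c)) ^ (p ^ e)
        exact (F.apply_symm_apply _).symm⟩)
    have hsep : ((minpoly k (x ^ (p ^ e))).map ρ).Separable :=
      Separable.map (mem_separableClosure_iff.1 (h x))
    refine hsep.of_dvd (minpoly.dvd L _ ?_)
    rw [aeval_def, eval₂_map]
    have hcomp : (algebraMap L Ω).comp ρ = (F.symm : Ω →+* Ω).comp (algebraMap k Ω) := rfl
    have hx : algebraMap K Ω x = F.symm (algebraMap K Ω (x ^ (p ^ e))) := by
      rw [map_pow]; exact (F.symm_apply_apply _).symm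
    rw [hcomp, hx]
    have h2 := hom_eval₂ (minpoly k (x ^ (p ^ e))) (algebraMap k Ω) (F.symm : Ω →+* Ω) (algebraMap K Ω (x ^ (p ^ e)))
    rw [← aeval_def, aeval_algebraMap_apply, minpoly.aeval, map_zero, map_zero] at h2
    exact h2.symm

open AlgebraicGeometry in
theorem exists_degOne {R A : Type u} [CommRing R] [CommRing A] [Algebra R A] (𝒜 : ℕ → Submodule R A)
    [GradedAlgebra 𝒜] (hgen : Algebra.adjoin R (𝒜 1 : Set A) = ⊤)
    (p : Ideal R) [p.IsPrime] {d : ℕ} (x : Fin d → Proj 𝒜)
    (hx : ∀ i, ((x i).asHomogeneousIdeal.toIdeal).comap (algebraMap R A) = p)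
    (hcard : (d : Cardinal) ≤ Cardinal.mk p.ResidueField) :
    ∃ g ∈ 𝒜 1, ∀ i, x i ∈ Proj.basicOpen 𝒜 g := by
  classical
  let P : Fin d → Ideal A := fun i => (x i).asHomogeneousIdeal.toIdeal
  suffices ∃ g ∈ 𝒜 1, ∀ i, g ∉ P i by
    obtain ⟨g, hg, hgi⟩ := this
    exact ⟨g, hg, fun i => hgi i⟩
  suffices hs : ∀ s : Finset (Fin d), ∃ g ∈ 𝒜 1, ∀ i ∈ s, g ∉ P i by
    obtain ⟨g, hg, hgi⟩ := hs Finset.univ
    exact ⟨g, hg, fun i => hgi i (Finset.mem_univ i)⟩
  intro s
  induction s using Finset.induction_on with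
  | empty => exact ⟨0, zero_mem _, by simp⟩
  | @insert i t hit ih =>
    obtain ⟨g, hg, hgt⟩ := ih
    by_cases hgi : g ∈ P i
    swap
    · exact ⟨g, hg, fun j hj => (Finset.mem_insert.1 hj).elim (fun h => h ▸ hgi) (hgt j)⟩
    obtain ⟨h, hh, hhi⟩ : ∃ h ∈ 𝒜 1, h ∉ P i := by
      by_contra hc
      push Not at hc
      refine (x i).not_irrelevant_le ?_
      intro a ha
      let J : Ideal A := Ideal.span (𝒜 1 : Set A)
      have hJP : J ≤ P i := Ideal.span_le.2 hc
      have hdec : ∀ z : A, ∃ r : R, z - algebraMap R A r ∈ J := by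
        intro z
        have hz : z ∈ Algebra.adjoin R (𝒜 1 : Set A) := hgen ▸ Algebra.mem_top
        induction hz using Algebra.adjoin_induction with
        | mem y hy => exact ⟨0, by rw [map_zero, sub_zero]; exact Ideal.subset_span hy⟩
        | algebraMap r => exact ⟨r, by rw [sub_self]; exact zero_mem _⟩
        | add u v _ _ hu hv =>
          obtain ⟨r, hr⟩ := hu; obtain ⟨r', hr'⟩ := hv
          refine ⟨r + r', ?_⟩
          convert J.add_mem hr hr' using 1
          rw [map_add]; ring
        | mul u v _ _ hu hv =>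
          obtain ⟨r, hr⟩ := hu; obtain ⟨r', hr'⟩ := hv
          refine ⟨r * r', ?_⟩
          convert J.add_mem (J.mul_mem_right v hr) (J.mul_mem_left (algebraMap R A r) hr') using 1
          rw [map_mul]; ring
      have hJirr : J ≤ (HomogeneousIdeal.irrelevant 𝒜).toIdeal := Ideal.span_le.2 fun y hy => by
        show y ∈ HomogeneousIdeal.irrelevant 𝒜
        rw [HomogeneousIdeal.mem_irrelevant_iff, GradedRing.proj_apply,
          DirectSum.decompose_of_mem_ne 𝒜 hy one_ne_zero]
      obtain ⟨r, hr⟩ := hdec a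
      have h0 : GradedRing.proj 𝒜 0 (algebraMap R A r) = 0 := by
        have h1 := (HomogeneousIdeal.mem_irrelevant_iff 𝒜 _).1 (hJirr hr)
        rw [map_sub, (HomogeneousIdeal.mem_irrelevant_iff 𝒜 _).1 ha, zero_sub, neg_eq_zero] at h1
        exact h1
      rw [GradedRing.proj_apply, DirectSum.decompose_of_mem_same 𝒜 (SetLike.algebraMap_mem_graded 𝒜 r)] at h0
      rw [h0, sub_zero] at hr
      exact hJP hr
    by_cases hall : ∀ j ∈ t, h ∉ P j
    · exact ⟨h, hh, fun j hj => (Finset.mem_insert.1 hj).elim (fun e => e ▸ hhi) (hall j)⟩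
    push Not at hall
    obtain ⟨j0, hj0, hhj0⟩ := hall
    -- bad residues
    let bad : Fin d → Set p.ResidueField := fun j => {c | ∃ a b : R, b ∉ p ∧
      c = algebraMap R p.ResidueField a / algebraMap R p.ResidueField b ∧ b • g + a • h ∈ P j}
    have hmemP : ∀ (j : Fin d) (r : R) (z : A), r • z ∈ P j → z ∉ P j → r ∈ p := by
      intro j r z hrz hz
      rw [← hx j, Ideal.mem_comap]
      rw [Algebra.smul_def] at hrz
      exact ((x j).isPrime.mem_or_mem hrz).resolve_right hz
    have hker : ∀ r : R, algebraMap R p.ResidueField r = 0 ↔ r ∈ p := fun r =>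
      Ideal.algebraMap_residueField_eq_zero
    have hsub : ∀ j, h ∉ P j → (bad j).Subsingleton := by
      rintro j hj _ ⟨a, b, hb, rfl, hab⟩ _ ⟨a', b', hb', rfl, hab'⟩
      rw [div_eq_div_iff (fun h0 => hb ((hker b).1 h0)) (fun h0 => hb' ((hker b').1 h0)), ← sub_eq_zero,
        ← map_mul, ← map_mul, ← map_sub, hker]
      refine hmemP j _ h ?_ hj
      have := (P j).sub_mem ((P j).mul_mem_left (algebraMap R A b') hab) ((P j).mul_mem_left (algebraMap R A b) hab')
      convert this using 1
      simp only [Algebra.smul_def, map_sub, map_mul]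
      ring
    have hnone : ∀ j, h ∈ P j → g ∉ P j → bad j = ∅ := by
      intro j hj hgj
      rw [Set.eq_empty_iff_forall_notMem]
      rintro _ ⟨a, b, hb, rfl, hab⟩
      refine hb (hmemP j b g ?_ hgj)
      have := (P j).sub_mem hab ((P j).mul_mem_left (algebraMap R A a) hj)
      simpa [Algebra.smul_def] using this
    let ch : Fin d → p.ResidueField := fun j => if hne : (bad j).Nonempty then hne.choose else 0
    let B : Finset p.ResidueField := ((insert i t).erase j0).image ch
    have hBcard : (B.card : Cardinal) < Cardinal.mk p.ResidueField := by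
      refine lt_of_lt_of_le ?_ hcard
      exact_mod_cast lt_of_le_of_lt Finset.card_image_le (lt_of_lt_of_le
        (Finset.card_erase_lt_of_mem (Finset.mem_insert_of_mem hj0))
        ((Finset.card_le_univ _).trans (Fintype.card_fin d).le))
    obtain ⟨c, hc⟩ : ∃ c, c ∉ B := by
      by_contra hall
      push Not at hall
      refine hBcard.not_ge ?_
      rw [← Cardinal.mk_coe_finset]
      exact Cardinal.mk_le_of_injective (f := fun c => (⟨c, hall c⟩ : B)) (fun a b hab => congrArg Subtype.val hab)
    obtain ⟨a, b, hb, hab⟩ := IsFractionRing.div_surjective (A := R ⧸ p) (K := p.ResidueField) c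
    obtain ⟨a, rfl⟩ := Ideal.Quotient.mk_surjective a
    obtain ⟨b, rfl⟩ := Ideal.Quotient.mk_surjective b
    have hbp : b ∉ p := fun h' => nonZeroDivisors.ne_zero hb (Ideal.Quotient.eq_zero_iff_mem.2 h')
    have hca : c = algebraMap R p.ResidueField a / algebraMap R p.ResidueField b := by
      rw [← hab]; rfl
    refine ⟨b • g + a • h, add_mem (Submodule.smul_mem _ _ hg) (Submodule.smul_mem _ _ hh), fun j hj hmem => ?_⟩
    have hcb : c ∈ bad j := ⟨a, b, hbp, hca, hmem⟩
    by_cases hhj : h ∈ P j
    · have hjt : j ∈ t := (Finset.mem_insert.1 hj).resolve_left (fun e => hhi (e ▸ hhj))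
      rw [hnone j hhj (hgt j hjt)] at hcb
      exact hcb
    · refine hc (Finset.mem_image.2 ⟨j, Finset.mem_erase.2 ⟨fun e => hhj (e ▸ hhj0), hj⟩, ?_⟩)
      show (if hne : (bad j).Nonempty then hne.choose else 0) = c
      split_ifs with hne
      · exact hsub j hhj hne.choose_spec hcb
      · exact absurd ⟨c, hcb⟩ hne

end Groth.Agent.GammaD.Misc26
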