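import Groth.Agent.Lib.GammaD.Gamma
import Mathlib.Data.Fintype.Pi

/-! # The norm law `⊗^d B → Γ^d B` of degree `d!` -/

universe u

open scoped TensorProduct

namespace Groth.Agent.GammaD

variable {A : Type u} [CommRing A]

section nrm

variable (A) (P : Type u) [CommRing P] [Algebra A P] (d : ℕ)

/-- The product of all conjugates. -/
noncomputable def nrm (S : Type u) [CommSemiring S] [Algebra A S] (y : S ⊗[A] Tpow A P d) :
    S ⊗[A] Tpow A P d :=
  ∏ σ : Equiv.Perm (Fin d), Algebra.TensorProduct.map (AlgHom.id A S) (SymTen.perm A P d σ) y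

variable {A P d}

theorem nrm_mul (S : Type u) [CommSemiring S] [Algebra A S] (x y : S ⊗[A] Tpow A P d) :
    nrm A P d S (x * y) = nrm A P d S x * nrm A P d S y := by
  simp only [nrm, map_mul, Finset.prod_mul_distrib]

theorem nrm_one (S : Type u) [CommSemiring S] [Algebra A S] : nrm A P d S 1 = 1 := by
  simp only [nrm, map_one, Finset.prod_const_one]

theorem smul_eq_mul' {S T : Type u} [CommSemiring S] [Algebra A S] [CommRing T] [Algebra A T]
    (s : S) (z : S ⊗[A] T) : s • z = (s ⊗ₜ[A] (1 : T)) * z := by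
  induction z using TensorProduct.induction_on with
  | zero => simp
  | tmul a b => simp [TensorProduct.smul_tmul', Algebra.TensorProduct.tmul_mul_tmul]
  | add a b ha hb => simp [smul_add, ha, hb, mul_add]

theorem nrm_smul (S : Type u) [CommSemiring S] [Algebra A S] (s : S) (y : S ⊗[A] Tpow A P d) :
    nrm A P d S (s • y) = s ^ d.factorial • nrm A P d S y := by
  rw [smul_eq_mul', nrm_mul, smul_eq_mul']
  congr 1
  simp only [nrm, Algebra.TensorProduct.map_tmul, AlgHom.id_apply, map_one, Finset.prod_const,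
    Algebra.TensorProduct.tmul_pow, one_pow, Finset.card_univ, Fintype.card_perm, Fintype.card_fin]

theorem nrm_compat {S S' : Type u} [CommSemiring S] [Algebra A S] [CommSemiring S'] [Algebra A S']
    (φ : S →ₐ[A] S') (y : S ⊗[A] Tpow A P d) :
    φ.toLinearMap.rTensor _ (nrm A P d S y) = nrm A P d S' (φ.toLinearMap.rTensor _ y) := by
  have h : ∀ z : S ⊗[A] Tpow A P d,
      φ.toLinearMap.rTensor _ z = Algebra.TensorProduct.map φ (AlgHom.id A _) z := fun z => by
    induction z using TensorProduct.induction_on with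
    | zero => simp
    | tmul a b => rfl
    | add a b ha hb => simp only [map_add, ha, hb]
  rw [h, h, nrm, nrm, map_prod]
  refine Finset.prod_congr rfl fun σ _ => ?_
  induction y using TensorProduct.induction_on with
  | zero => simp
  | tmul a b => simp
  | add a b ha hb => simp only [map_add, ha, hb]

theorem perm_nrm (τ : Equiv.Perm (Fin d)) (S : Type u) [CommSemiring S] [Algebra A S]
    (y : S ⊗[A] Tpow A P d) :
    (SymTen.perm A P d τ).toLinearMap.lTensor S (nrm A P d S y) = nrm A P d S y := by
  rw [PolLaw.lTensor_algHom_apply, nrm, map_prod]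
  refine Fintype.prod_equiv (Equiv.mulLeft τ) _ _ fun σ => ?_
  induction y using TensorProduct.induction_on with
  | zero => simp
  | tmul a b => simp [perm_perm]
  | add a b ha hb => simp only [map_add, ha, hb]

theorem nrm_of_invariant {S : Type u} [CommSemiring S] [Algebra A S] {u : S ⊗[A] Tpow A P d}
    (hu : ∀ σ, (SymTen.perm A P d σ).toLinearMap.lTensor S u = u) :
    nrm A P d S u = u ^ d.factorial := by
  have : ∀ σ, Algebra.TensorProduct.map (AlgHom.id A S) (SymTen.perm A P d σ) u = u := fun σ => by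
    have := hu σ
    rw [PolLaw.lTensor_algHom_apply] at this
    refine Eq.trans ?_ this
    rfl
  rw [nrm, Finset.prod_congr rfl fun σ _ => this σ, Finset.prod_const, Finset.card_univ,
    Fintype.card_perm, Fintype.card_fin]

theorem perm_comp_orbP {M : Type u} [Nonempty M] (bP : Module.Basis M A P) (σ : Equiv.Perm (Fin d)) :
    (SymTen.perm A P d σ).toLinearMap ∘ₗ orbP d bP = orbP d bP := by
  refine LinearMap.ext fun t => ?_
  show SymTen.perm A P d σ (orbP d bP t) = orbP d bP t
  rw [SymTen.perm_apply]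
  exact orbP_mem_TS bP t σ

theorem perm_of_orbP_fixed {M : Type u} [Nonempty M] (bP : Module.Basis M A P) {S : Type u}
    [CommSemiring S] [Algebra A S] {u : S ⊗[A] Tpow A P d} (hu : (orbP d bP).lTensor S u = u)
    (σ : Equiv.Perm (Fin d)) : (SymTen.perm A P d σ).toLinearMap.lTensor S u = u := by
  rw [← hu, lTensor_comp', perm_comp_orbP]

theorem orbP_fixed_of_invariant {M : Type u} [Nonempty M] (bP : Module.Basis M A P) {σ : Type u}
    {u : MvPolynomial σ A ⊗[A] Tpow A P d}
    (hu : ∀ τ, (SymTen.perm A P d τ).toLinearMap.lTensor _ u = u) :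
    (orbP d bP).lTensor _ u = u := by
  refine ext_coefT fun o => ?_
  rw [coefT_lTensor]
  refine orbP_eq_self bP fun τ => ?_
  rw [← SymTen.perm_apply]
  show (SymTen.perm A P d τ).toLinearMap (coefT o u) = coefT o u
  rw [← coefT_lTensor, hu]

theorem orbP_nrm {M : Type u} [Nonempty M] (bP : Module.Basis M A P) (S : Type u) [CommSemiring S]
    [Algebra A S] (y : S ⊗[A] Tpow A P d) :
    (orbP d bP).lTensor S (nrm A P d S y) = nrm A P d S y := by
  classical
  obtain ⟨T, rfl⟩ := TensorProduct.exists_finset y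
  let φ : MvPolynomial ↥T A →ₐ[A] S := MvPolynomial.aeval fun i => i.1.1
  have e : φ.toLinearMap.rTensor _ (∑ i : T, MvPolynomial.X i ⊗ₜ[A] i.1.2) = ∑ i ∈ T, i.1 ⊗ₜ[A] i.2 := by
    simp only [map_sum, LinearMap.rTensor_tmul]
    rw [← Finset.sum_coe_sort T]
    exact Finset.sum_congr rfl fun i _ => by simp [φ]
  rw [← e, ← nrm_compat, ← rTensor_lTensor,
    orbP_fixed_of_invariant bP fun τ => perm_nrm τ _ _]

theorem orbP_fixed_mul {M : Type u} [Nonempty M] (bP : Module.Basis M A P) {S : Type u} [CommSemiring S]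
    [Algebra A S] {u v : S ⊗[A] Tpow A P d} (hu : (orbP d bP).lTensor S u = u)
    (hv : (orbP d bP).lTensor S v = v) : (orbP d bP).lTensor S (u * v) = u * v := by
  rw [← hu, ← hv]
  clear hu hv
  induction u using TensorProduct.induction_on with
  | zero => simp
  | add a b ha hb => simp only [map_add, add_mul, ha, hb]
  | tmul s a =>
    induction v using TensorProduct.induction_on with
    | zero => simp
    | add c e hc he => simp only [map_add, mul_add, hc, he]
    | tmul r c =>
      simp only [LinearMap.lTensor_tmul, Algebra.TensorProduct.tmul_mul_tmul]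
      rw [orbP_eq_self bP (Subalgebra.mul_mem _ (orbP_mem_TS bP a) (orbP_mem_TS bP c))]

theorem orbP_fixed_pow {M : Type u} [Nonempty M] (bP : Module.Basis M A P) {S : Type u} [CommSemiring S]
    [Algebra A S] {u : S ⊗[A] Tpow A P d} (hu : (orbP d bP).lTensor S u = u) (n : ℕ) :
    (orbP d bP).lTensor S (u ^ n) = u ^ n := by
  induction n with
  | zero =>
    rw [pow_zero, Algebra.TensorProduct.one_def, LinearMap.lTensor_tmul,
      orbP_eq_self bP (Subalgebra.one_mem _)]
  | succ n ih => rw [pow_succ, orbP_fixed_mul bP ih hu]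

end nrm

variable {B C : Type u} [CommRing B] [Algebra A B] [CommRing C] [Algebra A C] {d : ℕ}
  (γ : PolLaw.MulLaw A B C d)

theorem lTensor_G_mul {S : Type u} [CommSemiring S] [Algebra A S] {u v : S ⊗[A] Tpow A (Pres A B) d}
    (hu : R.lTensor S u = u) (hv : R.lTensor S v = v) :
    (G γ).lTensor S (u * v) = (G γ).lTensor S u * (G γ).lTensor S v := by
  rw [← hu, ← hv]
  clear hu hv
  induction u using TensorProduct.induction_on with
  | zero => simp
  | add a b ha hb => simp only [map_add, add_mul, ha, hb]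
  | tmul s a =>
    induction v using TensorProduct.induction_on with
    | zero => simp
    | add c e hc he => simp only [map_add, mul_add, hc, he]
    | tmul r c =>
      simp only [LinearMap.lTensor_tmul, Algebra.TensorProduct.tmul_mul_tmul]
      rw [G_mul γ (orbP_mem_TS (bP A B) a) (orbP_mem_TS (bP A B) c)]

theorem lTensor_G_pow {S : Type u} [CommSemiring S] [Algebra A S] {u : S ⊗[A] Tpow A (Pres A B) d}
    (hu : R.lTensor S u = u) (n : ℕ) :
    (G γ).lTensor S (u ^ n) = (G γ).lTensor S u ^ n := by
  induction n with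
  | zero => rw [pow_zero, pow_zero, Algebra.TensorProduct.one_def, LinearMap.lTensor_tmul, G_one]; rfl
  | succ n ih => rw [pow_succ, pow_succ, lTensor_G_mul γ (orbP_fixed_pow _ hu n) hu, ih]

/-- The sum over the rearrangements of a word with a letter killed by `π` vanishes. -/
theorem sum_rearrangements_eq_zero [DecidableEq (Pres A B)] (q : Fin d → Pres A B) (l : Fin d)
    (hl : piP A B (q l) = 0) :
    ∑ q' ∈ (Fintype.piFinset fun _ : Fin d => Finset.univ.image q).filter (fun q' => cnt q' = cnt q),
      G γ (PiTensorProduct.tprod A q') = 0 := by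
  classical
  set T := Finset.univ.image q with hT
  set o := cnt q
  set y : MvPolynomial (Pres A B) A ⊗[A] Pres A B := ∑ v ∈ T, MvPolynomial.X v ⊗ₜ[A] v with hy
  have h1 : coefT o ((G γ).lTensor _ (tl A _ d _ y)) =
      ∑ q' ∈ (Fintype.piFinset fun _ : Fin d => T).filter (fun q' => cnt q' = o),
        G γ (PiTensorProduct.tprod A q') := by
    rw [hy, tl_sum, map_sum, map_sum, Finset.sum_filter]
    refine Finset.sum_congr rfl fun c _ => ?_
    rw [LinearMap.lTensor_tmul, coefT_tmul,
      show (∏ i, MvPolynomial.X (R := A) (c i)) = MvPolynomial.monomial (cnt c) 1 by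
        rw [cnt, MvPolynomial.monomial_sum_one]; rfl,
      MvPolynomial.coeff_monomial]
    split <;> simp
  have hlT : q l ∈ T := Finset.mem_image.2 ⟨l, Finset.mem_univ _, rfl⟩
  have h2 : (piP A B).toLinearMap.lTensor _ ((kill (T.erase (q l))).toLinearMap.rTensor _ y) =
      (piP A B).toLinearMap.lTensor _ y := by
    simp only [hy, map_sum, LinearMap.rTensor_tmul, LinearMap.lTensor_tmul]
    refine Finset.sum_congr rfl fun v hv => ?_
    by_cases hvl : v = q l
    · subst hvl; simp [hl]
    · congr 1
      simp [kill, hvl, hv]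
  rw [← h1, G_tl, ← h2, ← rTensor_lTensor, ← law_compat]
  refine coefT_kill_neg ?_ _
  intro hsub
  exact (Finset.mem_erase.1 (hsub (mem_support_cnt q l))).1 rfl

/-- A weighted version for a finite set with an equivariant word map. -/
theorem sum_equivariant_eq_zero {ι : Type*} (O : Finset ι) (f : ι → Fin d → Pres A B)
    (act : Equiv.Perm (Fin d) → ι → ι) (hact : ∀ τ, ∀ c ∈ O, act τ c ∈ O)
    (hinj : ∀ τ c, act τ⁻¹ (act τ c) = c)
    (hf : ∀ τ c, f (act τ c) = fun i => f c (τ.symm i))
    (htrans : ∀ c ∈ O, ∀ c' ∈ O, ∃ τ, act τ c = c')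
    (hbad : ∀ c ∈ O, ∃ l, piP A B (f c l) = 0) :
    ∑ c ∈ O, G γ (PiTensorProduct.tprod A (f c)) = 0 := by
  classical
  rcases O.eq_empty_or_nonempty with rfl | ⟨c₀, hc₀⟩
  · simp
  rw [← Finset.sum_fiberwise_of_maps_to (g := f) (t := O.image f) fun c hc => Finset.mem_image_of_mem f hc]
  have hcard : ∀ q ∈ O.image f, (O.filter fun c => f c = q).card = (O.filter fun c => f c = f c₀).card := by
    intro q hq
    obtain ⟨c₁, hc₁, rfl⟩ := Finset.mem_image.1 hq
    obtain ⟨τ, rfl⟩ := htrans c₀ hc₀ c₁ hc₁
    refine Finset.card_nbij' (act τ⁻¹) (act τ) ?_ ?_ ?_ ?_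
    · intro c hc
      simp only [Finset.coe_filter, Set.mem_setOf_eq] at hc ⊢
      refine ⟨hact _ _ hc.1, ?_⟩
      rw [hf, hc.2, hf]
      funext i
      simp [Equiv.Perm.inv_def]
    · intro c hc
      simp only [Finset.coe_filter, Set.mem_setOf_eq] at hc ⊢
      exact ⟨hact _ _ hc.1, by rw [hf, hc.2, hf]⟩
    · intro c _
      have := hinj τ⁻¹ c
      rwa [inv_inv] at this
    · intro c _; exact hinj τ c
  rw [Finset.sum_congr rfl (g := fun q => (O.filter fun c => f c = f c₀).card •
      G γ (PiTensorProduct.tprod A q)) fun q hq => by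
    rw [Finset.sum_congr rfl fun c hc => by rw [(Finset.mem_filter.1 hc).2], Finset.sum_const, hcard q hq],
    ← Finset.smul_sum]
  obtain ⟨l, hl⟩ := hbad c₀ hc₀
  have himg : O.image f = (Fintype.piFinset fun _ : Fin d => Finset.univ.image (f c₀)).filter
      (fun q' => cnt q' = cnt (f c₀)) := by
    ext q
    simp only [Finset.mem_image, Finset.mem_filter, Fintype.mem_piFinset, Finset.mem_univ, true_and]
    constructor
    · rintro ⟨c, hc, rfl⟩
      obtain ⟨τ, rfl⟩ := htrans c₀ hc₀ c hc
      refine ⟨fun i => ⟨τ.symm i, by rw [hf]⟩, ?_⟩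
      rw [hf]
      exact cnt_perm (f c₀) τ.symm
    · rintro ⟨-, hq⟩
      obtain ⟨σ, hσ⟩ := exists_perm_of_cnt_eq hq
      refine ⟨act σ.symm c₀, hact _ _ hc₀, ?_⟩
      rw [hf]
      simp only [Equiv.symm_symm]
      exact hσ
  rw [himg, sum_rearrangements_eq_zero γ (f c₀) l hl, smul_zero]

/-- The kernel of `⊗^d π`. -/
theorem ker_piT_le :
    LinearMap.ker (SymTen.tmap A d (piP A B)).toLinearMap ≤
      Submodule.span A {t | ∃ p : Fin d → Pres A B, (∃ i, piP A B (p i) = 0) ∧ PiTensorProduct.tprod A p = t} := by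
  classical
  set K0 := Submodule.span A {t | ∃ p : Fin d → Pres A B,
    (∃ i, piP A B (p i) = 0) ∧ PiTensorProduct.tprod A p = t}
  have step : ∀ p p' : Fin d → Pres A B, (∀ i, piP A B (p i) = piP A B (p' i)) →
      K0.mkQ (PiTensorProduct.tprod A p) = K0.mkQ (PiTensorProduct.tprod A p') := by
    intro p p' hp
    suffices ∀ s : Finset (Fin d), K0.mkQ (PiTensorProduct.tprod A p) =
        K0.mkQ (PiTensorProduct.tprod A fun i => if i ∈ s then p' i else p i) by
      simpa using this Finset.univ
    intro s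
    induction s using Finset.induction_on with
    | empty => simp
    | insert a s ha ih =>
      rw [ih, Submodule.mkQ_apply, Submodule.mkQ_apply, Submodule.Quotient.eq]
      set q : Fin d → Pres A B := fun i => if i ∈ s then p' i else p i
      have e1 : (fun i => if i ∈ insert a s then p' i else p i) = Function.update q a (p' a) := by
        funext i
        rcases eq_or_ne i a with rfl | hi <;> simp [q, *]
      have e2 : q = Function.update q a (p a) := by
        funext i
        rcases eq_or_ne i a with rfl | hi <;> simp [q, *]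
      rw [e1]
      nth_rw 1 [e2]
      rw [← MultilinearMap.map_update_sub]
      exact Submodule.subset_span ⟨_, ⟨a, by simp [map_sub, hp a]⟩, rfl⟩
  let g : MultilinearMap A (fun _ : Fin d => B) (Tpow A (Pres A B) d ⧸ K0) :=
    { toFun := fun b => K0.mkQ (PiTensorProduct.tprod A fun i => secP (b i))
      map_update_add' := fun b i x y => by
        rw [step _ (Function.update (fun l => secP (b l)) i (secP x + secP y)) (fun l => by
          rcases eq_or_ne l i with rfl | hl <;> simp [*, piP_secP]), ← map_add, MultilinearMap.map_update_add]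
        congr 2 <;> · congr 1; funext l; rcases eq_or_ne l i with rfl | hl <;> simp [*]
      map_update_smul' := fun b i c x => by
        rw [step _ (Function.update (fun l => secP (b l)) i (c • secP x)) (fun l => by
          rcases eq_or_ne l i with rfl | hl <;> simp [*, piP_secP]), ← map_smul, MultilinearMap.map_update_smul]
        congr 2; congr 1; funext l; rcases eq_or_ne l i with rfl | hl <;> simp [*] }
  have hgq : ∀ t, PiTensorProduct.lift g ((SymTen.tmap A d (piP A B)).toLinearMap t) = K0.mkQ t := by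
    intro t
    induction t using PiTensorProduct.induction_on with
    | smul_tprod r p =>
      simp only [AlgHom.toLinearMap_apply, map_smul, SymTen.tmap_tprod, PiTensorProduct.lift.tprod]
      congr 1
      exact step _ _ fun i => piP_secP _
    | add x y hx hy => simp only [map_add, hx, hy]
  intro t ht
  have := hgq t
  rw [LinearMap.mem_ker.1 ht, map_zero, Submodule.mkQ_apply] at this
  exact (Submodule.Quotient.mk_eq_zero K0).1 this.symm

theorem nrm_add_bad {S : Type u} [CommSemiring S] [Algebra A S] (y : S ⊗[A] Tpow A (Pres A B) d)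
    (s : S) (p : Fin d → Pres A B) (l : Fin d) (hl : piP A B (p l) = 0) :
    (G γ).lTensor S (nrm A _ d S (y + s ⊗ₜ[A] PiTensorProduct.tprod A p)) =
      (G γ).lTensor S (nrm A _ d S y) := by
  classical
  letI : CommRing S := { Algebra.semiringToRing A with mul_comm := mul_comm }
  -- write `y` as a combination of pure tensors
  have hpure : ∀ z : S ⊗[A] Tpow A (Pres A B) d, ∃ (n : ℕ) (a : Fin n → S) (q : Fin n → Fin d → Pres A B),
      z = ∑ j, a j ⊗ₜ[A] PiTensorProduct.tprod A (q j) := by
    intro z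
    induction z using TensorProduct.induction_on with
    | zero => exact ⟨0, Fin.elim0, Fin.elim0, by simp⟩
    | tmul r t =>
      induction t using PiTensorProduct.induction_on with
      | smul_tprod c f =>
        exact ⟨1, fun _ => c • r, fun _ => f, by simp [TensorProduct.smul_tmul]⟩
      | add u v hu hv =>
        obtain ⟨n, a, q, hu⟩ := hu
        obtain ⟨n', a', q', hv⟩ := hv
        exact ⟨n + n', Fin.append a a', Fin.append q q', by
          rw [TensorProduct.tmul_add, hu, hv, Fin.sum_univ_add]; simp⟩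
    | add u v hu hv =>
      obtain ⟨n, a, q, hu⟩ := hu
      obtain ⟨n', a', q', hv⟩ := hv
      exact ⟨n + n', Fin.append a a', Fin.append q q', by rw [hu, hv, Fin.sum_univ_add]; simp⟩
  obtain ⟨n, a, q, rfl⟩ := hpure y
  let a' : Fin (n + 1) → S := Fin.snoc a s
  let q' : Fin (n + 1) → Fin d → Pres A B := Fin.snoc q p
  have hsum : (∑ j, a j ⊗ₜ[A] PiTensorProduct.tprod A (q j)) + s ⊗ₜ[A] PiTensorProduct.tprod A p =
      ∑ j, a' j ⊗ₜ[A] PiTensorProduct.tprod A (q' j) := by
    rw [Fin.sum_univ_castSucc]; simp [a', q']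
  let word : (Equiv.Perm (Fin d) → Fin (n + 1)) → Fin d → Pres A B :=
    fun c i => ∏ σ : Equiv.Perm (Fin d), q' (c σ) (σ.symm i)
  let coeff : (Equiv.Perm (Fin d) → Fin (n + 1)) → S := fun c => ∏ σ, a' (c σ)
  have htp : ∀ (κ : Finset (Equiv.Perm (Fin d))) (g : Equiv.Perm (Fin d) → Fin d → Pres A B),
      ∏ σ ∈ κ, PiTensorProduct.tprod A (g σ) = PiTensorProduct.tprod A (fun i => ∏ σ ∈ κ, g σ i) := by
    intro κ g
    induction κ using Finset.induction_on with
    | empty => simp; rfl
    | insert x κ hx ih =>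
      rw [Finset.prod_insert hx, ih, PiTensorProduct.tprod_mul_tprod]
      congr 1
      funext i
      simp [Finset.prod_insert hx]
  have hexp : nrm A _ d S (∑ j, a' j ⊗ₜ[A] PiTensorProduct.tprod A (q' j)) =
      ∑ c : Equiv.Perm (Fin d) → Fin (n + 1), coeff c ⊗ₜ[A] PiTensorProduct.tprod A (word c) := by
    simp only [nrm, map_sum, Algebra.TensorProduct.map_tmul, AlgHom.id_apply, SymTen.perm_tprod]
    rw [Finset.prod_univ_sum, Fintype.piFinset_univ]
    exact Finset.sum_congr rfl fun c _ => by rw [prod_tmul, htp]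
  have hexp0 : nrm A _ d S (∑ j, a j ⊗ₜ[A] PiTensorProduct.tprod A (q j)) =
      ∑ c ∈ Finset.univ.filter (fun c : Equiv.Perm (Fin d) → Fin (n + 1) => ∀ σ, c σ ≠ Fin.last n),
        coeff c ⊗ₜ[A] PiTensorProduct.tprod A (word c) := by
    simp only [nrm, map_sum, Algebra.TensorProduct.map_tmul, AlgHom.id_apply, SymTen.perm_tprod]
    rw [Finset.prod_univ_sum, Fintype.piFinset_univ]
    refine Finset.sum_bij (fun c _ σ => (c σ).castSucc) (fun c _ => Finset.mem_filter.2
      ⟨Finset.mem_univ _, fun σ => (Fin.castSucc_lt_last _).ne⟩)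
      (fun c _ c' _ h => funext fun σ => Fin.castSucc_injective _ (congrFun h σ)) ?_ ?_
    · intro c hc
      exact ⟨fun σ => (c σ).castPred ((Finset.mem_filter.1 hc).2 σ), Finset.mem_univ _,
        funext fun σ => Fin.castSucc_castPred _ _⟩
    · intro c _
      rw [prod_tmul, htp]
      simp [coeff, word, a', q']
  rw [hsum, hexp, hexp0]
  rw [← Finset.sum_filter_add_sum_filter_not Finset.univ
    (fun c : Equiv.Perm (Fin d) → Fin (n + 1) => ∀ σ, c σ ≠ Fin.last n), map_add, add_eq_left]
  set O' := Finset.univ.filter (fun c : Equiv.Perm (Fin d) → Fin (n + 1) => ¬ ∀ σ, c σ ≠ Fin.last n)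
  let act : Equiv.Perm (Fin d) → (Equiv.Perm (Fin d) → Fin (n + 1)) → (Equiv.Perm (Fin d) → Fin (n + 1)) :=
    fun τ c σ => c (τ⁻¹ * σ)
  let orb : (Equiv.Perm (Fin d) → Fin (n + 1)) → Finset (Equiv.Perm (Fin d) → Fin (n + 1)) :=
    fun c => Finset.univ.image fun τ => act τ c
  have horb : ∀ c τ, orb (act τ c) = orb c := by
    intro c τ
    ext e
    simp only [orb, Finset.mem_image, Finset.mem_univ, true_and]
    constructor
    · rintro ⟨ρ, rfl⟩; exact ⟨ρ * τ, funext fun σ => by simp [act, mul_assoc]⟩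
    · rintro ⟨ρ, rfl⟩; exact ⟨ρ * τ⁻¹, funext fun σ => by simp [act, mul_assoc]⟩
  rw [map_sum, ← Finset.sum_fiberwise_of_maps_to (g := orb) (t := O'.image orb)
    fun c hc => Finset.mem_image_of_mem orb hc]
  refine Finset.sum_eq_zero fun e he => ?_
  obtain ⟨c₀, hc₀, rfl⟩ := Finset.mem_image.1 he
  have hfil : O'.filter (fun c => orb c = orb c₀) = orb c₀ := by
    ext c
    constructor
    · intro hc
      rw [← (Finset.mem_filter.1 hc).2]
      exact Finset.mem_image.2 ⟨1, Finset.mem_univ _, funext fun σ => by simp [act]⟩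
    · intro hc
      obtain ⟨τ, -, rfl⟩ := Finset.mem_image.1 hc
      refine Finset.mem_filter.2 ⟨Finset.mem_filter.2 ⟨Finset.mem_univ _, fun hh => ?_⟩, horb c₀ τ⟩
      exact (Finset.mem_filter.1 hc₀).2 fun σ => by simpa [act] using hh (τ * σ)
  have hconst : ∀ c ∈ orb c₀, coeff c = coeff c₀ := by
    intro c hc
    obtain ⟨τ, -, rfl⟩ := Finset.mem_image.1 hc
    exact Equiv.prod_comp (Equiv.mulLeft τ⁻¹) fun σ => a' (c₀ σ)
  rw [hfil, Finset.sum_congr rfl fun c hc => by rw [LinearMap.lTensor_tmul, hconst c hc],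
    ← TensorProduct.tmul_sum]
  rw [sum_equivariant_eq_zero γ (orb c₀) word act, TensorProduct.tmul_zero]
  · intro τ c hc
    obtain ⟨ρ, -, rfl⟩ := Finset.mem_image.1 hc
    exact Finset.mem_image.2 ⟨τ * ρ, Finset.mem_univ _, funext fun σ => by simp [act, mul_assoc]⟩
  · intro τ c; funext σ; simp [act]
  · intro τ c
    funext i
    exact Fintype.prod_equiv (Equiv.mulLeft τ⁻¹) _ _ fun σ => by
      simp [act, Equiv.Perm.mul_def, Equiv.Perm.inv_def]
  · intro c hc c' hc'
    obtain ⟨ρ, -, rfl⟩ := Finset.mem_image.1 hc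
    obtain ⟨ρ', -, rfl⟩ := Finset.mem_image.1 hc'
    exact ⟨ρ' * ρ⁻¹, funext fun σ => by simp [act, mul_assoc]⟩
  · intro c hc
    rw [← hfil] at hc
    have hc' : ¬ ∀ σ, c σ ≠ Fin.last n :=
      (Finset.mem_filter.1 (Finset.mem_filter.1 hc).1).2
    push Not at hc'
    obtain ⟨σ, hσ⟩ := hc'
    refine ⟨σ l, ?_⟩
    simp only [word, map_prod]
    exact Finset.prod_eq_zero (Finset.mem_univ σ) (by simp [q', hσ, hl])

theorem nrm_indep (S : Type u) [CommSemiring S] [Algebra A S] (y y' : S ⊗[A] Tpow A (Pres A B) d)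
    (h : (SymTen.tmap A d (piP A B)).toLinearMap.lTensor S y =
      (SymTen.tmap A d (piP A B)).toLinearMap.lTensor S y') :
    (G γ).lTensor S (nrm A _ d S y) = (G γ).lTensor S (nrm A _ d S y') := by
  classical
  letI : CommRing S := { Algebra.semiringToRing A with mul_comm := mul_comm }
  obtain ⟨k, hk⟩ := (lTensor_exact S (LinearMap.exact_subtype_ker_map
    (SymTen.tmap A d (piP A B)).toLinearMap) piT_surjective (y' - y)).1 (by rw [map_sub, h, sub_self])
  suffices ∀ (k : S ⊗[A] LinearMap.ker (SymTen.tmap A d (piP A B)).toLinearMap) (z : S ⊗[A] Tpow A (Pres A B) d),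
      (G γ).lTensor S (nrm A _ d S (z + (Submodule.subtype _).lTensor S k)) =
        (G γ).lTensor S (nrm A _ d S z) by
    rw [show y' = y + (Submodule.subtype _).lTensor S k by rw [hk, add_sub_cancel], this]
  intro k
  induction k using TensorProduct.induction_on with
  | zero => simp
  | add a b ha hb => intro z; rw [map_add, ← add_assoc, hb, ha]
  | tmul s u =>
    rw [LinearMap.lTensor_tmul]
    have hu : (Submodule.subtype _ u) ∈ Submodule.span A _ := ker_piT_le (A := A) (B := B) (d := d) u.2
    generalize Submodule.subtype _ u = w at hu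
    induction hu using Submodule.span_induction generalizing s with
    | mem x hx =>
      obtain ⟨p, ⟨i, hi⟩, rfl⟩ := hx
      exact fun z => nrm_add_bad γ z s p i hi
    | zero => simp
    | add x y _ _ hx hy => intro z; rw [TensorProduct.tmul_add, ← add_assoc, hy, hx]
    | smul c x _ hx => intro z; rw [← TensorProduct.smul_tmul]; exact hx (c • s) z

theorem exists_piT_lift (S : Type u) [CommSemiring S] [Algebra A S] (x : S ⊗[A] Tpow A B d) :
    ∃ y, (SymTen.tmap A d (piP A B)).toLinearMap.lTensor S y = x :=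
  LinearMap.lTensor_surjective S piT_surjective x

/-- The norm law. -/
noncomputable def normLaw : PolLaw.MulLaw A (Tpow A B d) C d.factorial where
  law :=
    { toFun' := fun S _ _ x => (G γ).lTensor S (nrm A _ d S (exists_piT_lift S x).choose)
      isCompat' := fun {S} _ _ {S'} _ _ φ => by
        funext x
        simp only [Function.comp_apply]
        rw [rTensor_lTensor, nrm_compat]
        refine nrm_indep γ S' _ _ ?_
        rw [← rTensor_lTensor, (exists_piT_lift S x).choose_spec, (exists_piT_lift S' _).choose_spec] }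
  homog := fun S _ _ s x => by
    show (G γ).lTensor S (nrm A _ d S (exists_piT_lift S (s • x)).choose) = _
    rw [nrm_indep γ S (exists_piT_lift S (s • x)).choose (s • (exists_piT_lift S x).choose) (by
      rw [(exists_piT_lift S (s • x)).choose_spec, lTensor_smul', (exists_piT_lift S x).choose_spec]),
      nrm_smul, lTensor_smul']
  mult := fun S _ _ => by
    constructor
    · show (G γ).lTensor S (nrm A _ d S (exists_piT_lift S 1).choose) = 1
      rw [nrm_indep γ S (exists_piT_lift S 1).choose 1 (by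
        rw [(exists_piT_lift S 1).choose_spec, PolLaw.lTensor_algHom_apply, map_one]),
        nrm_one, Algebra.TensorProduct.one_def, LinearMap.lTensor_tmul, G_one]
      rfl
    · intro x y
      show (G γ).lTensor S (nrm A _ d S (exists_piT_lift S (x * y)).choose) =
        (G γ).lTensor S (nrm A _ d S (exists_piT_lift S x).choose) *
          (G γ).lTensor S (nrm A _ d S (exists_piT_lift S y).choose)
      rw [nrm_indep γ S (exists_piT_lift S (x * y)).choose
        ((exists_piT_lift S x).choose * (exists_piT_lift S y).choose) (by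
          rw [(exists_piT_lift S (x * y)).choose_spec, lTensor_algHom_mul,
            (exists_piT_lift S x).choose_spec, (exists_piT_lift S y).choose_spec]),
        nrm_mul, lTensor_G_mul γ (orbP_nrm _ S _) (orbP_nrm _ S _)]

theorem normLaw_apply (S : Type u) [CommSemiring S] [Algebra A S] (y : S ⊗[A] Tpow A (Pres A B) d) :
    (normLaw γ).law.toFun' S ((SymTen.tmap A d (piP A B)).toLinearMap.lTensor S y) =
      (G γ).lTensor S (nrm A _ d S y) :=
  nrm_indep γ S _ _ (exists_piT_lift S _).choose_spec

theorem tmap_nrm (S : Type u) [CommSemiring S] [Algebra A S] (y : S ⊗[A] Tpow A (Pres A B) d) :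
    (SymTen.tmap A d (piP A B)).toLinearMap.lTensor S (nrm A _ d S y) =
      nrm A B d S ((SymTen.tmap A d (piP A B)).toLinearMap.lTensor S y) := by
  rw [PolLaw.lTensor_algHom_apply, PolLaw.lTensor_algHom_apply, nrm, nrm, map_prod]
  refine Finset.prod_congr rfl fun σ _ => ?_
  induction y using TensorProduct.induction_on with
  | zero => simp
  | tmul a b => simp [tmap_perm]
  | add a b ha hb => simp only [map_add, ha, hb]

variable {γ}

theorem IsCompare.phi_G_lTensor {φ : C →ₐ[A] SymTen.TS A B d} (hc : IsCompare γ φ) {S : Type u}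
    [CommSemiring S] [Algebra A S] {u : S ⊗[A] Tpow A (Pres A B) d} (hu : R.lTensor S u = u) :
    ((SymTen.TS A B d).val.comp φ).toLinearMap.lTensor S ((G γ).lTensor S u) =
      (SymTen.tmap A d (piP A B)).toLinearMap.lTensor S u := by
  rw [← hu, lTensor_comp', lTensor_comp', lTensor_comp']
  congr 1
  refine congrArg _ (LinearMap.ext fun t => ?_)
  show (φ (G γ (R t)) : Tpow A B d) = SymTen.tmap A d (piP A B) (R t)
  exact hc.phi_G (orbP_mem_TS (bP A B) t)

/-- The compatibilities of the norm law. -/
theorem exists_normLaw (hγ : PolLaw.IsGammaD γ) {φ : C →ₐ[A] SymTen.TS A B d} (hc : IsCompare γ φ) :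
    ∃ F : PolLaw.MulLaw A (SymTen.TS A B d) C d.factorial,
      PolLaw.MulLaw.postcomp φ F = PolLaw.MulLaw.pow A (SymTen.TS A B d) d.factorial ∧
      PolLaw.MulLaw.precomp F φ = PolLaw.MulLaw.pow A C d.factorial := by
  classical
  refine ⟨(normLaw γ).precomp (SymTen.TS A B d).val, ?_, ?_⟩
  · refine PolLaw.MulLaw.ext (PolynomialLaw.ext (funext fun S => funext fun _ => funext fun _ => funext fun x => ?_))
    show φ.toLinearMap.lTensor S ((normLaw γ).law.toFun' S ((SymTen.TS A B d).val.toLinearMap.lTensor S x)) =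
      x ^ d.factorial
    obtain ⟨T, rfl⟩ := TensorProduct.exists_finset x
    let ψ : MvPolynomial ↥T A →ₐ[A] S := MvPolynomial.aeval fun i => i.1.1
    set x₀ : MvPolynomial ↥T A ⊗[A] SymTen.TS A B d := ∑ i : T, MvPolynomial.X i ⊗ₜ[A] i.1.2
    have e : ψ.toLinearMap.rTensor _ x₀ = ∑ i ∈ T, i.1 ⊗ₜ[A] i.2 := by
      simp only [x₀, map_sum, LinearMap.rTensor_tmul]
      rw [← Finset.sum_coe_sort T]
      exact Finset.sum_congr rfl fun i _ => by simp [ψ]
    rw [← e, ← rTensor_lTensor, ← law_compat, ← rTensor_lTensor]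
    have hpow : ∀ n : ℕ, (ψ.toLinearMap.rTensor (SymTen.TS A B d) x₀) ^ n =
        ψ.toLinearMap.rTensor (SymTen.TS A B d) (x₀ ^ n) := fun n => by
      induction n with
      | zero => rw [pow_zero, pow_zero, Algebra.TensorProduct.one_def, Algebra.TensorProduct.one_def,
          LinearMap.rTensor_tmul, AlgHom.toLinearMap_apply, map_one]
      | succ n ih => rw [pow_succ, pow_succ, rTensor_mul, ih]
    rw [hpow]
    congr 1
    refine Module.Flat.lTensor_preserves_injective_linearMap (SymTen.TS A B d).val.toLinearMap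
      Subtype.val_injective ?_
    obtain ⟨y, hy⟩ := exists_piT_lift (MvPolynomial ↥T A) ((SymTen.TS A B d).val.toLinearMap.lTensor _ x₀)
    rw [← hy, normLaw_apply, lTensor_comp', ← AlgHom.comp_toLinearMap,
      hc.phi_G_lTensor (orbP_nrm _ _ _), tmap_nrm, hy, nrm_of_invariant (fun σ => ?_),
      PolLaw.lTensor_algHom_apply, PolLaw.lTensor_algHom_apply, map_pow]
    rw [lTensor_comp']
    congr 1
    refine congrArg _ (LinearMap.ext fun w => ?_)
    show SymTen.perm A B d σ (w : Tpow A B d) = w
    rw [SymTen.perm_apply]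
    exact w.2 σ
  · refine PolLaw.MulLaw.ext (PolynomialLaw.ext (funext fun S => funext fun _ => funext fun _ => funext fun x => ?_))
    show (normLaw γ).law.toFun' S ((SymTen.TS A B d).val.toLinearMap.lTensor S (φ.toLinearMap.lTensor S x)) =
      x ^ d.factorial
    obtain ⟨t, rfl⟩ := LinearMap.lTensor_surjective S (G_surjective γ hγ) x
    have hGR : (G γ).lTensor S (R.lTensor S t) = (G γ).lTensor S t := by
      rw [lTensor_comp']
      congr 1
      exact congrArg _ (LinearMap.ext (G_R γ))
    have hfix : R.lTensor S (R.lTensor S t) = R.lTensor S t := by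
      rw [lTensor_comp']
      congr 1
      exact congrArg _ (LinearMap.ext fun v => orbP_eq_self (bP A B) (orbP_mem_TS (bP A B) v))
    rw [← hGR, lTensor_comp' (SymTen.TS A B d).val.toLinearMap φ.toLinearMap,
      ← AlgHom.comp_toLinearMap, hc.phi_G_lTensor hfix, normLaw_apply,
      nrm_of_invariant (perm_of_orbP_fixed _ hfix), lTensor_G_pow γ hfix]

theorem normLaw_ground {φ : C →ₐ[A] SymTen.TS A B d} (hc : IsCompare γ φ) (z : Tpow A B d) :
    (φ ((normLaw γ).law.ground z) : Tpow A B d) = ∏ σ : Equiv.Perm (Fin d), SymTen.perm A B d σ z := by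
  obtain ⟨t, rfl⟩ := piT_surjective (A := A) (B := B) z
  have h0 : (1 : A) ⊗ₜ[A] SymTen.tmap A d (piP A B) t =
      (SymTen.tmap A d (piP A B)).toLinearMap.lTensor A ((1 : A) ⊗ₜ[A] t) := rfl
  rw [PolynomialLaw.ground_apply, h0, normLaw_apply]
  have h1 : nrm A (Pres A B) d A ((1 : A) ⊗ₜ[A] t) =
      (1 : A) ⊗ₜ[A] ∏ σ : Equiv.Perm (Fin d), SymTen.perm A (Pres A B) d σ t := by
    simp only [nrm, Algebra.TensorProduct.map_tmul, AlgHom.id_apply, prod_tmul, Finset.prod_const_one]
  rw [h1, LinearMap.lTensor_tmul, TensorProduct.lid_tmul, one_smul, hc.phi_G, map_prod]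
  · exact Finset.prod_congr rfl fun σ _ => tmap_perm _ _ _
  · intro τ
    rw [← SymTen.perm_apply, map_prod]
    simp only [perm_perm]
    exact Equiv.prod_comp (Equiv.mulLeft τ) fun σ => SymTen.perm A (Pres A B) d σ t

theorem pow_factorial (hγ : PolLaw.IsGammaD γ) {φ : C →ₐ[A] SymTen.TS A B d} (hc : IsCompare γ φ) :
    (∀ x : C, φ x = 0 → x ^ d.factorial = 0) ∧
      (∀ y : SymTen.TS A B d, y ^ d.factorial ∈ φ.range) := by
  classical
  constructor
  · intro x hx
    obtain ⟨t, rfl⟩ := G_surjective γ hγ x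
    rw [← G_R γ t] at hx ⊢
    set u := R (A := A) (B := B) (d := d) t
    have hu := orbP_mem_TS (bP A B) (d := d) t
    have h0 : SymTen.tmap A d (piP A B) u = 0 := by rw [← hc.phi_G hu, hx]; rfl
    have h1 := nrm_indep γ A ((1 : A) ⊗ₜ[A] u) 0 (by
      rw [map_zero, LinearMap.lTensor_tmul, AlgHom.toLinearMap_apply, h0, TensorProduct.tmul_zero])
    have hz : nrm A (Pres A B) d A 0 = 0 :=
      Finset.prod_eq_zero (Finset.mem_univ 1) (map_zero _)
    have hfix : R.lTensor A ((1 : A) ⊗ₜ[A] u) = (1 : A) ⊗ₜ[A] u := by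
      rw [LinearMap.lTensor_tmul, show R u = u from orbP_eq_self (bP A B) hu]
    rw [hz, map_zero, nrm_of_invariant (perm_of_orbP_fixed _ hfix), lTensor_G_pow γ hfix,
      LinearMap.lTensor_tmul, Algebra.TensorProduct.tmul_pow, one_pow] at h1
    simpa using congrArg (TensorProduct.lid A C) h1
  · intro y
    refine ⟨(normLaw γ).law.ground (y : Tpow A B d), Subtype.ext ?_⟩
    show (φ ((normLaw γ).law.ground (y : Tpow A B d)) : Tpow A B d) = _
    rw [normLaw_ground hc, SubmonoidClass.coe_pow,
      Finset.prod_congr rfl fun σ _ => by rw [SymTen.perm_apply, (SymTen.mem_TS_iff A B d _).1 y.2 σ],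
      Finset.prod_const, Finset.card_univ, Fintype.card_perm, Fintype.card_fin]

end Groth.Agent.GammaD
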