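import Groth.Agent.Lib.GammaD.Descend
import Groth.Agent.Lib.GammaD.Kernel2
import Mathlib.RingTheory.Nilpotent.Lemmas
import Mathlib.Algebra.MvPolynomial.Nilpotent
import Mathlib.RingTheory.TensorProduct.MvPolynomial

/-! # The image of a law into a reduced algebra is reduced -/

universe u

open scoped TensorProduct

namespace Groth.Agent.GammaD

variable {A : Type u} [CommRing A] {B C : Type u} [CommRing B] [Algebra A B] [CommRing C] [Algebra A C]
  {d : ℕ} (F : PolLaw.MulLaw A B C d)

theorem law_map_compat {S S' : Type u} [CommSemiring S] [Algebra A S] [CommSemiring S'] [Algebra A S']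
    (φ : S →ₐ[A] S') (x : S ⊗[A] B) :
    Algebra.TensorProduct.map φ (AlgHom.id A C) (F.law.toFun' S x) =
      F.law.toFun' S' (Algebra.TensorProduct.map φ (AlgHom.id A B) x) := by
  have e : ∀ {N : Type u} [CommRing N] [Algebra A N] (z : S ⊗[A] N),
      φ.toLinearMap.rTensor N z = Algebra.TensorProduct.map φ (AlgHom.id A N) z := by
    intro N _ _ z
    induction z using TensorProduct.induction_on with
    | zero => simp
    | tmul s a => simp
    | add a b ha hb => simp only [map_add, ha, hb]
  rw [← e, ← e]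
  exact law_compat F.law φ x

theorem neg_neg_mul_pow {T : Type*} [CommRing T] (a e : T) (N : ℕ) :
    -(-(a * e)) ^ N = -((-1) ^ N * a ^ N) * e ^ N := by
  rw [neg_pow, mul_pow]
  ring

theorem omega_law_add_eq {S : Type u} [CommRing S] [Algebra A S] {D : Type u} [CommRing D] [IsDomain D]
    [Algebra A D] (ω : S ⊗[A] C →ₐ[A] D) {b : B} {N : ℕ} (hb : b ^ N ∈ PolLaw.ker F.law)
    (x w : S ⊗[A] B) :
    ω (F.law.toFun' S (x + w * (1 ⊗ₜ[A] b))) = ω (F.law.toFun' S x) := by
  let ωl : S →ₐ[A] D := ω.comp Algebra.TensorProduct.includeLeft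
  let ωr : C →ₐ[A] D := ω.comp Algebra.TensorProduct.includeRight
  let incl : S →ₐ[A] Polynomial (MvPolynomial (Fin 2) S) :=
    (IsScalarTower.toAlgHom A (MvPolynomial (Fin 2) S) (Polynomial (MvPolynomial (Fin 2) S))).comp
      (IsScalarTower.toAlgHom A S (MvPolynomial (Fin 2) S))
  let up := Algebra.TensorProduct.map incl (AlgHom.id A B)
  let cst : MvPolynomial (Fin 2) S →ₐ[A] Polynomial (MvPolynomial (Fin 2) S) := IsScalarTower.toAlgHom A _ _
  let u0 : MvPolynomial (Fin 2) S ⊗[A] B :=
    (MvPolynomial.X 0 : MvPolynomial (Fin 2) S) ⊗ₜ[A] (1 : B) +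
      (MvPolynomial.X 1 : MvPolynomial (Fin 2) S) ⊗ₜ[A] (1 : B) *
        Algebra.TensorProduct.map (IsScalarTower.toAlgHom A S (MvPolynomial (Fin 2) S)) (AlgHom.id A B) x
  let u := Algebra.TensorProduct.map cst (AlgHom.id A B) u0
  let z := (Polynomial.X : Polynomial (MvPolynomial (Fin 2) S)) ⊗ₜ[A] (1 : B) * up w * (1 ⊗ₜ[A] b)
  let ω' : Polynomial (MvPolynomial (Fin 2) S) ⊗[A] C →ₐ[A] Polynomial (MvPolynomial (Fin 2) D) :=
    Algebra.TensorProduct.lift (Polynomial.mapAlgHom (MvPolynomial.mapAlgHom ωl))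
      (((IsScalarTower.toAlgHom A (MvPolynomial (Fin 2) D) _).comp
        (IsScalarTower.toAlgHom A D (MvPolynomial (Fin 2) D))).comp ωr) fun _ _ => Commute.all _ _
  let ω0 : MvPolynomial (Fin 2) S ⊗[A] C →ₐ[A] MvPolynomial (Fin 2) D :=
    Algebra.TensorProduct.lift (MvPolynomial.mapAlgHom ωl)
      ((IsScalarTower.toAlgHom A D (MvPolynomial (Fin 2) D)).comp ωr) fun _ _ => Commute.all _ _
  let M := fun v => ω' (F.law.toFun' _ v)
  -- evaluation
  have hev : ∀ (cS : S) (v : Fin 2 → S) (q : Polynomial (MvPolynomial (Fin 2) S) ⊗[A] B),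
      Polynomial.aeval (ωl cS) ((M q).map (MvPolynomial.eval fun i => ωl (v i))) =
        ω (F.law.toFun' S (Algebra.TensorProduct.map
          (((Polynomial.aeval cS : Polynomial S →ₐ[S] S).restrictScalars A).comp
            (Polynomial.mapAlgHom ((MvPolynomial.aeval v : MvPolynomial (Fin 2) S →ₐ[S] S).restrictScalars A)))
          (AlgHom.id A B) q)) := by
    intro cS v q
    rw [← law_map_compat]
    let θ := (((Polynomial.aeval cS : Polynomial S →ₐ[S] S).restrictScalars A).comp
            (Polynomial.mapAlgHom ((MvPolynomial.aeval v : MvPolynomial (Fin 2) S →ₐ[S] S).restrictScalars A)))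
    let L : Polynomial (MvPolynomial (Fin 2) D) →+* D :=
      (Polynomial.evalRingHom (ωl cS)).comp (Polynomial.mapRingHom (MvPolynomial.eval fun i => ωl (v i)))
    have : L.comp ω'.toRingHom = (ω.comp (Algebra.TensorProduct.map θ (AlgHom.id A C))).toRingHom := by
      refine Algebra.TensorProduct.ringHom_ext ?_ ?_
      · refine Polynomial.ringHom_ext (fun p => ?_) ?_
        · induction p using MvPolynomial.induction_on with
          | C s => simp [L, ω', θ, ωl]
          | add p q hp hq => simp only [map_add, hp, hq]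
          | mul_X p i hp =>
            simp only [map_mul, hp]
            congr 1
            simp [L, ω', θ, ωl]
        · simp [L, ω', θ, ωl]
      · refine RingHom.ext fun c => ?_
        simp [L, ω', θ, ωr]
    exact RingHom.congr_fun this (F.law.toFun' _ q)
  have hMu : M u = Polynomial.C (ω0 (F.law.toFun' _ u0)) := by
    show ω' _ = _
    rw [← law_map_compat]
    generalize F.law.toFun' (MvPolynomial (Fin 2) S) u0 = q
    induction q using TensorProduct.induction_on with
    | zero => simp
    | tmul p c => simp [ω', ω0, cst]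
    | add a c ha hc => simp only [map_add, ha, hc]
  have hm : ω0 (F.law.toFun' _ u0) ≠ 0 := by
    intro h0
    have e := hev 0 ![1, 0] u
    have e0 : Algebra.TensorProduct.map (((Polynomial.aeval (0 : S) : Polynomial S →ₐ[S] S).restrictScalars A).comp
            (Polynomial.mapAlgHom ((MvPolynomial.aeval ![1, 0] : MvPolynomial (Fin 2) S →ₐ[S] S).restrictScalars A)))
          (AlgHom.id A B) u = 1 := by
      simp [u, u0, cst, Algebra.TensorProduct.one_def]
    rw [hMu, h0, e0, (F.mult S).1, map_one] at e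
    simp at e
  have hdvd : M (u + z) ∣ Polynomial.C (ω0 (F.law.toFun' _ u0) ^ N) := by
    obtain ⟨q, hq⟩ := sub_dvd_pow_sub_pow u (-z) N
    replace hq : u ^ N - (-z) ^ N = (u + z) * q := by rw [hq]; ring
    rw [map_pow, ← hMu]
    refine ⟨M q, ?_⟩
    show ω' _ ^ N = ω' _ * ω' _
    rw [← map_mul, ← (F.mult _).2, ← hq, ← map_pow]
    congr 1
    have hpow : ∀ k, F.law.toFun' _ (u ^ k) = F.law.toFun' _ u ^ k := by
      intro k
      induction k with
      | zero => rw [pow_zero, pow_zero, (F.mult _).1]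
      | succ k ih => rw [pow_succ, pow_succ, (F.mult _).2, ih]
    rw [← hpow, sub_eq_add_neg, show -(-z) ^ N =
      -((-1) ^ N * ((Polynomial.X : Polynomial (MvPolynomial (Fin 2) S)) ⊗ₜ[A] (1 : B) * up w) ^ N) *
        (1 ⊗ₜ[A] (b ^ N)) by
      have e : (1 : Polynomial (MvPolynomial (Fin 2) S)) ⊗ₜ[A] (b ^ N) = ((1 : Polynomial (MvPolynomial (Fin 2) S)) ⊗ₜ[A] b) ^ N := by
        rw [Algebra.TensorProduct.tmul_pow, one_pow]
      rw [e]
      exact neg_neg_mul_pow (T := Polynomial (MvPolynomial (Fin 2) S) ⊗[A] B) _ _ N]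
    exact (hb _ _ _).symm
  have hdeg : (M (u + z)).natDegree = 0 := by
    have := Polynomial.natDegree_le_of_dvd hdvd (Polynomial.C_ne_zero.2 (pow_ne_zero N hm))
    rwa [Polynomial.natDegree_C, Nat.le_zero] at this
  have h1 := hev 1 ![0, 1] (u + z)
  have h2 := hev 0 ![0, 1] (u + z)
  rw [Polynomial.eq_C_of_natDegree_eq_zero hdeg, Polynomial.map_C, Polynomial.aeval_C] at h1 h2
  have hx : ∀ cS : S, Algebra.TensorProduct.map (((Polynomial.aeval cS : Polynomial S →ₐ[S] S).restrictScalars A).comp
            (Polynomial.mapAlgHom ((MvPolynomial.aeval ![0, 1] : MvPolynomial (Fin 2) S →ₐ[S] S).restrictScalars A)))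
          (AlgHom.id A B) (u + z) = x + cS ⊗ₜ[A] (1 : B) * w * (1 ⊗ₜ[A] b) := by
    intro cS
    have hid : ∀ v : S ⊗[A] B, Algebra.TensorProduct.map (((Polynomial.aeval cS : Polynomial S →ₐ[S] S).restrictScalars A).comp
            (Polynomial.mapAlgHom ((MvPolynomial.aeval ![0, 1] : MvPolynomial (Fin 2) S →ₐ[S] S).restrictScalars A)))
          (AlgHom.id A B) (up v) = v := by
      intro v
      induction v using TensorProduct.induction_on with
      | zero => simp
      | tmul s c => simp [up, incl]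
      | add a c ha hc => simp only [map_add, ha, hc]
    have hu : u = (cst (MvPolynomial.X 0)) ⊗ₜ[A] (1 : B) + (cst (MvPolynomial.X 1)) ⊗ₜ[A] (1 : B) * up x := by
      simp only [u, u0, map_add, map_mul, Algebra.TensorProduct.map_tmul, map_one]
      congr 2
      rw [← AlgHom.comp_apply, ← Algebra.TensorProduct.map_comp, AlgHom.id_comp]
    simp only [map_add, hu, z, map_mul, hid]
    simp [cst, ← Algebra.TensorProduct.one_def]
  rw [hx, ← Algebra.TensorProduct.one_def, one_mul] at h1
  rw [hx, TensorProduct.zero_tmul, zero_mul, zero_mul, add_zero] at h2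
  rw [← h1, ← h2]

theorem isReduced_image [IsReduced C] : IsReduced (PolLaw.image F.law) := by
  refine ⟨fun q hq => ?_⟩
  obtain ⟨b, rfl⟩ := Ideal.Quotient.mk_surjective q
  obtain ⟨N, hN⟩ := hq
  rw [← map_pow, Ideal.Quotient.eq_zero_iff_mem] at hN
  rw [Ideal.Quotient.eq_zero_iff_mem]
  intro R _ _ x w
  let S := MvPolynomial R A
  let φ : S →ₐ[A] R := MvPolynomial.aeval id
  have hφ : Function.Surjective φ := fun r => ⟨MvPolynomial.X r, MvPolynomial.aeval_X id r⟩
  obtain ⟨x', hx⟩ : ∃ x', Algebra.TensorProduct.map φ (AlgHom.id A B) x' = x :=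
    TensorProduct.map_surjective (g' := LinearMap.id) hφ Function.surjective_id x
  obtain ⟨w', hw⟩ : ∃ w', Algebra.TensorProduct.map φ (AlgHom.id A B) w' = w :=
    TensorProduct.map_surjective (g' := LinearMap.id) hφ Function.surjective_id w
  haveI : IsReduced (S ⊗[A] C) := by
    let e := MvPolynomial.algebraTensorAlgEquiv (σ := R) A C
    exact isReduced_of_injective
      ((e.toAlgHom.restrictScalars A).comp (Algebra.TensorProduct.comm A S C).toAlgHom)
      (e.injective.comp (Algebra.TensorProduct.comm A S C).injective)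
  have h : F.law.toFun' S (x' + w' * (1 ⊗ₜ[A] b)) = F.law.toFun' S x' := by
    refine sub_eq_zero.1 (IsReduced.eq_zero _ (nilpotent_iff_mem_prime.2 fun P hP => ?_))
    haveI := hP
    have := omega_law_add_eq F (D := (S ⊗[A] C) ⧸ P) (by exact Ideal.Quotient.mkₐ A P) hN x' w'
    exact (Ideal.Quotient.eq).1 this
  have := congrArg (Algebra.TensorProduct.map φ (AlgHom.id A C)) h
  rwa [law_map_compat, law_map_compat, map_add, map_mul, hx, hw, Algebra.TensorProduct.map_tmul, map_one] at this

end Groth.Agent.GammaD
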