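import Groth.Prelude.Def_SymTen
import Mathlib.RingTheory.GradedAlgebra.Basic
import Mathlib.RingTheory.Ideal.GoingUp
import Mathlib.RingTheory.Finiteness.Basic
import Mathlib.RingTheory.LocalRing.ResidueField.Ideal
import Mathlib.Algebra.Polynomial.Lifts
import Mathlib.Algebra.MvPolynomial.Basic
import Mathlib.RingTheory.Adjoin.Basic
import Mathlib.SetTheory.Cardinal.Basic

/-! # Radicals of ideals generated by powers of linear forms among graded symmetric tensors -/

universe u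

open scoped TensorProduct
open PiTensorProduct

namespace Groth.Agent.GammaD.SymRad26

variable {A B : Type u} [CommRing A] [CommRing B] [Algebra A B] (𝒜 : ℕ → Submodule A B) [GradedAlgebra 𝒜] (d : ℕ)

local notation "T" => (⨂[A] _ : Fin d, B)

def homT : Set T := {t | ∃ (k : ℕ) (b : Fin d → B), (∀ i, b i ∈ 𝒜 k) ∧ t = tprod A b}

variable {𝒜} {d}

theorem tprod_pow (b : Fin d → B) (n : ℕ) : tprod A (fun j => b j ^ n) = (tprod A b) ^ n :=
  map_pow (tprodMonoidHom A) b n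

theorem prod_tprod {ι : Type*} (s : Finset ι) (f : ι → Fin d → B) :
    ∏ i ∈ s, tprod A (f i) = tprod A (fun j => ∏ i ∈ s, f i j) := by
  have h := map_prod (tprodMonoidHom A (A := fun _ : Fin d => B)) f s
  rw [show (∏ i ∈ s, f i) = fun j => ∏ i ∈ s, f i j from funext fun j => Finset.prod_apply j s f] at h
  exact h.symm

theorem perm_perm (σ τ : Equiv.Perm (Fin d)) (t : T) :
    SymTen.perm A B d τ (SymTen.perm A B d σ t) = SymTen.perm A B d (τ * σ) t := by
  induction t using PiTensorProduct.induction_on with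
  | smul_tprod r f => simp only [map_smul, SymTen.perm_tprod]; rfl
  | add x y hx hy => simp only [map_add, hx, hy]

theorem perm_mem {σ : Equiv.Perm (Fin d)} {t : T} (ht : t ∈ Algebra.adjoin A (homT 𝒜 d)) :
    SymTen.perm A B d σ t ∈ Algebra.adjoin A (homT 𝒜 d) := by
  refine (Algebra.adjoin_le (S := (Algebra.adjoin A (homT 𝒜 d)).comap (SymTen.perm A B d σ)) ?_) ht
  rintro _ ⟨k, b, hb, rfl⟩
  show SymTen.perm A B d σ (tprod A b) ∈ Algebra.adjoin A (homT 𝒜 d)
  rw [SymTen.perm_tprod]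
  exact Algebra.subset_adjoin ⟨k, _, fun i => hb _, rfl⟩

theorem tprod_mem_S {k : ℕ} {b : Fin d → B} (hb : ∀ i, b i ∈ 𝒜 k) :
    tprod A b ∈ Algebra.adjoin A (homT 𝒜 d) :=
  Algebra.subset_adjoin ⟨k, b, hb, rfl⟩

theorem exists_prime_over (D : Subalgebra A T) (hD : D = Algebra.adjoin A (homT 𝒜 d) ⊓ SymTen.TS A B d)
    (Q : Ideal D) [Q.IsPrime] :
    ∃ Qs : Submodule A T,
      (∀ x ∈ Qs, x ∈ Algebra.adjoin A (homT 𝒜 d)) ∧ (1 : T) ∉ Qs ∧
      (∀ x ∈ Algebra.adjoin A (homT 𝒜 d), ∀ y ∈ Qs, x * y ∈ Qs) ∧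
      (∀ x ∈ Algebra.adjoin A (homT 𝒜 d), ∀ y ∈ Algebra.adjoin A (homT 𝒜 d), x * y ∈ Qs → x ∈ Qs ∨ y ∈ Qs) ∧
      (∀ x : D, (x : T) ∈ Qs ↔ x ∈ Q) := by
  classical
  let S := Algebra.adjoin A (homT 𝒜 d)
  have hle : D ≤ S := hD ▸ inf_le_left
  let ι : D →ₐ[A] S := Subalgebra.inclusion hle
  let σS : Equiv.Perm (Fin d) → (S →ₐ[A] S) := fun σ =>
    ((SymTen.perm A B d σ).comp S.val).codRestrict S fun x => perm_mem x.2
  letI : Algebra D S := ι.toRingHom.toAlgebra
  haveI : Algebra.IsIntegral D S := ⟨fun x => by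
    rcases subsingleton_or_nontrivial S with hS | hS
    · rw [Subsingleton.elim x 0]; exact isIntegral_zero
    let P : Polynomial S := ∏ σ : Equiv.Perm (Fin d), (Polynomial.X - Polynomial.C (σS σ x))
    have hP : P.Monic := Polynomial.monic_prod_of_monic _ _ fun σ _ => Polynomial.monic_X_sub_C _
    have hlift : P ∈ Polynomial.lifts (algebraMap D S) := by
      rw [Polynomial.lifts_iff_coeff_lifts]
      intro n
      have hmem : ((P.coeff n : S) : T) ∈ D := by
        rw [hD]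
        refine ⟨(P.coeff n).2, fun τ => ?_⟩
        rw [← SymTen.perm_apply]
        have hmap : P.map (σS τ).toRingHom = P := by
          simp only [P, Polynomial.map_prod, Polynomial.map_sub, Polynomial.map_X, Polynomial.map_C]
          refine Fintype.prod_equiv (Equiv.mulLeft τ) _ _ fun σ => ?_
          congr 2
          exact Subtype.ext (perm_perm σ τ x.1)
        have h := congrArg (fun F => ((Polynomial.coeff F n : S) : T)) hmap
        simp only [Polynomial.coeff_map] at h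
        exact h
      exact ⟨⟨_, hmem⟩, Subtype.ext rfl⟩
    obtain ⟨F, hF, -, hFm⟩ := Polynomial.lifts_and_degree_eq_and_monic hlift hP
    refine ⟨F, hFm, ?_⟩
    rw [← Polynomial.eval_map, hF, Polynomial.eval_prod]
    refine Finset.prod_eq_zero (Finset.mem_univ 1) ?_
    rw [Polynomial.eval_sub, Polynomial.eval_X, Polynomial.eval_C, sub_eq_zero]
    refine Subtype.ext ?_
    show (x : T) = SymTen.perm A B d 1 x.1
    rw [SymTen.perm_apply, Equiv.Perm.one_def, PiTensorProduct.reindex_refl]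
    rfl⟩
  obtain ⟨Q', -, hQ', hcomap⟩ := Ideal.exists_ideal_over_prime_of_isIntegral Q (⊥ : Ideal S) (by
    intro x hx
    have h0 : (x : T) = 0 := congrArg Subtype.val (Ideal.mem_bot.1 (Ideal.mem_comap.1 hx))
    rw [show x = 0 from Subtype.ext h0]
    exact Q.zero_mem)
  refine ⟨(Q'.restrictScalars A).map S.val.toLinearMap, ?_, ?_, ?_, ?_, ?_⟩
  · rintro _ ⟨x, -, rfl⟩; exact x.2
  · rintro ⟨x, hx, h1⟩
    exact hQ'.ne_top ((Ideal.eq_top_iff_one _).2 ((show x = 1 from Subtype.ext h1) ▸ hx))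
  · rintro x hxS _ ⟨y, hy, rfl⟩
    exact ⟨⟨x, hxS⟩ * y, Q'.mul_mem_left _ hy, rfl⟩
  · rintro x hxS y hyS ⟨z, hz, hzxy⟩
    rw [show z = ⟨x, hxS⟩ * ⟨y, hyS⟩ from Subtype.ext hzxy] at hz
    rcases hQ'.mem_or_mem hz with h | h
    · exact Or.inl ⟨_, h, rfl⟩
    · exact Or.inr ⟨_, h, rfl⟩
  · intro x
    rw [← hcomap, Ideal.mem_comap]
    constructor
    · rintro ⟨z, hz, hzx⟩
      rwa [show z = algebraMap D S x from Subtype.ext hzx] at hz
    · exact fun h => ⟨_, h, rfl⟩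

theorem mem_span_mul (hgen : Algebra.adjoin A (𝒜 1 : Set B) = ⊤) {k : ℕ} {b : B} (hb : b ∈ 𝒜 (k + 1)) :
    b ∈ Submodule.span A {z | ∃ x ∈ 𝒜 1, ∃ c ∈ 𝒜 k, z = x * c} := by
  classical
  have hmem : b ∈ Submodule.span A (Submonoid.closure (𝒜 1 : Set B) : Set B) := by
    rw [← Algebra.adjoin_eq_span, hgen]; trivial
  rw [← DirectSum.decompose_of_mem_same 𝒜 hb]
  clear hb
  induction hmem using Submodule.span_induction with
  | zero => simp
  | add u v _ _ hu hv => rw [DirectSum.decompose_add, DirectSum.add_apply, Submodule.coe_add]; exact add_mem hu hv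
  | smul a u _ hu => rw [DirectSum.decompose_smul, DirectSum.smul_apply, Submodule.coe_smul]; exact Submodule.smul_mem _ a hu
  | mem w hw =>
    have key : ∃ n, w ∈ 𝒜 n ∧ (n = 0 ∨ ∃ x ∈ 𝒜 1, ∃ c ∈ 𝒜 (n - 1), w = x * c) := by
      induction hw using Submonoid.closure_induction_left with
      | one => exact ⟨0, SetLike.one_mem_graded 𝒜, Or.inl rfl⟩
      | mul_left x hx y _ ih =>
        obtain ⟨n, hy, -⟩ := ih
        refine ⟨n + 1, ?_, Or.inr ⟨x, hx, y, by simpa using hy, rfl⟩⟩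
        rw [add_comm]; exact SetLike.mul_mem_graded hx hy
    obtain ⟨n, hwn, hn⟩ := key
    by_cases hnk : n = k + 1
    · subst hnk
      rw [DirectSum.decompose_of_mem_same 𝒜 hwn]
      rcases hn with h | ⟨x, hx, c, hc, rfl⟩
      · omega
      · exact Submodule.subset_span ⟨x, hx, c, hc, rfl⟩
    · rw [DirectSum.decompose_of_mem_ne 𝒜 hwn hnk]
      exact zero_mem _

theorem exists_deg_one (hgen : Algebra.adjoin A (𝒜 1 : Set B) = ⊤) (Qs : Submodule A T)
    (hmul : ∀ x ∈ Algebra.adjoin A (homT 𝒜 d), ∀ y ∈ Qs, x * y ∈ Qs)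
    {k : ℕ} {b : Fin d → B} (hk : 0 < k) (hb : ∀ i, b i ∈ 𝒜 k) (hout : tprod A b ∉ Qs) :
    ∃ x : Fin d → B, (∀ i, x i ∈ 𝒜 1) ∧ tprod A x ∉ Qs := by
  classical
  by_contra hno
  push Not at hno
  obtain ⟨k, rfl⟩ : ∃ l, k = l + 1 := ⟨k - 1, by omega⟩
  refine hout ?_
  suffices hs : ∀ s : Finset (Fin d), ∀ c : Fin d → B,
      (∀ i ∉ s, c i ∈ {z | ∃ x ∈ 𝒜 1, ∃ y ∈ 𝒜 k, z = x * y}) → (∀ i, c i ∈ 𝒜 (k + 1)) → tprod A c ∈ Qs from
    hs Finset.univ b (fun i hi => absurd (Finset.mem_univ i) hi) hb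
  intro s
  induction s using Finset.induction_on with
  | empty =>
    intro c hc _
    choose x hx y hy hxy using fun i => hc i (Finset.notMem_empty i)
    rw [show c = x * y from funext hxy, ← tprod_mul_tprod, mul_comm]
    exact hmul _ (tprod_mem_S hy) _ (hno x hx)
  | @insert i s his ih =>
    intro c hc hcd
    have key : ∀ z ∈ Submodule.span A {z | ∃ x ∈ 𝒜 1, ∃ y ∈ 𝒜 k, z = x * y},
        tprod A (Function.update c i z) ∈ Qs := by
      intro z hz
      induction hz using Submodule.span_induction with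
      | mem w hw =>
        refine ih _ (fun j hj => ?_) (fun j => ?_)
        · by_cases hji : j = i
          · rw [hji, Function.update_self]; exact hw
          · rw [Function.update_of_ne hji]
            exact hc j (fun h => (Finset.mem_insert.1 h).elim hji hj)
        · by_cases hji : j = i
          · rw [hji, Function.update_self]
            obtain ⟨x, hx, y, hy, rfl⟩ := hw
            rw [add_comm]; exact SetLike.mul_mem_graded hx hy
          · rw [Function.update_of_ne hji]; exact hcd j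
      | zero => rw [MultilinearMap.map_update_zero]; exact zero_mem _
      | add u v _ _ hu hv => rw [MultilinearMap.map_update_add]; exact add_mem hu hv
      | smul a u _ hu => rw [MultilinearMap.map_update_smul]; exact Submodule.smul_mem _ a hu
    simpa using key (c i) (mem_span_mul hgen (hcd i))

variable (d)

/-- The tensor with `f` in the slot `i` and the `n`-th powers of `b` elsewhere. -/
noncomputable def slot (b : Fin d → B) (i : Fin d) (n : ℕ) : B →ₗ[A] T :=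
  (tprod A).toLinearMap (fun j => b j ^ n) i

variable {d}

theorem slot_apply (b : Fin d → B) (i : Fin d) (n : ℕ) (f : B) :
    slot (A := A) d b i n f = tprod A (Function.update (fun j => b j ^ n) i f) := rfl

theorem slot_mem {b : Fin d → B} (hb : ∀ i, b i ∈ 𝒜 1) (i : Fin d) {n : ℕ} {f : B} (hf : f ∈ 𝒜 n) :
    slot (A := A) d b i n f ∈ Algebra.adjoin A (homT 𝒜 d) := by
  rw [slot_apply]
  refine tprod_mem_S (k := n) fun j => ?_
  by_cases h : j = i
  · rw [h, Function.update_self]; exact hf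
  · rw [Function.update_of_ne h]
    simpa using SetLike.pow_mem_graded n (hb j)

theorem slot_mul (b : Fin d → B) (i : Fin d) (n m : ℕ) (f g : B) :
    slot (A := A) d b i n f * slot (A := A) d b i m g = slot (A := A) d b i (n + m) (f * g) := by
  rw [slot_apply, slot_apply, slot_apply, tprod_mul_tprod]
  congr 1
  funext j
  by_cases h : j = i
  · subst h; simp
  · simp [h, pow_add]

theorem prod_slot (b : Fin d → B) (n : ℕ) (f : Fin d → B) :
    ∏ i, slot (A := A) d b i n (f i) = tprod A f * (tprod A (fun j => b j ^ n)) ^ (d - 1) := by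
  simp only [slot_apply]
  rw [prod_tprod, ← tprod_pow, tprod_mul_tprod]
  congr 1
  funext j
  rw [← Finset.mul_prod_erase _ _ (Finset.mem_univ j), Function.update_self, Pi.mul_apply]
  congr 1
  rw [Finset.prod_congr rfl (g := fun _ => b j ^ n) fun i hi => Function.update_of_ne (Finset.ne_of_mem_erase hi).symm _ _,
    Finset.prod_const, Finset.card_erase_of_mem (Finset.mem_univ j), Finset.card_univ, Fintype.card_fin]

section Avoid

theorem pow_notMem (Qs : Submodule A T) (h1 : (1 : T) ∉ Qs)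
    (hprime : ∀ x ∈ Algebra.adjoin A (homT 𝒜 d), ∀ y ∈ Algebra.adjoin A (homT 𝒜 d), x * y ∈ Qs → x ∈ Qs ∨ y ∈ Qs)
    {x : T} (hx : x ∈ Algebra.adjoin A (homT 𝒜 d)) (hn : x ∉ Qs) : ∀ n : ℕ, x ^ n ∉ Qs
  | 0 => by simpa using h1
  | n + 1 => fun h => by
    rw [pow_succ] at h
    rcases hprime _ (pow_mem hx n) _ hx h with h | h
    · exact pow_notMem Qs h1 hprime hx hn n h
    · exact hn h

theorem prod_mem_Qs (Qs : Submodule A T) (h1 : (1 : T) ∉ Qs)
    (hprime : ∀ x ∈ Algebra.adjoin A (homT 𝒜 d), ∀ y ∈ Algebra.adjoin A (homT 𝒜 d), x * y ∈ Qs → x ∈ Qs ∨ y ∈ Qs)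
    {ι : Type*} (s : Finset ι) (f : ι → T) (hf : ∀ i ∈ s, f i ∈ Algebra.adjoin A (homT 𝒜 d))
    (h : ∏ i ∈ s, f i ∈ Qs) : ∃ i ∈ s, f i ∈ Qs := by
  classical
  induction s using Finset.induction_on with
  | empty => exact absurd (by simpa using h) h1
  | @insert i t hit ih =>
    rw [Finset.prod_insert hit] at h
    rcases hprime _ (hf i (Finset.mem_insert_self i t)) _
      (prod_mem fun j hj => hf j (Finset.mem_insert_of_mem hj)) h with h | h
    · exact ⟨i, Finset.mem_insert_self i t, h⟩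
    · obtain ⟨j, hj, hjq⟩ := ih (fun j hj => hf j (Finset.mem_insert_of_mem hj)) h
      exact ⟨j, Finset.mem_insert_of_mem hj, hjq⟩

theorem tpow_notMem (Qs : Submodule A T) (h1 : (1 : T) ∉ Qs)
    (hprime : ∀ x ∈ Algebra.adjoin A (homT 𝒜 d), ∀ y ∈ Algebra.adjoin A (homT 𝒜 d), x * y ∈ Qs → x ∈ Qs ∨ y ∈ Qs)
    (hmul : ∀ x ∈ Algebra.adjoin A (homT 𝒜 d), ∀ y ∈ Qs, x * y ∈ Qs) (b : Fin d → B) (hb : ∀ i, b i ∈ 𝒜 1)
    {n : ℕ} {f : B} (hf : f ∈ 𝒜 n) (h : ∀ i, slot (A := A) d b i n f ∉ Qs) :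
    tprod A (fun _ : Fin d => f) ∉ Qs := by
  intro hmem
  have hu : tprod A (fun j => b j ^ n) ∈ Algebra.adjoin A (homT 𝒜 d) :=
    tprod_mem_S (k := n) fun j => by simpa using SetLike.pow_mem_graded n (hb j)
  have h2 : ∏ i, slot (A := A) d b i n f ∈ Qs := by
    rw [prod_slot, mul_comm]
    exact hmul _ (pow_mem hu _) _ hmem
  obtain ⟨i, -, hi⟩ := prod_mem_Qs Qs h1 hprime Finset.univ _ (fun i _ => slot_mem hb i hf) h2
  exact h i hi

theorem slot_self_pow (Qs : Submodule A T) (h1 : (1 : T) ∉ Qs)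
    (hprime : ∀ x ∈ Algebra.adjoin A (homT 𝒜 d), ∀ y ∈ Algebra.adjoin A (homT 𝒜 d), x * y ∈ Qs → x ∈ Qs ∨ y ∈ Qs)
    (b : Fin d → B) (hb : ∀ i, b i ∈ 𝒜 1) (hout : tprod A b ∉ Qs)
    (i : Fin d) (n : ℕ) : slot (A := A) d b i n (b i ^ n) ∉ Qs := by
  rw [slot_apply, Function.update_eq_self_iff.2 rfl, tprod_pow]
  exact pow_notMem Qs h1 hprime (tprod_mem_S hb) hout n

theorem slot_pow_iff (Qs : Submodule A T) (h1 : (1 : T) ∉ Qs)
    (hprime : ∀ x ∈ Algebra.adjoin A (homT 𝒜 d), ∀ y ∈ Algebra.adjoin A (homT 𝒜 d), x * y ∈ Qs → x ∈ Qs ∨ y ∈ Qs)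
    (hmul : ∀ x ∈ Algebra.adjoin A (homT 𝒜 d), ∀ y ∈ Qs, x * y ∈ Qs) (b : Fin d → B) (hb : ∀ i, b i ∈ 𝒜 1)
    (i : Fin d) {n : ℕ} {f : B} (hf : f ∈ 𝒜 n) (e : ℕ) (he : 0 < e) :
    slot (A := A) d b i (e * n) (f ^ e) ∈ Qs ↔ slot (A := A) d b i n f ∈ Qs := by
  have h : ∀ e : ℕ, slot (A := A) d b i (e * n) (f ^ e) = slot (A := A) d b i n f ^ e := by
    intro e
    induction e with
    | zero =>
      simp [slot_apply, one_def]
      rfl
    | succ e ih => rw [pow_succ, pow_succ, ← ih, slot_mul, Nat.succ_mul]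
  rw [h]
  constructor
  · intro hh
    by_contra hn
    exact pow_notMem Qs h1 hprime (slot_mem hb i hf) hn e hh
  · intro hh
    obtain ⟨e, rfl⟩ : ∃ l, e = l + 1 := ⟨e - 1, by omega⟩
    rw [pow_succ]
    exact hmul _ (pow_mem (slot_mem hb i hf) e) _ hh

theorem exists_avoid (Qs : Submodule A T) (h1 : (1 : T) ∉ Qs)
    (hprime : ∀ x ∈ Algebra.adjoin A (homT 𝒜 d), ∀ y ∈ Algebra.adjoin A (homT 𝒜 d), x * y ∈ Qs → x ∈ Qs ∨ y ∈ Qs)
    (hmul : ∀ x ∈ Algebra.adjoin A (homT 𝒜 d), ∀ y ∈ Qs, x * y ∈ Qs) (b : Fin d → B) (hb : ∀ i, b i ∈ 𝒜 1) (hout : tprod A b ∉ Qs)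
    (s : Finset (Fin d)) :
    ∃ (n : ℕ) (f : B), 0 < n ∧ f ∈ 𝒜 n ∧ ∀ i ∈ s, slot (A := A) d b i n f ∉ Qs := by
  classical
  induction s using Finset.strongInduction with
  | _ s ih =>
    rcases s.eq_empty_or_nonempty with rfl | ⟨i0, hi0⟩
    · exact ⟨1, 0, one_pos, zero_mem _, by simp⟩
    by_cases h1s : s = {i0}
    · subst h1s
      refine ⟨1, b i0, one_pos, hb i0, fun i hi => ?_⟩
      rw [Finset.mem_singleton] at hi
      subst hi
      simpa using slot_self_pow Qs h1 hprime b hb hout i 1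
    choose n f hn hf havoid using fun i : s => ih (s.erase i) (Finset.erase_ssubset i.2)
    by_cases hgood : ∃ i : s, slot (A := A) d b i (n i) (f i) ∉ Qs
    · obtain ⟨i, hi⟩ := hgood
      refine ⟨n i, f i, hn i, hf i, fun j hj => ?_⟩
      by_cases hji : j = i
      · rwa [hji]
      · exact havoid i j (Finset.mem_erase.2 ⟨hji, hj⟩)
    push Not at hgood
    let j0 : s := ⟨i0, hi0⟩
    let others : Finset s := Finset.univ.erase j0
    let m := ∑ j ∈ others, n j
    have hm : 0 < m := by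
      obtain ⟨j, hj, hji⟩ : ∃ j ∈ s, j ≠ i0 := by
        by_contra hc
        push Not at hc
        exact h1s (Finset.eq_singleton_iff_unique_mem.2 ⟨hi0, hc⟩)
      exact lt_of_lt_of_le (hn ⟨j, hj⟩) (Finset.single_le_sum (f := n) (fun _ _ => Nat.zero_le _)
        (Finset.mem_erase.2 ⟨fun h => hji (congrArg Subtype.val h), Finset.mem_univ _⟩))
    have hprodmem : ∏ j ∈ others, f j ∈ 𝒜 m := SetLike.prod_mem_graded 𝒜 n f fun j _ => hf j
    have hprod : ∀ i : Fin d, ∀ t : Finset s, slot (A := A) d b i (∑ j ∈ t, n j) (∏ j ∈ t, f j) =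
        ∏ j ∈ t, slot (A := A) d b i (n j) (f j) := by
      intro i t
      induction t using Finset.induction_on with
      | empty => simp [slot_apply, one_def]; rfl
      | @insert a t hat iht => rw [Finset.sum_insert hat, Finset.prod_insert hat, Finset.prod_insert hat, ← slot_mul, iht]
    refine ⟨m * n j0, f j0 ^ m + (∏ j ∈ others, f j) ^ n j0, Nat.mul_pos hm (hn j0),
      add_mem (by simpa using SetLike.pow_mem_graded m (hf j0)) (by simpa [mul_comm] using SetLike.pow_mem_graded (n j0) hprodmem),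
      fun i hi hmem => ?_⟩
    rw [map_add] at hmem
    have hA := slot_pow_iff Qs h1 hprime hmul b hb i (hf j0) m hm
    have hB := slot_pow_iff Qs h1 hprime hmul b hb i hprodmem (n j0) (hn j0)
    rw [mul_comm (n j0) m] at hB
    by_cases hii : i = i0
    · subst hii
      have hfirst := hA.2 (hgood j0)
      have hsecond := hB.1 ((Submodule.add_mem_iff_right _ hfirst).1 hmem)
      rw [hprod] at hsecond
      obtain ⟨j, hj, hjq⟩ := prod_mem_Qs Qs h1 hprime others _ (fun j _ => slot_mem hb i (hf j)) hsecond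
      exact havoid j i (Finset.mem_erase.2 ⟨fun h => (Finset.mem_erase.1 hj).1 (Subtype.ext h.symm), hi⟩) hjq
    · have hmemo : (⟨i, hi⟩ : s) ∈ others := Finset.mem_erase.2 ⟨fun h => hii (congrArg Subtype.val h), Finset.mem_univ _⟩
      have hsecond : slot (A := A) d b i m (∏ j ∈ others, f j) ∈ Qs := by
        rw [hprod, ← Finset.prod_erase_mul _ _ hmemo]
        exact hmul _ (prod_mem (fun j _ => slot_mem hb i (hf j))) _ (hgood ⟨i, hi⟩)
      have hfirst := hA.1 ((Submodule.add_mem_iff_left _ (hB.2 hsecond)).1 hmem)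
      exact havoid j0 i (Finset.mem_erase.2 ⟨hii, hi⟩) hfirst

theorem exists_avoid_deg_one (Qs : Submodule A T) (h1 : (1 : T) ∉ Qs)
    (hprime : ∀ x ∈ Algebra.adjoin A (homT 𝒜 d), ∀ y ∈ Algebra.adjoin A (homT 𝒜 d), x * y ∈ Qs → x ∈ Qs ∨ y ∈ Qs)
    (b : Fin d → B) (hb : ∀ i, b i ∈ 𝒜 1) (hout : tprod A b ∉ Qs)
    (hres : ∀ p : PrimeSpectrum A, (d : Cardinal) ≤ Cardinal.mk p.asIdeal.ResidueField) :
    ∃ f : B, f ∈ 𝒜 1 ∧ ∀ i, slot (A := A) d b i 1 f ∉ Qs := by
  classical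
  let p : Ideal A := Qs.comap (Algebra.linearMap A T)
  have hp : p.IsPrime := by
    refine ⟨fun h => h1 ?_, fun {x y} hxy => ?_⟩
    · have := (p.eq_top_iff_one).1 h
      simpa [p] using this
    · simp only [p, Submodule.mem_comap, Algebra.linearMap_apply, map_mul] at hxy ⊢
      exact hprime _ (Subalgebra.algebraMap_mem _ x) _ (Subalgebra.algebraMap_mem _ y) hxy
  have hker : ∀ (r : A) (z : T), z ∈ Algebra.adjoin A (homT 𝒜 d) → r • z ∈ Qs → z ∉ Qs → r ∈ p := by
    intro r z hz hrz hzn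
    rw [Algebra.smul_def] at hrz
    exact ((hprime _ (Subalgebra.algebraMap_mem _ r) _ hz hrz).resolve_right hzn)
  suffices hs : ∀ s : Finset (Fin d), ∃ g ∈ 𝒜 1, ∀ i ∈ s, slot (A := A) d b i 1 g ∉ Qs by
    obtain ⟨g, hg, hgi⟩ := hs Finset.univ
    exact ⟨g, hg, fun i => hgi i (Finset.mem_univ i)⟩
  intro s
  induction s using Finset.induction_on with
  | empty => exact ⟨0, zero_mem _, by simp⟩
  | @insert i t hit ih =>
    obtain ⟨g, hg, hgt⟩ := ih
    by_cases hgi : slot (A := A) d b i 1 g ∈ Qs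
    swap
    · exact ⟨g, hg, fun j hj => (Finset.mem_insert.1 hj).elim (fun h => h ▸ hgi) (hgt j)⟩
    have hh : b i ∈ 𝒜 1 := hb i
    have hhi : slot (A := A) d b i 1 (b i) ∉ Qs := by simpa using slot_self_pow Qs h1 hprime b hb hout i 1
    by_cases hall : ∀ j ∈ t, slot (A := A) d b j 1 (b i) ∉ Qs
    · exact ⟨b i, hh, fun j hj => (Finset.mem_insert.1 hj).elim (fun e => e ▸ hhi) (hall j)⟩
    push Not at hall
    obtain ⟨j0, hj0, hhj0⟩ := hall
    haveI := hp
    let K := p.ResidueField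
    let bad : Fin d → Set K := fun j => {c | ∃ a e : A, e ∉ p ∧
      c = algebraMap A K a / algebraMap A K e ∧ slot (A := A) d b j 1 (e • g + a • b i) ∈ Qs}
    have hk : ∀ r : A, algebraMap A K r = 0 ↔ r ∈ p := fun r => Ideal.algebraMap_residueField_eq_zero
    have hsub : ∀ j, slot (A := A) d b j 1 (b i) ∉ Qs → (bad j).Subsingleton := by
      rintro j hj _ ⟨a, e, he, rfl, hae⟩ _ ⟨a', e', he', rfl, hae'⟩
      rw [div_eq_div_iff (fun h0 => he ((hk e).1 h0)) (fun h0 => he' ((hk e').1 h0)), ← sub_eq_zero,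
        ← map_mul, ← map_mul, ← map_sub, hk]
      refine hker _ _ (slot_mem hb j hh) ?_ hj
      have := Qs.sub_mem (Qs.smul_mem e' hae) (Qs.smul_mem e hae')
      convert this using 1
      simp only [map_add, map_smul, smul_add, smul_smul, sub_smul]
      rw [mul_comm e' e, mul_comm e' a, mul_comm e a']
      abel
    have hnone : ∀ j, slot (A := A) d b j 1 (b i) ∈ Qs → slot (A := A) d b j 1 g ∉ Qs → bad j = ∅ := by
      intro j hj hgj
      rw [Set.eq_empty_iff_forall_notMem]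
      rintro _ ⟨a, e, he, rfl, hae⟩
      refine he (hker e _ (slot_mem hb j hg) ?_ hgj)
      rw [map_add, map_smul, map_smul] at hae
      exact (Submodule.add_mem_iff_left _ (Qs.smul_mem a hj)).1 hae
    let ch : Fin d → K := fun j => if hne : (bad j).Nonempty then hne.choose else 0
    let Bd : Finset K := ((insert i t).erase j0).image ch
    have hBcard : (Bd.card : Cardinal) < Cardinal.mk K := by
      refine lt_of_lt_of_le ?_ (hres ⟨p, hp⟩)
      exact_mod_cast lt_of_le_of_lt Finset.card_image_le (lt_of_lt_of_le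
        (Finset.card_erase_lt_of_mem (Finset.mem_insert_of_mem hj0))
        ((Finset.card_le_univ _).trans (Fintype.card_fin d).le))
    obtain ⟨c, hc⟩ : ∃ c, c ∉ Bd := by
      by_contra hall
      push Not at hall
      refine hBcard.not_ge ?_
      rw [← Cardinal.mk_coe_finset]
      exact Cardinal.mk_le_of_injective (f := fun c => (⟨c, hall c⟩ : Bd)) (fun a b hab => congrArg Subtype.val hab)
    obtain ⟨a, e, he, hae⟩ := IsFractionRing.div_surjective (A := A ⧸ p) (K := K) c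
    obtain ⟨a, rfl⟩ := Ideal.Quotient.mk_surjective a
    obtain ⟨e, rfl⟩ := Ideal.Quotient.mk_surjective e
    have hep : e ∉ p := fun h' => nonZeroDivisors.ne_zero he (Ideal.Quotient.eq_zero_iff_mem.2 h')
    have hca : c = algebraMap A K a / algebraMap A K e := by
      rw [← hae]; rfl
    refine ⟨e • g + a • b i, add_mem (Submodule.smul_mem _ _ hg) (Submodule.smul_mem _ _ hh), fun j hj hmem => ?_⟩
    have hcb : c ∈ bad j := ⟨a, e, hep, hca, hmem⟩
    by_cases hhj : slot (A := A) d b j 1 (b i) ∈ Qs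
    · have hjt : j ∈ t := (Finset.mem_insert.1 hj).resolve_left (fun e => hhi (e ▸ hhj))
      rw [hnone j hhj (hgt j hjt)] at hcb
      exact hcb
    · refine hc (Finset.mem_image.2 ⟨j, Finset.mem_erase.2 ⟨fun e => hhj (e ▸ hhj0), hj⟩, ?_⟩)
      show (if hne : (bad j).Nonempty then hne.choose else 0) = c
      split_ifs with hne
      · exact hsub j hhj hne.choose_spec hcb
      · exact absurd ⟨c, hcb⟩ hne

end Avoid

theorem pow_mem_of_forall (hgen : Algebra.adjoin A (𝒜 1 : Set B) = ⊤) (D : Subalgebra A T)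
    (hD : D = Algebra.adjoin A (homT 𝒜 d) ⊓ SymTen.TS A B d) (J : Ideal D)
    (key : ∀ Qs : Submodule A T, (1 : T) ∉ Qs →
      (∀ x ∈ Algebra.adjoin A (homT 𝒜 d), ∀ y ∈ Qs, x * y ∈ Qs) →
      (∀ x ∈ Algebra.adjoin A (homT 𝒜 d), ∀ y ∈ Algebra.adjoin A (homT 𝒜 d), x * y ∈ Qs → x ∈ Qs ∨ y ∈ Qs) →
      (∀ x : D, x ∈ J → (x : T) ∈ Qs) →
      ∀ b : Fin d → B, (∀ i, b i ∈ 𝒜 1) → tprod A b ∈ Qs)
    (k : ℕ) (hk : 0 < k) (t : T) (htD : t ∈ D)
    (htk : t ∈ Submodule.span A {s | ∃ b : Fin d → B, (∀ i, b i ∈ 𝒜 k) ∧ s = tprod A b}) :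
    ∃ m : ℕ, 0 < m ∧ (⟨t, htD⟩ : D) ^ m ∈ J := by
  suffices h : (⟨t, htD⟩ : D) ∈ J.radical by
    obtain ⟨m, hm⟩ := h
    exact ⟨m + 1, m.succ_pos, by rw [pow_succ]; exact J.mul_mem_right _ hm⟩
  rw [Ideal.radical_eq_sInf, Ideal.mem_sInf]
  rintro Q ⟨hJQ, hQ⟩
  haveI := hQ
  obtain ⟨Qs, -, h1, hmul, hprime, hiff⟩ := exists_prime_over D hD Q
  refine (hiff _).1 ?_
  show t ∈ Qs
  refine Submodule.span_le.2 ?_ htk
  rintro _ ⟨b, hb, rfl⟩
  by_contra hout
  obtain ⟨x, hx, hxout⟩ := exists_deg_one hgen Qs hmul hk hb hout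
  exact hxout (key Qs h1 hmul hprime (fun y hy => (hiff y).2 (hJQ hy)) x hx)

theorem tpow_mem_D {D : Subalgebra A T} (hD : D = Algebra.adjoin A (homT 𝒜 d) ⊓ SymTen.TS A B d) {n : ℕ} {f : B}
    (hf : f ∈ 𝒜 n) : tprod A (fun _ : Fin d => f) ∈ D := by
  rw [hD]
  exact ⟨tprod_mem_S (fun _ => hf), fun σ => by rw [reindex_tprod]⟩

theorem span_tpow (hgen : Algebra.adjoin A (𝒜 1 : Set B) = ⊤) (D : Subalgebra A T)
    (hD : D = Algebra.adjoin A (homT 𝒜 d) ⊓ SymTen.TS A B d)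
    (k : ℕ) (hk : 0 < k) (t : T) (htD : t ∈ D)
    (htk : t ∈ Submodule.span A {s | ∃ b : Fin d → B, (∀ i, b i ∈ 𝒜 k) ∧ s = tprod A b}) :
    ∃ m : ℕ, 0 < m ∧ (⟨t, htD⟩ : D) ^ m ∈
      Ideal.span {x : D | ∃ (n : ℕ) (f : B), 0 < n ∧ f ∈ 𝒜 n ∧ (x : T) = tprod A (fun _ : Fin d => f)} := by
  refine pow_mem_of_forall hgen D hD _ (fun Qs h1 hmul hprime hJ b hb => ?_) k hk t htD htk
  by_contra hout
  obtain ⟨n, f, hn, hf, hav⟩ := exists_avoid Qs h1 hprime hmul b hb hout Finset.univ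
  exact tpow_notMem Qs h1 hprime hmul b hb hf (fun i => hav i (Finset.mem_univ i))
    (hJ ⟨_, tpow_mem_D hD hf⟩ (Ideal.subset_span ⟨n, f, hn, hf, rfl⟩))

theorem span_tpow_degOne (hgen : Algebra.adjoin A (𝒜 1 : Set B) = ⊤)
    (hres : ∀ p : PrimeSpectrum A, (d : Cardinal) ≤ Cardinal.mk p.asIdeal.ResidueField) (D : Subalgebra A T)
    (hD : D = Algebra.adjoin A (homT 𝒜 d) ⊓ SymTen.TS A B d)
    (k : ℕ) (hk : 0 < k) (t : T) (htD : t ∈ D)
    (htk : t ∈ Submodule.span A {s | ∃ b : Fin d → B, (∀ i, b i ∈ 𝒜 k) ∧ s = tprod A b}) :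
    ∃ m : ℕ, 0 < m ∧ (⟨t, htD⟩ : D) ^ m ∈
      Ideal.span {x : D | ∃ f : B, f ∈ 𝒜 1 ∧ (x : T) = tprod A (fun _ : Fin d => f)} := by
  refine pow_mem_of_forall hgen D hD _ (fun Qs h1 hmul hprime hJ b hb => ?_) k hk t htD htk
  by_contra hout
  obtain ⟨f, hf, hav⟩ := exists_avoid_deg_one Qs h1 hprime b hb hout hres
  exact tpow_notMem Qs h1 hprime hmul b hb hf hav
    (hJ ⟨_, tpow_mem_D hD hf⟩ (Ideal.subset_span ⟨f, hf, rfl⟩))

open MvPolynomial in
theorem span_degOne (hgen : Algebra.adjoin A (𝒜 1 : Set B) = ⊤) (hfg : (𝒜 1).FG) (D : Subalgebra A T)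
    (hD : D = Algebra.adjoin A (homT 𝒜 d) ⊓ SymTen.TS A B d)
    (k : ℕ) (hk : 0 < k) (t : T) (htD : t ∈ D)
    (htk : t ∈ Submodule.span A {s | ∃ b : Fin d → B, (∀ i, b i ∈ 𝒜 k) ∧ s = tprod A b}) :
    ∃ m : ℕ, 0 < m ∧ (⟨t, htD⟩ : D) ^ m ∈
      Ideal.span {x : D | (x : T) ∈ Submodule.span A {s | ∃ b : Fin d → B, (∀ i, b i ∈ 𝒜 1) ∧ s = tprod A b}} := by
  classical
  refine pow_mem_of_forall hgen D hD _ (fun Qs h1 hmul hprime hJ b hb => ?_) k hk t htD htk
  by_contra hout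
  obtain ⟨r, x, hx⟩ := Submodule.fg_iff_exists_fin_generating_family.1 hfg
  have hxm : ∀ j, x j ∈ 𝒜 1 := fun j => hx ▸ Submodule.subset_span ⟨j, rfl⟩
  let S := Algebra.adjoin A (homT 𝒜 d)
  let Q' : Ideal S :=
    { carrier := {z | (z : T) ∈ Qs}
      add_mem' := fun {u v} hu hv => Qs.add_mem hu hv
      zero_mem' := Qs.zero_mem
      smul_mem' := fun c z hz => hmul _ c.2 _ hz }
  haveI : Q'.IsPrime := ⟨fun h => h1 ((Q'.eq_top_iff_one).1 h), fun {u v} huv => hprime _ u.2 _ v.2 huv⟩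
  let π := Ideal.Quotient.mk Q'
  let G : Fin d → Fin r → S ⧸ Q' := fun i j => π ⟨slot (A := A) d b i 1 (x j), slot_mem hb i (hxm j)⟩
  let u : S := ⟨tprod A b, tprod_mem_S hb⟩
  let W : (Fin d → Fin r) → S := fun w => ⟨tprod A (fun i => x (w i)), tprod_mem_S fun i => hxm _⟩
  let mon : (Fin d → Fin r) → (Fin r →₀ ℕ) := fun w => ∑ i, Finsupp.single (w i) 1
  have hP : (∑ w : Fin d → Fin r, monomial (mon w) (π (W w))) = 0 := by
    refine MvPolynomial.ext _ _ fun m => ?_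
    rw [MvPolynomial.coeff_sum, MvPolynomial.coeff_zero]
    simp only [MvPolynomial.coeff_monomial]
    rw [← Finset.sum_filter, ← map_sum, Ideal.Quotient.eq_zero_iff_mem]
    show ((∑ w ∈ Finset.univ.filter (fun w => mon w = m), W w : S) : T) ∈ Qs
    set o : S := ∑ w ∈ Finset.univ.filter (fun w => mon w = m), W w
    have hoD : (o : T) ∈ D := by
      rw [hD]
      refine ⟨o.2, fun σ => ?_⟩
      simp only [o, AddSubmonoidClass.coe_finsetSum, map_sum]
      refine Finset.sum_equiv (σ.arrowCongr (Equiv.refl _)) ?_ ?_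
      · intro w
        simp only [Finset.mem_filter, Finset.mem_univ, true_and]
        have hmon : mon (σ.arrowCongr (Equiv.refl (Fin r)) w) = mon w :=
          Fintype.sum_equiv σ.symm _ _ fun i => rfl
        rw [hmon]
      · intro w _
        simp only [W, reindex_tprod]
        rfl
    refine hJ ⟨_, hoD⟩ (Ideal.subset_span ?_)
    show (o : T) ∈ Submodule.span A {s | ∃ b : Fin d → B, (∀ i, b i ∈ 𝒜 1) ∧ s = tprod A b}
    simp only [o, AddSubmonoidClass.coe_finsetSum]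
    exact Submodule.sum_mem _ fun w _ => Submodule.subset_span ⟨_, fun i => hxm _, rfl⟩
  have hprod : ∏ i, (∑ j, C (G i j) * X j : MvPolynomial (Fin r) (S ⧸ Q')) = 0 := by
    rw [Fintype.prod_sum]
    have hterm : ∀ w : Fin d → Fin r, ∏ i, (C (G i (w i)) * X (w i) : MvPolynomial (Fin r) (S ⧸ Q')) =
        C (π u ^ (d - 1)) * monomial (mon w) (π (W w)) := by
      intro w
      rw [Finset.prod_mul_distrib, ← map_prod, C_mul_monomial]
      have hG : ∏ i, G i (w i) = π u ^ (d - 1) * π (W w) := by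
        simp only [G, ← map_prod, ← map_pow, ← map_mul]
        refine congrArg π (Subtype.ext ?_)
        simp only [SubmonoidClass.coe_finsetProd, Subalgebra.coe_mul, Subalgebra.coe_pow, u, W]
        rw [prod_slot b 1 (fun i => x (w i)), mul_comm]
        simp only [pow_one]
      rw [hG, show (∏ i, X (w i) : MvPolynomial (Fin r) (S ⧸ Q')) = monomial (mon w) 1 from
        (monomial_sum_one _ _).symm, C_mul_monomial, mul_one]
    simp only [hterm, ← Finset.mul_sum, hP, mul_zero]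
  obtain ⟨i, -, hi⟩ := Finset.prod_eq_zero_iff.1 hprod
  have hGi : ∀ j, slot (A := A) d b i 1 (x j) ∈ Qs := by
    intro j
    have h := congrArg (MvPolynomial.coeff (Finsupp.single j 1)) hi
    simp only [coeff_sum, coeff_C_mul, coeff_X, coeff_zero, mul_ite, mul_one, mul_zero] at h
    have h' : G i j = 0 := by simpa [Finsupp.single_left_inj one_ne_zero] using h
    exact Ideal.Quotient.eq_zero_iff_mem.1 h'
  have hbi : slot (A := A) d b i 1 (b i) ∈ Qs := by
    have hle : 𝒜 1 ≤ Qs.comap (slot (A := A) d b i 1) := by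
      rw [← hx, Submodule.span_le]
      rintro _ ⟨j, rfl⟩
      exact hGi j
    exact hle (hb i)
  exact hout (by simpa [slot_apply, Function.update_eq_self_iff.2] using hbi)

end Groth.Agent.GammaD.SymRad26
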