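import Groth.Agent.Lib.GammaD.Norm
import Groth.Agent.Lib.GammaD.Flat

/-! # The universal law into symmetric tensors -/

universe u

open scoped TensorProduct

namespace Groth.Agent.GammaD

variable (A B : Type u) [CommRing A] [CommRing B] [Algebra A B] (d : ℕ)

/-- Orbit sums pushed to `TS B`. -/
noncomputable def hTS : Tpow A (Pres A B) d →ₗ[A] SymTen.TS A B d :=
  ((SymTen.tmap A d (piP A B)).toLinearMap ∘ₗ R).codRestrict (Subalgebra.toSubmodule (SymTen.TS A B d)) fun t => by
    intro σ
    show PiTensorProduct.reindex A _ σ (SymTen.tmap A d (piP A B) (R t)) = _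
    rw [← SymTen.perm_apply, ← tmap_perm, SymTen.perm_apply,
      (SymTen.mem_TS_iff A _ d _).1 (orbP_mem_TS (bP A B) t) σ]
    rfl

theorem hTS_apply (t : Tpow A (Pres A B) d) :
    (hTS A B d t : Tpow A B d) = SymTen.tmap A d (piP A B) (R t) := rfl

theorem datumTS : Datum d (hTS A B d) (SymTen.TS A B d).val.toLinearMap (tlLaw A B d).law where
  inj := Subtype.val_injective
  spec S _ _ y := by
    rw [lTensor_comp', show (SymTen.TS A B d).val.toLinearMap ∘ₗ hTS A B d =
      (SymTen.tmap A d (piP A B)).toLinearMap ∘ₗ R from rfl, ← lTensor_comp', orbP_tl, tmap_tl]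
    rfl

/-- The universal law. -/
noncomputable def tau : PolLaw.MulLaw A B (SymTen.TS A B d) d :=
  (datumTS A B d).mulLaw (tlLaw A B d).mult

theorem tau_val (S : Type u) [CommSemiring S] [Algebra A S] (x : S ⊗[A] B) :
    (SymTen.TS A B d).val.toLinearMap.lTensor S ((tau A B d).law.toFun' S x) = tl A B d S x :=
  (datumTS A B d).val_law S x

theorem tau_tl (S : Type u) [CommSemiring S] [Algebra A S] (y : S ⊗[A] Pres A B) :
    (tau A B d).law.toFun' S ((piP A B).toLinearMap.lTensor S y) = (hTS A B d).lTensor S (tl A _ d S y) :=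
  (datumTS A B d).law_eq S y

theorem hTS_R (t : Tpow A (Pres A B) d) : hTS A B d (R t) = hTS A B d t :=
  Subtype.ext (congrArg (SymTen.tmap A d (piP A B)) (orbP_eq_self (bP A B) (orbP_mem_TS (bP A B) t)))

/-- Universality from surjectivity and the kernel condition. -/
theorem isGammaD_tau (hsurj : Function.Surjective (hTS A B d))
    (hker : ∀ (C : Type u) [CommRing C] [Algebra A C] (F : PolLaw.MulLaw A B C d)
      (t : Tpow A (Pres A B) d), t ∈ SymTen.TS A _ d → SymTen.tmap A d (piP A B) t = 0 → G F t = 0) :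
    PolLaw.IsGammaD (tau A B d) := by
  intro C' _ _ F
  have hle : LinearMap.ker (hTS A B d) ≤ LinearMap.ker (G F) := fun t ht => by
    rw [LinearMap.mem_ker] at ht ⊢
    rw [← G_R F t]
    exact hker C' F _ (orbP_mem_TS (bP A B) t) (congrArg Subtype.val ht)
  let e := (hTS A B d).quotKerEquivOfSurjective hsurj
  let f₀ : SymTen.TS A B d →ₗ[A] C' := (LinearMap.ker (hTS A B d)).liftQ (G F) hle ∘ₗ e.symm.toLinearMap
  have hf : ∀ t, f₀ (hTS A B d t) = G F t := fun t => by
    have : e (Submodule.Quotient.mk t) = hTS A B d t := LinearMap.quotKerEquivOfSurjective_apply_mk _ _ _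
    simp only [f₀, LinearMap.comp_apply, LinearEquiv.coe_coe, ← this, LinearEquiv.symm_apply_apply,
      Submodule.liftQ_apply]
  let f : SymTen.TS A B d →ₐ[A] C' := AlgHom.ofLinearMap f₀
    (by
      have h1 : hTS A B d 1 = 1 := Subtype.ext (by
        rw [hTS_apply, show R (1 : Tpow A (Pres A B) d) = 1 from orbP_eq_self (bP A B) (one_mem _), map_one]
        rfl)
      rw [← h1, hf, G_one])
    (by
      intro x y
      obtain ⟨a, rfl⟩ := hsurj x
      obtain ⟨b, rfl⟩ := hsurj y
      have hab : hTS A B d a * hTS A B d b = hTS A B d (R a * R b) := Subtype.ext (by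
        rw [Subalgebra.coe_mul, hTS_apply, hTS_apply, hTS_apply,
          show R (R a * R b) = R a * R b from orbP_eq_self (bP A B)
            (mul_mem (orbP_mem_TS (bP A B) a) (orbP_mem_TS (bP A B) b)), map_mul])
      rw [hab, hf, hf, hf, G_mul F (orbP_mem_TS (bP A B) a) (orbP_mem_TS (bP A B) b), G_R, G_R])
  refine ⟨f, ?_, ?_⟩
  · refine PolynomialLaw.ext (funext fun S => funext fun _ => funext fun _ => funext fun x => ?_)
    show f.toLinearMap.lTensor S ((tau A B d).law.toFun' S x) = F.law.toFun' S x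
    obtain ⟨y, rfl⟩ := exists_pi_lift S x
    rw [tau_tl, lTensor_comp', ← G_tl]
    congr 1
    exact congrArg _ (LinearMap.ext hf)
  · intro f' hf'
    refine AlgHom.ext fun x => ?_
    obtain ⟨t, rfl⟩ := hsurj x
    have key := eq_on_orbit (bP A B) (f'.toLinearMap ∘ₗ hTS A B d) (G F) fun T => by
      rw [← lTensor_comp', ← tau_tl, G_tl]
      exact congrFun (congrFun (congrFun (congrFun (congrArg PolynomialLaw.toFun' hf') _) _) _) _
    have := LinearMap.congr_fun key t
    simp only [LinearMap.comp_apply] at this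
    rw [hTS_R, G_R] at this
    exact this.trans (hf t).symm

theorem isGammaD_tau_of_isUnit (h : IsUnit ((d.factorial : ℕ) : A)) : PolLaw.IsGammaD (tau A B d) := by
  have hinj : ∀ {M : Type u} [AddCommGroup M] [Module A M] {x : M}, d.factorial • x = 0 → x = 0 := by
    intro M _ _ x hx
    rw [← Nat.cast_smul_eq_nsmul A] at hx
    exact h.smul_eq_zero.1 hx
  refine isGammaD_tau A B d (fun y => ?_) fun C _ _ F t ht h0 => hinj ?_
  · obtain ⟨t, ht⟩ := piT_surjective (A := A) (B := B) (y : Tpow A B d)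
    refine ⟨((h.unit⁻¹ : Aˣ) : A) • symL A _ d t, Subtype.ext ?_⟩
    rw [map_smul, SetLike.val_smul, hTS_apply,
      show R (symL A (Pres A B) d t) = symL A _ d t from orbP_eq_self (bP A B) (symL_mem_TS t),
      symL_apply, map_sum]
    simp only [tmap_perm, ht]
    rw [← symL_apply, symL_eq_smul y.2, ← Nat.cast_smul_eq_nsmul A, smul_smul, IsUnit.val_inv_mul,
      one_smul]
  · have := sT_piT F t
    rw [h0, map_zero, symL_eq_smul ht, map_nsmul] at this
    exact this.symm

theorem G_tmap_linear {C : Type u} [CommRing C] [Algebra A C] (F : PolLaw.MulLaw A B C d)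
    (ℓ : Pres A B →ₗ[A] Pres A B) (T : Finset (B →₀ ℕ))
    (hℓ : ∀ m ∈ T, piP A B (ℓ (bP A B m)) = piP A B (bP A B m)) :
    (G F ∘ₗ pmap d ℓ).lTensor (MvPolynomial (B →₀ ℕ) A) (tl A _ d _ (gen (bP A B) T)) =
      (G F).lTensor (MvPolynomial (B →₀ ℕ) A) (tl A _ d _ (gen (bP A B) T)) := by
  classical
  have e : (pmap d ℓ).lTensor (MvPolynomial (B →₀ ℕ) A) (tl A _ d _ (gen (bP A B) T)) =
      tl A _ d _ (∑ m ∈ T, MvPolynomial.X m ⊗ₜ[A] ℓ (bP A B m)) := by
    rw [gen, tl_sum, tl_sum, map_sum]
    exact Finset.sum_congr rfl fun c _ => by simp [pmap]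
  rw [← lTensor_comp', e, G_tl, G_tl, gen]
  congr 1
  simp only [map_sum, LinearMap.lTensor_tmul]
  exact Finset.sum_congr rfl fun m hm => by rw [AlgHom.toLinearMap_apply, AlgHom.toLinearMap_apply, hℓ m hm]

theorem pmap_reindex {X Y : Type u} [AddCommGroup X] [Module A X] [AddCommGroup Y] [Module A Y]
    (f : X →ₗ[A] Y) (σ : Equiv.Perm (Fin d)) (t : ⨂[A] _ : Fin d, X) :
    pmap d f (PiTensorProduct.reindex A (fun _ : Fin d => X) σ t) =
      PiTensorProduct.reindex A (fun _ : Fin d => Y) σ (pmap d f t) := by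
  induction t using PiTensorProduct.induction_on with
  | smul_tprod r g => simp [pmap, PiTensorProduct.reindex_tprod]
  | add x y hx hy => simp only [map_add, hx, hy]

theorem tmap_eq_pmap {P Q : Type u} [CommRing P] [Algebra A P] [CommRing Q] [Algebra A Q] (f : P →ₐ[A] Q)
    (t : Tpow A P d) : SymTen.tmap A d f t = pmap d f.toLinearMap t := by
  induction t using PiTensorProduct.induction_on with
  | smul_tprod r g => simp [pmap]
  | add x y hx hy => simp only [map_add, hx, hy]

theorem exists_kill_zero [Module.Flat A B] {F : Type u} [AddCommGroup F] [Module A F] [Module.Free A F]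
    [Module.Finite A F] (a : F →ₗ[A] B) (w : ⨂[A] _ : Fin d, F) (hw : pmap d a w = 0) :
    ∃ (F' : Type u) (_ : AddCommGroup F') (_ : Module A F') (_ : Module.Free A F') (_ : Module.Finite A F')
      (a₁ : F →ₗ[A] F') (a₂ : F' →ₗ[A] B), a = a₂ ∘ₗ a₁ ∧ pmap d a₁ w = 0 := by
  obtain ⟨F', i₁, i₂, i₃, i₄, a₁, a₂, h1, h2⟩ := exists_kill d (N := A) a ((1 : A) ⊗ₜ[A] w)
    (by rw [LinearMap.lTensor_tmul, hw, TensorProduct.tmul_zero])
  refine ⟨F', i₁, i₂, i₃, i₄, a₁, a₂, h1, ?_⟩
  rw [LinearMap.lTensor_tmul] at h2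
  have := congrArg (TensorProduct.lid A _) h2
  simpa using this

theorem exists_fin_lift {X : Type u} [AddCommGroup X] [Module A X] (t : ⨂[A] _ : Fin d, X) :
    ∃ (s : Finset X) (w : ⨂[A] _ : Fin d, (↥s → A)),
      pmap d (Fintype.linearCombination A fun i : ↥s => (i : X)) w = t := by
  classical
  induction t using PiTensorProduct.induction_on with
  | smul_tprod r g =>
    refine ⟨Finset.univ.image g, r • PiTensorProduct.tprod A fun i =>
      Pi.single (⟨g i, Finset.mem_image_of_mem g (Finset.mem_univ i)⟩ : ↥(Finset.univ.image g)) (1 : A), ?_⟩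
    simp only [map_smul, pmap, PiTensorProduct.map_tprod]
    congr 2
    funext i
    simp [Fintype.linearCombination_apply_single]
  | add x y hx hy =>
    obtain ⟨s, w, rfl⟩ := hx
    obtain ⟨s', w', rfl⟩ := hy
    have ext' : ∀ {s s' : Finset X} (h : s ⊆ s'),
        ∃ j : (↥s → A) →ₗ[A] (↥s' → A), Fintype.linearCombination A (fun i : ↥s => (i : X)) =
          Fintype.linearCombination A (fun i : ↥s' => (i : X)) ∘ₗ j := by
      intro s s' h
      refine ⟨Fintype.linearCombination A fun i : ↥s => Pi.single (⟨i.1, h i.2⟩ : ↥s') (1 : A),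
        LinearMap.pi_ext fun i x => ?_⟩
      simp [Fintype.linearCombination_apply_single, LinearMap.comp_apply, map_smul]
    obtain ⟨j, hj⟩ := ext' (Finset.subset_union_left (s₁ := s) (s₂ := s'))
    obtain ⟨j', hj'⟩ := ext' (Finset.subset_union_right (s₁ := s) (s₂ := s'))
    exact ⟨s ∪ s', pmap d j w + pmap d j' w', by rw [map_add, ← pmap_comp, ← pmap_comp, ← hj, ← hj']⟩

theorem exists_invariant_stage [Module.Flat A B] {y : Tpow A B d} (hy : y ∈ SymTen.TS A B d) :
    ∃ (F : Type u) (_ : AddCommGroup F) (_ : Module A F) (_ : Module.Free A F) (_ : Module.Finite A F)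
      (a : F →ₗ[A] B) (w : ⨂[A] _ : Fin d, F), pmap d a w = y ∧
        ∀ σ : Equiv.Perm (Fin d), PiTensorProduct.reindex A (fun _ : Fin d => F) σ w = w := by
  classical
  suffices ∀ s : Finset (Equiv.Perm (Fin d)),
      ∃ (F : Type u) (_ : AddCommGroup F) (_ : Module A F) (_ : Module.Free A F) (_ : Module.Finite A F)
      (a : F →ₗ[A] B) (w : ⨂[A] _ : Fin d, F), pmap d a w = y ∧
        ∀ σ ∈ s, PiTensorProduct.reindex A (fun _ : Fin d => F) σ w = w by
    obtain ⟨F, i₁, i₂, i₃, i₄, a, w, h1, h2⟩ := this Finset.univ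
    exact ⟨F, i₁, i₂, i₃, i₄, a, w, h1, fun σ => h2 σ (Finset.mem_univ _)⟩
  intro s
  induction s using Finset.induction_on with
  | empty =>
    obtain ⟨s, w, hw⟩ := exists_fin_lift A d y
    exact ⟨↥s → A, inferInstance, inferInstance, inferInstance, inferInstance, _, w, hw,
      fun σ hσ => absurd hσ (Finset.notMem_empty σ)⟩
  | insert σ s hs ih =>
    obtain ⟨F, _, _, _, _, a, w, hw, hinv⟩ := ih
    have hz : pmap d a (PiTensorProduct.reindex A (fun _ : Fin d => F) σ w - w) = 0 := by
      rw [map_sub, pmap_reindex, hw, (SymTen.mem_TS_iff A B d y).1 hy σ, sub_self]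
    obtain ⟨F', i₁, i₂, i₃, i₄, a₁, a₂, rfl, hk⟩ := exists_kill_zero A B d a _ hz
    refine ⟨F', i₁, i₂, i₃, i₄, a₂, pmap d a₁ w, by rw [← pmap_comp, hw], fun τ hτ => ?_⟩
    rcases Finset.mem_insert.1 hτ with rfl | hτ
    · rw [map_sub, sub_eq_zero] at hk
      rw [← pmap_reindex, hk]
    · rw [← pmap_reindex, hinv τ hτ]

theorem isGammaD_tau_of_flat [Module.Flat A B] : PolLaw.IsGammaD (tau A B d) := by
  classical
  refine isGammaD_tau A B d (fun y => ?_) fun C _ _ F t ht h0 => ?_
  · obtain ⟨V, _, _, _, _, a, w, hw, hinv⟩ := exists_invariant_stage A B d y.2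
    obtain ⟨ℓ, hℓ⟩ := Module.projective_lifting_property (piP A B).toLinearMap a piP_surjective
    refine ⟨pmap d ℓ w, Subtype.ext ?_⟩
    have hmem : pmap d ℓ w ∈ SymTen.TS A (Pres A B) d := fun σ => by rw [← pmap_reindex, hinv]
    rw [hTS_apply, show R (pmap d ℓ w) = pmap d ℓ w from orbP_eq_self (bP A B) hmem, tmap_eq_pmap,
      ← pmap_comp, hℓ, hw]
  · -- only finitely many basis vectors occur
    let T0 : Finset (B →₀ ℕ) :=
      ((Basis.piTensorProduct fun _ : Fin d => bP A B).repr t).support.biUnion fun c => Finset.univ.image c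
    let V := ↥T0 → A
    let inc : V →ₗ[A] Pres A B := Fintype.linearCombination A fun m : ↥T0 => bP A B (m : B →₀ ℕ)
    let prj : Pres A B →ₗ[A] V := (bP A B).constr A fun m =>
      if h : m ∈ T0 then Pi.single (⟨m, h⟩ : ↥T0) (1 : A) else 0
    have hinc : ∀ j : ↥T0, inc (Pi.single j (1 : A)) = bP A B (j : B →₀ ℕ) := fun j =>
      (Fintype.linearCombination_apply_single A _ j (1 : A)).trans (one_smul A _)
    have ht' : pmap d inc (pmap d prj t) = t := by
      rw [← pmap_comp]
      set β := Basis.piTensorProduct fun _ : Fin d => bP A B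
      conv_rhs => rw [← β.linearCombination_repr t]
      conv_lhs => rw [← β.linearCombination_repr t]
      rw [Finsupp.linearCombination_apply, Finsupp.sum, map_sum]
      refine Finset.sum_congr rfl fun c hc => ?_
      rw [map_smul]
      congr 1
      simp only [β, Basis.piTensorProduct_apply, pmap, PiTensorProduct.map_tprod]
      congr 1
      funext i
      have hi : c i ∈ T0 := Finset.mem_biUnion.2 ⟨c, hc, Finset.mem_image_of_mem c (Finset.mem_univ i)⟩
      simp [prj, hi, hinc]
    have hz : pmap d ((piP A B).toLinearMap ∘ₗ inc) (pmap d prj t) = 0 := by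
      rw [pmap_comp, ht', ← tmap_eq_pmap, h0]
    obtain ⟨V', _, _, _, _, a₁, a₂, he, hk⟩ := exists_kill_zero A B d _ _ hz
    obtain ⟨ℓ', hℓ'⟩ := Module.projective_lifting_property (piP A B).toLinearMap a₂ piP_surjective
    let ℓ : Pres A B →ₗ[A] Pres A B := ℓ' ∘ₗ a₁ ∘ₗ prj + (LinearMap.id - inc ∘ₗ prj)
    have hℓ : ∀ m, piP A B (ℓ (bP A B m)) = piP A B (bP A B m) := by
      intro m
      have h1 := LinearMap.congr_fun hℓ' (a₁ (prj (bP A B m)))
      have h2 := LinearMap.congr_fun he (prj (bP A B m))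
      simp only [LinearMap.comp_apply, AlgHom.toLinearMap_apply] at h1 h2
      simp only [ℓ, LinearMap.add_apply, LinearMap.sub_apply, LinearMap.comp_apply, LinearMap.id_apply,
        map_add, map_sub, h1, ← h2]
      ring
    have key := eq_on_orbit (bP A B) (G F ∘ₗ pmap d ℓ) (G F) fun T => G_tmap_linear A B d F ℓ T fun m _ => hℓ m
    have h3 := LinearMap.congr_fun key t
    rw [LinearMap.comp_apply, LinearMap.comp_apply, LinearMap.comp_apply, orbP_eq_self (bP A B) ht] at h3
    have hℓt : pmap d ℓ t = pmap d ℓ' (pmap d a₁ (pmap d prj t)) := by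
      rw [← pmap_comp, ← pmap_comp]
      conv_lhs => rw [← ht', ← pmap_comp, ← pmap_comp]
      conv_rhs => rw [← ht', ← pmap_comp, ← pmap_comp]
      congr 2
      refine (bP A B).ext fun m => ?_
      have hpi : prj (inc (prj (bP A B m))) = prj (bP A B m) := by
        by_cases h : m ∈ T0 <;> simp [prj, h, hinc]
      simp only [ℓ, LinearMap.comp_apply, LinearMap.add_apply, LinearMap.sub_apply, LinearMap.id_apply]
      rw [hpi, sub_self, add_zero]
    rw [hℓt, hk, map_zero, map_zero] at h3
    exact h3.symm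

end Groth.Agent.GammaD
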