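import Groth.Agent.Lib.GammaD.Norm
import Groth.Agent.Lib.UnivHomeoRing26.Subalg

/-! # The comparison `Γ^d → TS^d` is a universal homeomorphism with trivial residue fields -/

universe u

open CategoryTheory AlgebraicGeometry TensorProduct

namespace Groth.Agent.GammaD

variable {A B C : Type u} [CommRing A] [CommRing B] [Algebra A B] [CommRing C] [Algebra A C] {d : ℕ}

/-- The tensor power is integral over the symmetric tensors. -/
theorem isIntegral_val : ((SymTen.TS A B d).val.toRingHom).IsIntegral := by
  classical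
  intro t
  let F : Polynomial (Tpow A B d) :=
    ∏ σ : Equiv.Perm (Fin d), (Polynomial.X - Polynomial.C (SymTen.perm A B d σ t))
  have hF : F.Monic := Polynomial.monic_prod_of_monic _ _ fun σ _ => Polynomial.monic_X_sub_C _
  have hl : F ∈ Polynomial.lifts (SymTen.TS A B d).val.toRingHom := by
    rw [Polynomial.lifts_iff_coeff_lifts]
    intro n
    refine ⟨⟨F.coeff n, fun τ => ?_⟩, rfl⟩
    rw [← SymTen.perm_apply]
    show (SymTen.perm A B d τ).toRingHom (F.coeff n) = _
    rw [← Polynomial.coeff_map, Polynomial.map_prod]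
    congr 1
    refine Fintype.prod_equiv (Equiv.mulLeft τ) _ _ fun σ => ?_
    rw [Polynomial.map_sub, Polynomial.map_X, Polynomial.map_C]
    congr 2
    exact perm_perm τ σ t
  rcases subsingleton_or_nontrivial (Tpow A B d) with hsub | hnt
  · exact ⟨Polynomial.X, Polynomial.monic_X, Subsingleton.elim _ _⟩
  obtain ⟨G, hG, -, hGm⟩ := Polynomial.lifts_and_degree_eq_and_monic hl hF
  refine ⟨G, hGm, ?_⟩
  rw [← Polynomial.eval_map, hG, Polynomial.eval_prod]
  refine Finset.prod_eq_zero (Finset.mem_univ 1) ?_
  rw [Polynomial.eval_sub, Polynomial.eval_X, Polynomial.eval_C, SymTen.perm_apply]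
  have : ∀ s, PiTensorProduct.reindex A (fun _ : Fin d => B) (1 : Equiv.Perm (Fin d)) s = s := fun s => by
    induction s using PiTensorProduct.induction_on with
    | smul_tprod r g => simp [PiTensorProduct.reindex_tprod]; rfl
    | add x y hx hy => simp [hx, hy]
  rw [this, sub_self]

variable {γ : PolLaw.MulLaw A B C d} {φ : C →ₐ[A] SymTen.TS A B d}

section points

theorem comap_bijective (hγ : PolLaw.IsGammaD γ) (hc : IsCompare γ φ) :
    Function.Bijective (PrimeSpectrum.comap φ.toRingHom) := by
  obtain ⟨hker, hpow⟩ := pow_factorial hγ hc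
  refine ⟨fun Q Q' h => PrimeSpectrum.ext (Ideal.ext fun y => ?_), fun P => ?_⟩
  · obtain ⟨c, hcy⟩ := hpow y
    have h' : c ∈ Q.asIdeal.comap φ.toRingHom ↔ c ∈ Q'.asIdeal.comap φ.toRingHom := by
      rw [show Q.asIdeal.comap φ.toRingHom = Q'.asIdeal.comap φ.toRingHom from congrArg PrimeSpectrum.asIdeal h]
    rw [← Q.2.pow_mem_iff_mem d.factorial (Nat.factorial_pos d),
      ← Q'.2.pow_mem_iff_mem d.factorial (Nat.factorial_pos d), ← hcy]
    exact h'
  · letI := φ.toRingHom.toAlgebra
    haveI : Algebra.IsIntegral C (SymTen.TS A B d) := ⟨fun y => by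
      obtain ⟨c, hcy⟩ := hpow y
      exact IsIntegral.of_pow (Nat.factorial_pos d) (hcy ▸ (isIntegral_algebraMap : IsIntegral C (algebraMap C _ c)))⟩
    obtain ⟨Q, -, hQ, e⟩ := Ideal.exists_ideal_over_prime_of_isIntegral P.asIdeal (⊥ : Ideal (SymTen.TS A B d))
      (fun x hx => P.2.mem_of_pow_mem d.factorial ((hker x hx) ▸ zero_mem _))
    exact ⟨⟨Q, hQ⟩, PrimeSpectrum.ext e⟩

/-- Field-valued points are determined by their restriction to `Γ^d`. -/
theorem point_ext (hγ : PolLaw.IsGammaD γ) (hc : IsCompare γ φ) {L : Type u} [Field L]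
    (g₁ g₂ : SymTen.TS A B d →+* L) (h : g₁.comp φ.toRingHom = g₂.comp φ.toRingHom) : g₁ = g₂ := by
  obtain ⟨F, hF, -⟩ := exists_normLaw hγ hc
  letI : Algebra A L := (g₁.comp (algebraMap A (SymTen.TS A B d))).toAlgebra
  let x₁ : SymTen.TS A B d →ₐ[A] L := { g₁ with commutes' := fun _ => rfl }
  let x₂ : SymTen.TS A B d →ₐ[A] L :=
    { g₂ with
      commutes' := fun a => by
        show g₂ (algebraMap A _ a) = g₁ (algebraMap A _ a)
        rw [← φ.commutes a]
        exact (RingHom.congr_fun h _).symm }
  let ev (x : SymTen.TS A B d →ₐ[A] L) : Polynomial A ⊗[A] SymTen.TS A B d →ₐ[A] Polynomial L :=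
    Algebra.TensorProduct.lift (Polynomial.mapAlgHom (Algebra.ofId A L))
      ((Polynomial.CAlgHom (R := A) (A := L)).comp x) fun _ _ => Commute.all _ _
  refine RingHom.ext fun y => ?_
  let z : Polynomial A ⊗[A] SymTen.TS A B d := (1 : Polynomial A) ⊗ₜ[A] y + Polynomial.X ⊗ₜ[A] 1
  have hz : φ.toLinearMap.lTensor (Polynomial A) (F.law.toFun' (Polynomial A) z) = z ^ d.factorial :=
    congrFun (congrArg (fun L : PolLaw.MulLaw A (SymTen.TS A B d) (SymTen.TS A B d) d.factorial =>
      L.law.toFun' (Polynomial A)) hF) z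
  have heq : ∀ u : Polynomial A ⊗[A] C, ev x₁ (φ.toLinearMap.lTensor _ u) = ev x₂ (φ.toLinearMap.lTensor _ u) := by
    intro u
    induction u using TensorProduct.induction_on with
    | zero => simp only [map_zero]
    | tmul p c =>
      simp only [LinearMap.lTensor_tmul, ev, Algebra.TensorProduct.lift_tmul, AlgHom.comp_apply]
      rw [show x₁ (φ.toLinearMap c) = x₂ (φ.toLinearMap c) from RingHom.congr_fun h c]
    | add u v hu hv => simp only [map_add, hu, hv]
  have h1 := heq (F.law.toFun' (Polynomial A) z)
  rw [hz, map_pow, map_pow] at h1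
  have hev : ∀ x : SymTen.TS A B d →ₐ[A] L, ev x z = Polynomial.C (x y) + Polynomial.X := fun x => by
    simp [ev, z]
  rw [hev, hev] at h1
  have h2 := congrArg (Polynomial.eval (-(g₁ y))) h1
  simp only [Polynomial.eval_pow, Polynomial.eval_add, Polynomial.eval_C, Polynomial.eval_X,
    show x₁ y = g₁ y from rfl, show x₂ y = g₂ y from rfl, add_neg_cancel,
    zero_pow (Nat.factorial_pos d).ne'] at h2
  exact (add_neg_eq_zero.1 (eq_zero_of_pow_eq_zero h2.symm)).symm

/-- The values of a point of `TS^d` lie in every subfield containing its values on `Γ^d`. -/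
theorem mem_subfield (hd : 0 < d) (hc : IsCompare γ φ) {L : Type u} [Field L] [Algebra A L]
    (y : Tpow A B d →ₐ[A] L) (k : Subfield L) (hk : ∀ c, y (φ c : Tpow A B d) ∈ k) (t : SymTen.TS A B d) :
    y (t : Tpow A B d) ∈ k := by
  classical
  have hA : ∀ a, algebraMap A L a ∈ k := fun a => by
    have := hk (algebraMap A C a)
    rwa [φ.commutes, Subalgebra.coe_algebraMap, y.commutes] at this
  letI : Algebra A k := ((algebraMap A L).codRestrict k hA).toAlgebra
  haveI : IsScalarTower A k L := IsScalarTower.of_algebraMap_eq fun a => rfl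
  let yi (i : Fin d) : B →ₐ[A] L := y.comp (PiTensorProduct.singleAlgHom (R := A) (A := fun _ : Fin d => B) i)
  let Y (i : Fin d) : k ⊗[A] B →ₐ[k] L :=
    Algebra.TensorProduct.lift (Algebra.ofId k L) (yi i) fun _ _ => Commute.all _ _
  haveI : Nontrivial (k ⊗[A] B) := (Y ⟨0, hd⟩).toRingHom.domain_nontrivial
  let bV := Module.Basis.ofVectorSpace k (k ⊗[A] B)
  haveI : Nonempty (Module.Basis.ofVectorSpaceIndex k (k ⊗[A] B)) := bV.index_nonempty
  let y' : Tpow k (k ⊗[A] B) d →ₐ[k] L := PiTensorProduct.liftAlgHom
    ((MultilinearMap.mkPiAlgebra k (Fin d) L).compLinearMap fun i => (Y i).toLinearMap)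
    (by simp) (fun u v => by simp [Finset.prod_mul_distrib])
  have hy' : ∀ g : Fin d → k ⊗[A] B, y' (PiTensorProduct.tprod k g) = ∏ i, Y i (g i) := fun g => by
    simp [y']
  let f : Tpow A B d →ₐ[A] Tpow k (k ⊗[A] B) d := PiTensorProduct.liftAlgHom
    (((PiTensorProduct.tprod k).restrictScalars A).compLinearMap
      fun _ => (Algebra.TensorProduct.includeRight : B →ₐ[A] k ⊗[A] B).toLinearMap)
    (by simp [PiTensorProduct.one_def]; rfl) (fun u v => by
      simp [PiTensorProduct.tprod_mul_tprod]
      exact congrArg _ (funext fun i => by simp))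
  have hf : ∀ g : Fin d → B, f (PiTensorProduct.tprod A g) = PiTensorProduct.tprod k fun i => (1 : k) ⊗ₜ[A] g i :=
    fun g => by simp [f]
  have hyf : ∀ s, (y'.restrictScalars A) (f s) = y s := by
    intro s
    induction s using PiTensorProduct.induction_on with
    | smul_tprod r g =>
      rw [map_smul, map_smul, hf, map_smul, AlgHom.restrictScalars_apply, hy']
      congr 1
      rw [← prod_single g, map_prod]
      refine Finset.prod_congr rfl fun i _ => ?_
      simp [Y, yi]
    | add u v hu hv => simp [map_add, hu, hv]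
  have hinv : f (t : Tpow A B d) ∈ SymTen.TS k (k ⊗[A] B) d := by
    intro σ
    have hcomm : ∀ s, f (PiTensorProduct.reindex A (fun _ : Fin d => B) σ s) =
        PiTensorProduct.reindex k (fun _ : Fin d => k ⊗[A] B) σ (f s) := by
      intro s
      induction s using PiTensorProduct.induction_on with
      | smul_tprod r g =>
        rw [map_smul, map_smul, map_smul, PiTensorProduct.reindex_tprod, hf, hf, ← algebraMap_smul k r,
          ← algebraMap_smul k r, map_smul, PiTensorProduct.reindex_tprod]
      | add u v hu hv => simp [map_add, hu, hv]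
    rw [← hcomm, t.2 σ]
  rw [← hyf, AlgHom.restrictScalars_apply, ← orbP_eq_self bV hinv]
  suffices h : ∀ u, y' (orbP d bV u) ∈ k from h _
  intro u
  induction u using PiTensorProduct.induction_on with
  | add a b ha hb => rw [map_add, map_add]; exact add_mem ha hb
  | smul_tprod r g =>
    rw [map_smul, map_smul, Algebra.smul_def]
    refine mul_mem (SetLike.coe_mem r) ?_
    have hexp : PiTensorProduct.tprod k g ∈
        Submodule.span k (Set.range fun c : Fin d → _ => PiTensorProduct.tprod k fun i => bV (c i)) := by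
      have hb := (Basis.piTensorProduct fun _ : Fin d => bV).mem_span (PiTensorProduct.tprod k g)
      rwa [show ⇑(Basis.piTensorProduct fun _ : Fin d => bV) = fun c =>
        PiTensorProduct.tprod k fun i => bV (c i) from
        funext fun c => Basis.piTensorProduct_apply (fun _ : Fin d => bV) c] at hb
    generalize PiTensorProduct.tprod k g = w0 at hexp ⊢
    induction hexp using Submodule.span_induction with
    | zero => rw [map_zero, map_zero]; exact zero_mem _
    | add a b _ _ ha hb => rw [map_add, map_add]; exact add_mem ha hb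
    | smul r a _ ha => rw [map_smul, map_smul, Algebra.smul_def]; exact mul_mem (SetLike.coe_mem r) ha
    | mem a ha =>
      obtain ⟨c, rfl⟩ := ha
      rw [orbP, ghat_tprod]
      split_ifs with hrep
      swap
      · rw [map_zero]; exact zero_mem _
      set o := cnt c
      -- read the coefficient after applying the point
      let M := Module.Basis.ofVectorSpaceIndex k (k ⊗[A] B)
      let Ξ' : MvPolynomial M k ⊗[k] Tpow k (k ⊗[A] B) d →ₐ[k] MvPolynomial M L :=
        Algebra.TensorProduct.lift (MvPolynomial.mapAlgHom (Algebra.ofId k L))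
          ((IsScalarTower.toAlgHom k L (MvPolynomial M L)).comp y') fun _ _ => Commute.all _ _
      have hΞ : ∀ z, y' (coefT o z) = MvPolynomial.coeff o (Ξ' z) := by
        intro z
        induction z using TensorProduct.induction_on with
        | zero => simp only [map_zero, MvPolynomial.coeff_zero]
        | tmul p s =>
          rw [coefT_tmul, map_smul, Algebra.smul_def]
          simp only [Ξ', Algebra.TensorProduct.lift_tmul, AlgHom.comp_apply, IsScalarTower.coe_toAlgHom',
            MvPolynomial.algebraMap_eq]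
          rw [mul_comm _ (MvPolynomial.C _), MvPolynomial.coeff_C_mul, mul_comm]
          congr 1
        | add a b ha hb => simp only [map_add, MvPolynomial.coeff_add, ha, hb]
      show y' (coefT o (tl k (k ⊗[A] B) d (MvPolynomial M k) (gen bV o.support))) ∈ k
      rw [hΞ, tl, map_prod]
      -- every factor comes from `k[X] ⊗[A] B`
      letI : Algebra A (MvPolynomial M k) := inferInstance
      let Z (i : Fin d) : MvPolynomial M k ⊗[k] (k ⊗[A] B) →ₐ[k] MvPolynomial M L :=
        Ξ'.comp (Algebra.TensorProduct.map (AlgHom.id k (MvPolynomial M k))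
          (PiTensorProduct.singleAlgHom (R := k) (A := fun _ : Fin d => k ⊗[A] B) i))
      let Ψ (i : Fin d) : MvPolynomial M k ⊗[A] B →ₐ[A] MvPolynomial M L :=
        Algebra.TensorProduct.lift ((MvPolynomial.mapAlgHom (Algebra.ofId k L)).restrictScalars A)
          ((IsScalarTower.toAlgHom A L (MvPolynomial M L)).comp (yi i)) fun _ _ => Commute.all _ _
      have hw : ∀ z, ∃ w, ∀ i, Z i z = Ψ i w := by
        intro z
        induction z using TensorProduct.induction_on with
        | zero => exact ⟨0, fun i => by rw [map_zero, map_zero]⟩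
        | add a b ha hb =>
          obtain ⟨wa, hwa⟩ := ha
          obtain ⟨wb, hwb⟩ := hb
          exact ⟨wa + wb, fun i => by rw [map_add, map_add, hwa, hwb]⟩
        | tmul p v =>
          induction v using TensorProduct.induction_on with
          | zero => exact ⟨0, fun i => by rw [TensorProduct.tmul_zero, map_zero, map_zero]⟩
          | add a b ha hb =>
            obtain ⟨wa, hwa⟩ := ha
            obtain ⟨wb, hwb⟩ := hb
            exact ⟨wa + wb, fun i => by rw [TensorProduct.tmul_add, map_add, map_add, hwa, hwb]⟩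
          | tmul s b =>
            refine ⟨(s • p) ⊗ₜ[A] b, fun i => ?_⟩
            have e1 : y' (PiTensorProduct.singleAlgHom (R := k) (A := fun _ : Fin d => k ⊗[A] B) i (s ⊗ₜ[A] b)) =
                algebraMap k L s * yi i b := by
              show y' (PiTensorProduct.tprod k (MonoidHom.mulSingle (fun _ : Fin d => k ⊗[A] B) i (s ⊗ₜ[A] b))) = _
              rw [hy', Finset.prod_eq_single i (fun j _ hj => by
                rw [MonoidHom.mulSingle_apply, Pi.mulSingle_eq_of_ne hj, map_one]) (fun h => absurd (Finset.mem_univ i) h),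
                MonoidHom.mulSingle_apply, Pi.mulSingle_eq_same]
              simp [Y]
            simp only [Z, Ψ, Ξ', AlgHom.comp_apply, Algebra.TensorProduct.map_tmul, AlgHom.id_apply,
              Algebra.TensorProduct.lift_tmul, IsScalarTower.coe_toAlgHom', AlgHom.restrictScalars_apply, e1,
              map_mul, map_smul]
            rw [Algebra.smul_def, IsScalarTower.algebraMap_apply k L (MvPolynomial M L)]
            ring
      obtain ⟨w, hw⟩ := hw (gen bV o.support)
      refine (congrArg (fun q => MvPolynomial.coeff o q)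
        (Finset.prod_congr rfl fun i _ => hw i)).symm ▸ (?_ : MvPolynomial.coeff o (∏ i, Ψ i w) ∈ k)
      let Ξ : MvPolynomial M k ⊗[A] Tpow A B d →ₐ[A] MvPolynomial M L :=
        Algebra.TensorProduct.lift ((MvPolynomial.mapAlgHom (Algebra.ofId k L)).restrictScalars A)
          ((IsScalarTower.toAlgHom A L (MvPolynomial M L)).comp y) fun _ _ => Commute.all _ _
      have e2 : ∏ i, Ψ i w = Ξ (tl A B d (MvPolynomial M k) w) := by
        rw [tl, map_prod]
        refine Finset.prod_congr rfl fun i _ => ?_
        clear hw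
        induction w using TensorProduct.induction_on with
        | zero => simp only [map_zero]
        | tmul p b => simp only [Ψ, Ξ, yi, Algebra.TensorProduct.map_tmul, AlgHom.id_apply,
            Algebra.TensorProduct.lift_tmul, AlgHom.comp_apply]
        | add a b ha hb => simp only [map_add, ha, hb]
      rw [e2, ← hc (MvPolynomial M k) w]
      generalize γ.law.toFun' (MvPolynomial M k) w = q
      induction q using TensorProduct.induction_on with
      | zero => rw [map_zero, map_zero, MvPolynomial.coeff_zero]; exact zero_mem _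
      | add a b ha hb => rw [map_add, map_add, MvPolynomial.coeff_add]; exact add_mem ha hb
      | tmul p c =>
        simp only [Ξ, LinearMap.lTensor_tmul, Algebra.TensorProduct.lift_tmul, AlgHom.comp_apply,
          IsScalarTower.coe_toAlgHom', MvPolynomial.algebraMap_eq]
        rw [mul_comm, MvPolynomial.coeff_C_mul]
        refine mul_mem (hk c) ?_
        show MvPolynomial.coeff o (MvPolynomial.map (algebraMap k L) p) ∈ k
        rw [MvPolynomial.coeff_map]
        exact SetLike.coe_mem _

/-- Residue fields do not grow. -/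
theorem surjective_residueField (hd : 0 < d) (hc : IsCompare γ φ) (Q : PrimeSpectrum (SymTen.TS A B d)) :
    Function.Surjective
      (Ideal.ResidueField.map (PrimeSpectrum.comap φ.toRingHom Q).asIdeal Q.asIdeal φ.toRingHom rfl) := by
  let Ω := AlgebraicClosure Q.asIdeal.ResidueField
  let i := algebraMap Q.asIdeal.ResidueField Ω
  let r := Ideal.ResidueField.map (PrimeSpectrum.comap φ.toRingHom Q).asIdeal Q.asIdeal φ.toRingHom rfl
  let g := i.comp (algebraMap (SymTen.TS A B d) Q.asIdeal.ResidueField)
  obtain ⟨h, hh⟩ := UnivHomeoRing26.exists_extend (SymTen.TS A B d).val.toRingHom Subtype.val_injective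
    isIntegral_val g
  letI : Algebra A Ω := (h.comp (algebraMap A (Tpow A B d))).toAlgebra
  let y : Tpow A B d →ₐ[A] Ω := { h with commutes' := fun _ => rfl }
  have hk : ∀ c, y (φ c : Tpow A B d) ∈ (i.comp r).fieldRange := fun c => by
    refine RingHom.mem_fieldRange.2 ⟨algebraMap C _ c, ?_⟩
    show i (r (algebraMap C _ c)) = h ((SymTen.TS A B d).val.toRingHom (φ c))
    rw [show r (algebraMap C _ c) = algebraMap (SymTen.TS A B d) Q.asIdeal.ResidueField (φ c) from
      Ideal.ResidueField.map_algebraMap _ _ φ.toRingHom rfl c]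
    exact (RingHom.congr_fun hh (φ c)).symm
  have hmem : ∀ t, algebraMap (SymTen.TS A B d) Q.asIdeal.ResidueField t ∈ r.range := fun t => by
    obtain ⟨z, hz⟩ := RingHom.mem_fieldRange.1 (mem_subfield hd hc y _ hk t)
    exact ⟨z, i.injective (hz.trans (RingHom.congr_fun hh t))⟩
  intro z
  obtain ⟨a, b, -, rfl⟩ := IsFractionRing.div_surjective (SymTen.TS A B d ⧸ Q.asIdeal) z
  obtain ⟨a, rfl⟩ := Ideal.Quotient.mk_surjective a
  obtain ⟨b, rfl⟩ := Ideal.Quotient.mk_surjective b
  obtain ⟨a', ha⟩ := hmem a
  obtain ⟨b', hb⟩ := hmem b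
  exact ⟨a' / b', by rw [map_div₀]; exact congrArg₂ (· / ·) ha hb⟩

theorem isUnivHomeo (hγ : PolLaw.IsGammaD γ) (hc : IsCompare γ φ) :
    FlatMor.IsUnivHomeo (Spec.map (CommRingCat.ofHom φ.toRingHom)) := by
  refine UnivHomeoRing26.isUnivHomeo_of _ (fun y => ?_) (comap_bijective hγ hc).2
    fun L _ g₁ g₂ h => point_ext hγ hc g₁ g₂ h
  obtain ⟨c, hcy⟩ := (pow_factorial hγ hc).2 y
  refine ⟨Polynomial.X ^ d.factorial - Polynomial.C c, Polynomial.monic_X_pow_sub_C _ (Nat.factorial_pos d).ne', ?_⟩
  simp only [Polynomial.eval₂_sub, Polynomial.eval₂_pow, Polynomial.eval₂_X, Polynomial.eval₂_C]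
  exact sub_eq_zero.2 hcy.symm

end points

end Groth.Agent.GammaD
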